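import Mathlib
import Cfsg.Agent.U4t.Defs

/-! Calculus of the elements `tv`, `ei`, `xx`, `hy` and basic facts on `SL`, `SU`, `Gam`. -/

set_option autoImplicit false
set_option linter.unusedSectionVars false

namespace Cfsg.Agent.U4t

open Cfsg Cfsg.Agent.Cl Subgroup Module

variable {F : Type*} [Field F] {σ : F →+* F} {V : Type*} [AddCommGroup V] [Module F V]

section Lin

theorem mem_SL {g : SG F V} : g ∈ SL F V ↔ ∃ k : V ≃ₗ[F] V, LinearEquiv.det k = 1 ∧ lin k = g := Iff.rfl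

theorem lin_mem_SL {k : V ≃ₗ[F] V} : lin k ∈ SL F V ↔ k ∈ slAut F V :=
  mem_map_iff_mem lin_injective

theorem fld_SL {g : SG F V} (h : g ∈ SL F V) : fld g = 1 := by
  obtain ⟨k, -, rfl⟩ := h; rfl

theorem fld_Sc {g : SG F V} (h : g ∈ Sc F V) : fld g = 1 := h.1

theorem fld_conj (g : SG F V) {x : SG F V} (h : fld x = 1) : fld (g * x * g⁻¹) = 1 := by
  rw [map_mul, map_mul, h, mul_one, map_inv, mul_inv_cancel]

theorem fld_inv_apply (g : SG F V) (a : F) : fld g⁻¹ (fld g a) = a := by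
  rw [map_inv]; exact (fld g).symm_apply_apply a

theorem fld_apply_inv (g : SG F V) (a : F) : fld g (fld g⁻¹ a) = a := by
  rw [map_inv]; exact (fld g).apply_symm_apply a

theorem det_conj [FiniteDimensional F V] (g : SG F V) (k k' : V ≃ₗ[F] V) (h : lin k' = g * lin k * g⁻¹) :
    LinearMap.det (k' : V →ₗ[F] V) = fld g (LinearMap.det (k : V →ₗ[F] V)) := by
  classical
  let b := Module.finBasis F V
  let e' : V ≃ₗ[F] (Fin (finrank F V) → F) :=
    { toFun := fun x i => fld g (b.equivFun (g⁻¹ • x) i)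
      invFun := fun u => g • b.equivFun.symm fun i => fld g⁻¹ (u i)
      map_add' := fun x y => by funext i; simp [smul_add]
      map_smul' := fun a x => by funext i; simp [smul_sm]
      left_inv := fun x => by simp only [fld_inv_apply]; simp
      right_inv := fun u => by
        funext i; simp only []; rw [inv_smul_smul, LinearEquiv.apply_symm_apply, fld_apply_inv] }
  let b' := Basis.ofEquivFun e'
  have hb : ∀ j, b' j = g • b j := fun j => by
    apply e'.injective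
    rw [Basis.coe_ofEquivFun, LinearEquiv.apply_symm_apply]
    funext i
    change _ = fld g (b.equivFun (g⁻¹ • g • b j) i)
    rw [inv_smul_smul, Basis.equivFun_self, Pi.single_apply]
    split_ifs with h1 h2 h2
    · simp
    · exact absurd h1.symm h2
    · exact absurd h2.symm h1
    · simp
  rw [← LinearMap.det_toMatrix b', ← LinearMap.det_toMatrix b, RingEquiv.map_det]
  congr 1
  ext i j
  rw [LinearMap.toMatrix_apply, RingEquiv.mapMatrix_apply, Matrix.map_apply, LinearMap.toMatrix_apply, hb]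
  have : (k' : V →ₗ[F] V) (g • b j) = g • k (b j) := by
    change lin k' • g • b j = _
    rw [h, mul_smul, mul_smul, inv_smul_smul]; rfl
  rw [this, Basis.ofEquivFun_repr_apply]
  change fld g (b.equivFun (g⁻¹ • g • k (b j)) i) = _
  rw [inv_smul_smul]; rfl

theorem conj_mem_SL [FiniteDimensional F V] (g : SG F V) {x : SG F V} (h : x ∈ SL F V) :
    g * x * g⁻¹ ∈ SL F V := by
  obtain ⟨k, hk, rfl⟩ := h
  obtain ⟨k', hk'⟩ := exists_lin (fld_conj g (fld_lin k))
  rw [← hk', lin_mem_SL, mem_slAut', det_conj g k k' hk', mem_slAut'.1 hk, map_one]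

instance [FiniteDimensional F V] : (SL F V).Normal := ⟨fun _ h g => conj_mem_SL g h⟩

instance : (Sc F V).Normal := ⟨fun x ⟨h, a, ha, e⟩ g => ⟨fld_conj g h, fld g a, by simpa using ha, fun y => by
  rw [mul_smul, mul_smul, e, smul_sm, smul_inv_smul]⟩⟩

theorem Sc_comm {s g : SG F V} (hs : s ∈ Sc F V) (hg : fld g = 1) : s * g = g * s := by
  obtain ⟨h, a, -, e⟩ := hs
  refine SG.ext2 (fun x => ?_) (by rw [map_mul, map_mul, h, hg])
  rw [mul_smul, mul_smul, e, e, smul_sm_of hg]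

theorem Sc_conj {s g : SG F V} (hs : s ∈ Sc F V) (hg : fld g = 1) : s * g * s⁻¹ = g := by
  rw [Sc_comm hs hg, mul_inv_cancel_right]

theorem eq_sc {s : SG F V} (hs : s ∈ Sc F V) : ∃ a : F, a ≠ 0 ∧ s = sc V a := by
  obtain ⟨h, a, ha, e⟩ := hs
  exact ⟨a, ha, SG.ext2 (fun x => by rw [e, sc_smul ha]) (by rw [h, fld_sc])⟩

theorem conj_mem_Fix {X : Set V} {g x : SG F V} (hg : ∀ v ∈ X, g⁻¹ • v ∈ X) (h : x ∈ Fix F X) :
    g * x * g⁻¹ ∈ Fix F X := fun v hv => by rw [mul_smul, mul_smul, h _ (hg v hv), smul_inv_smul]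

theorem mapW_eq_iff {g : SG F V} {W : Submodule F V} : mapW g W = W ↔ g ∈ St W :=
  ⟨fun h x => by rw [← smul_mem_mapW (g := g), h], fun h => Submodule.ext fun x => by
    rw [mem_mapW, h (g⁻¹ • x), smul_inv_smul]⟩

theorem mapW_mul (g k : SG F V) (W : Submodule F V) : mapW (g * k) W = mapW g (mapW k W) :=
  Submodule.ext fun x => by rw [mem_mapW, mem_mapW, mem_mapW, mul_inv_rev, mul_smul]

theorem mapW_one (W : Submodule F V) : mapW 1 W = W := Submodule.ext fun x => by simp [mem_mapW]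

theorem mapW_span (g : SG F V) (v : V) : mapW g (F ∙ v) = F ∙ (g • v) := Submodule.ext fun x => by
  rw [mem_mapW, Submodule.mem_span_singleton, Submodule.mem_span_singleton]
  constructor
  · rintro ⟨a, e⟩; exact ⟨fld g a, by rw [← smul_sm, e, smul_inv_smul]⟩
  · rintro ⟨a, rfl⟩; exact ⟨fld g⁻¹ a, by rw [smul_sm, inv_smul_smul]⟩

theorem card_mapW (g : SG F V) (W : Submodule F V) : Nat.card (mapW g W) = Nat.card W :=
  Nat.card_congr ⟨fun x => ⟨g⁻¹ • x.1, x.2⟩, fun x => ⟨g • x.1, smul_mem_mapW.2 x.2⟩,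
    fun x => Subtype.ext (smul_inv_smul _ _), fun x => Subtype.ext (inv_smul_smul _ _)⟩

theorem finrank_mapW [Finite F] [Finite V] (g : SG F V) (W : Submodule F V) :
    finrank F (mapW g W) = finrank F W := by
  have := card_mapW g W
  rw [Module.natCard_eq_pow_finrank (K := F), Module.natCard_eq_pow_finrank (K := F) (V := W)] at this
  exact Nat.pow_right_injective Finite.one_lt_card this

variable [CharP F 2]

include F in
theorem vadd_self (x : V) : x + x = 0 := by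
  rw [← two_smul F x, CharTwo.two_eq_zero, zero_smul]

include F in
theorem vneg (x : V) : -x = x := neg_eq_of_add_eq_zero_left (vadd_self (F := F) x)

include F in
theorem vsub (x y : V) : x - y = x + y := by rw [sub_eq_add_neg, vneg (F := F)]

include F in
theorem vadd_eq_zero {x y : V} : x + y = 0 ↔ x = y := by rw [← vsub (F := F), sub_eq_zero]

theorem Sc_odd [Finite F] {s : SG F V} (hs : s ∈ Sc F V) : Odd (orderOf s) := by
  obtain ⟨h, a, ha, e⟩ := hs
  have := Fintype.ofFinite F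
  have h1 : s ^ (Fintype.card F - 1) = 1 := SG.ext2 (fun x => by
    have : ∀ n : ℕ, s ^ n • x = a ^ n • x := fun n => by
      induction n with
      | zero => simp
      | succ n ih => rw [pow_succ', mul_smul, ih, e, smul_smul, pow_succ']
    rw [this, FiniteField.pow_card_sub_one_eq_one a ha, one_smul, one_smul]) (by rw [map_pow, h, one_pow, map_one])
  refine Odd.of_dvd_nat ?_ (orderOf_dvd_of_pow_eq_one h1)
  obtain ⟨n, -, hn⟩ := FiniteField.card F 2
  rw [hn]
  exact Nat.Even.sub_odd (Nat.one_le_two_pow) (Nat.even_pow.2 ⟨even_two, n.ne_zero⟩) odd_one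

theorem Sc_two [Finite F] {s : SG F V} (hs : s ∈ Sc F V) {n : ℕ} (h : s ^ 2 ^ n = 1) : s = 1 :=
  orderOf_eq_one_iff.1 (Nat.Coprime.eq_one_of_dvd
    (Nat.Coprime.pow_right n (Nat.coprime_two_right.2 (Sc_odd hs))) (orderOf_dvd_of_pow_eq_one h))

end Lin

variable {B : V →ₗ[F] V →ₛₗ[σ] F} {q : ℕ}

theorem mem_Gam {g : SG F V} : g ∈ Gam B ↔ ∀ x y, B (g • x) (g • y) = fld g (B x y) := Iff.rfl

theorem lin_mem_Gam {k : V ≃ₗ[F] V} : lin k ∈ Gam B ↔ k ∈ UG B := Iff.rfl

theorem lin_mem_SU {k : V ≃ₗ[F] V} : lin k ∈ SU B ↔ k ∈ USG B := mem_map_iff_mem lin_injective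

theorem mem_SU {g : SG F V} : g ∈ SU B ↔ g ∈ Gam B ∧ g ∈ SL F V :=
  ⟨fun ⟨k, hk, e⟩ => e ▸ ⟨hk.1, lin_mem_SL.2 hk.2⟩, fun ⟨h1, k, hk, e⟩ => ⟨k, ⟨by
    rw [← e] at h1; exact h1, hk⟩, e⟩⟩

theorem SU_le_Gam : SU B ≤ Gam B := fun _ h => (mem_SU.1 h).1

theorem SU_le_SL : SU B ≤ SL F V := fun _ h => (mem_SU.1 h).2

theorem fld_SU {g : SG F V} (h : g ∈ SU B) : fld g = 1 := fld_SL (SU_le_SL h)

theorem Gam_map {g : SG F V} (h : g ∈ Gam B) (hf : fld g = 1) (x y : V) : B (g • x) (g • y) = B x y := by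
  rw [h, hf]; rfl

theorem SU_map {g : SG F V} (h : g ∈ SU B) (x y : V) : B (g • x) (g • y) = B x y :=
  Gam_map (SU_le_Gam h) (fld_SU h) x y

theorem SU_left {g : SG F V} (h : g ∈ SU B) (x y : V) : B (g • x) y = B x (g⁻¹ • y) := by
  rw [← SU_map h x, smul_inv_smul]

theorem Gam_left {g : SG F V} (h : g ∈ Gam B) (x y : V) : B (g • x) y = fld g (B x (g⁻¹ • y)) := by
  rw [← h x, smul_inv_smul]

theorem Gam_right {g : SG F V} (h : g ∈ Gam B) (x y : V) : B x (g • y) = fld g (B (g⁻¹ • x) y) := by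
  rw [← h _ y, smul_inv_smul]

theorem Gam_zero {g : SG F V} (h : g ∈ Gam B) {x y : V} : B (g • x) (g • y) = 0 ↔ B x y = 0 := by
  rw [h, map_eq_zero]

theorem conj_mem_SU [FiniteDimensional F V] {g x : SG F V} (hg : g ∈ Gam B) (h : x ∈ SU B) :
    g * x * g⁻¹ ∈ SU B :=
  mem_SU.2 ⟨mul_mem (mul_mem hg (SU_le_Gam h)) (inv_mem hg), conj_mem_SL g (SU_le_SL h)⟩

theorem conj_mem_SU' [FiniteDimensional F V] {g x : SG F V} (hg : g ∈ Gam B) (h : x ∈ SU B) :
    g⁻¹ * x * g ∈ SU B := by simpa using conj_mem_SU (inv_mem hg) h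

theorem Iso.smul {g : SG F V} (hg : g ∈ Gam B) {v : V} (h : Iso B v) : Iso B (g • v) :=
  ⟨(smul_ne_zero_iff_ne g).2 h.ne, (Gam_zero hg).2 h.iso⟩

theorem Iso.sm {v : V} (h : Iso B v) {a : F} (ha : a ≠ 0) : Iso B (a • v) :=
  ⟨smul_ne_zero ha h.ne, by simp [h.iso]⟩

theorem TI.mapW {W : Submodule F V} (h : TI B W) {g : SG F V} (hg : g ∈ Gam B) : TI B (mapW g W) :=
  fun x hx y hy => (Gam_zero (inv_mem hg)).1 (h _ hx _ hy)

theorem MaxTI.mapW [Finite F] [Finite V] {W : Submodule F V} (h : MaxTI B W) {g : SG F V} (hg : g ∈ Gam B) :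
    MaxTI B (mapW g W) := ⟨h.ti.mapW hg, (finrank_mapW g W).trans h.dim⟩

theorem TI.le {W : Submodule F V} (h : TI B W) : W ≤ uPerp B W := fun y hy x hx => h x hx y hy

theorem TI.mono {W W' : Submodule F V} (h : TI B W) (hle : W' ≤ W) : TI B W' :=
  fun x hx y hy => h x (hle hx) y (hle hy)

theorem TI_span {v : V} (h : B v v = 0) : TI B (F ∙ v) := fun x hx y hy => by
  obtain ⟨a, rfl⟩ := Submodule.mem_span_singleton.1 hx
  obtain ⟨b, rfl⟩ := Submodule.mem_span_singleton.1 hy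
  simp [h]

theorem St_perp {g : SG F V} (hg : g ∈ Gam B) {W : Submodule F V} (h : g ∈ St W) : g ∈ St (uPerp B W) := fun y =>
  ⟨fun hy x hx => by rw [Gam_right hg, hy _ (St.mem (inv_mem h) hx), map_zero],
    fun hy x hx => (Gam_zero hg).1 (hy _ (St.mem h hx))⟩

theorem mem_AW {W : Submodule F V} {g : SG F V} : g ∈ AW B W ↔ g ∈ SU B ∧ ∀ x, g • x - x ∈ W :=
  ⟨fun h => ⟨h.1, fun x => h.2.2 x trivial⟩, fun h => ⟨h.1, fun _ => Iff.rfl, fun x _ => h.2 x⟩⟩

theorem mem_FW {W : Submodule F V} {g : SG F V} : g ∈ FW B W ↔ g ∈ SU B ∧ ∀ x ∈ W, g • x = x := Iff.rfl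

theorem mem_PW {W : Submodule F V} {g : SG F V} : g ∈ PW B W ↔ g ∈ SU B ∧ g ∈ St W := Iff.rfl

theorem mem_M1 {e : V} {g : SG F V} : g ∈ M1 B e ↔ g ∈ SU B ∧ g • e = e := and_congr_right fun _ => mem_Fix1

theorem mem_RW {W : Submodule F V} {g : SG F V} :
    g ∈ RW B W ↔ g ∈ SU B ∧ (∀ x ∈ W, g • x = x) ∧ ∀ x ∈ uPerp B W, g • x - x ∈ W :=
  ⟨fun h => ⟨h.1.1, h.1.2, h.2.2⟩, fun h => ⟨⟨h.1, h.2.1⟩, St_perp (SU_le_Gam h.1) fun x =>
    ⟨fun hx => by rwa [h.2.1 x hx], fun hx => by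
      have := h.2.1 _ hx
      rwa [MulAction.injective g this] at hx⟩, h.2.2⟩⟩

theorem AW_le (W : Submodule F V) : AW B W ≤ SU B := inf_le_left
theorem RW_le (W : Submodule F V) : RW B W ≤ SU B := inf_le_left.trans inf_le_left
theorem FW_le (W : Submodule F V) : FW B W ≤ SU B := inf_le_left
theorem PW_le (W : Submodule F V) : PW B W ≤ SU B := inf_le_left
theorem Zv_le (e : V) : Zv B e ≤ SU B := AW_le _
theorem Qv_le (e : V) : Qv B e ≤ SU B := RW_le _
theorem M1_le (e : V) : M1 B e ≤ SU B := inf_le_left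
theorem RW_le_FW (W : Submodule F V) : RW B W ≤ FW B W := inf_le_left

theorem AW_mono {W W' : Submodule F V} (h : W ≤ W') : AW B W ≤ AW B W' := fun _ hg =>
  mem_AW.2 ⟨hg.1, fun x => h ((mem_AW.1 hg).2 x)⟩

theorem FW_anti {W W' : Submodule F V} (h : W ≤ W') : FW B W' ≤ FW B W := fun _ hg => ⟨hg.1, fun x hx => hg.2 x (h hx)⟩

theorem FW_le_M1 {W : Submodule F V} {e : V} (h : e ∈ W) : FW B W ≤ M1 B e := fun _ hg => mem_M1.2 ⟨hg.1, hg.2 e h⟩

theorem FW_span (e : V) : FW B (F ∙ e) = M1 B e :=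
  le_antisymm (FW_le_M1 (Submodule.mem_span_singleton_self e)) fun g hg => ⟨hg.1, fun x hx => by
    obtain ⟨a, rfl⟩ := Submodule.mem_span_singleton.1 hx
    rw [smul_sm_of (fld_SU hg.1), (mem_M1.1 hg).2]⟩

theorem Qv_le_M1 (e : V) : Qv B e ≤ M1 B e := FW_span (B := B) e ▸ RW_le_FW _

theorem FW_le_PW (W : Submodule F V) : FW B W ≤ PW B W := fun g hg => ⟨hg.1, fun x =>
  ⟨fun hx => by rwa [hg.2 x hx], fun hx => by
    have := hg.2 _ hx
    rwa [MulAction.injective g this] at hx⟩⟩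

@[simp] theorem fld_tv (v : V) (a : F) : fld (tv B v a) = 1 := rfl
@[simp] theorem fld_ei (e u : V) (s : F) : fld (ei B e u s) = 1 := rfl
@[simp] theorem fld_xx (v w : V) : fld (xx B v w) = 1 := rfl
@[simp] theorem fld_hy (e f : V) (a : F) : fld (hy B e f a) = 1 := rfl

theorem tv_smul {v : V} (hv : B v v = 0) (a : F) (x : V) : tv B v a • x = x + (a * B x v) • v :=
  uRefl_apply_of_isotropic hv a x

theorem tv_perp {v x : V} (a : F) (hx : B x v = 0) : tv B v a • x = x := uRefl_apply_of_perp a hx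

theorem tv_zero (v : V) : tv B v 0 = 1 := by rw [tv, uRefl_zero_right, map_one]

theorem tv_zero_left (a : F) : tv B 0 a = 1 := by rw [tv, uRefl_zero_left, map_one]

theorem tv_mul {v : V} (hv : B v v = 0) (a b : F) : tv B v a * tv B v b = tv B v (a + b) := by
  rw [tv, tv, ← map_mul, uRefl_mul_of_isotropic hv]; rfl

theorem tv_sm (c : F) (v : V) (a : F) : tv B (c • v) a = tv B v (a * (c * σ c)) := by
  rw [tv, uRefl_smul]; rfl

theorem tv_mem_SL [FiniteDimensional F V] {v : V} (hv : B v v = 0) (a : F) : tv B v a ∈ SL F V :=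
  lin_mem_SL.2 (uRefl_mem_slAut hv a)

theorem tv_conj {g : SG F V} (hg : g ∈ Gam B) {v : V} (hv : B v v = 0) (a : F) :
    g * tv B v a * g⁻¹ = tv B (g • v) (fld g a) := by
  refine SG.ext2 (fun x => ?_) (fld_conj g rfl)
  rw [mul_smul, mul_smul, tv_smul hv, tv_smul ((Gam_zero hg).2 hv), smul_add, smul_inv_smul, smul_sm, map_mul,
    Gam_right hg]

theorem hy_left {e f : V} (p : UHypPair B e f) {a : F} (ha : a ≠ 0) : hy B e f a • e = a • e := p.uHyp_left ha

theorem hy_right {e f : V} (p : UHypPair B e f) {a : F} (ha : a ≠ 0) : hy B e f a • f = (σ a)⁻¹ • f :=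
  p.uHyp_right ha

theorem hy_perp {e f : V} (p : UHypPair B e f) {a : F} (ha : a ≠ 0) {x : V} (h1 : B x e = 0) (h2 : B x f = 0) :
    hy B e f a • x = x := p.uHyp_of_perp ha h1 h2

theorem hy_smul {e f : V} (p : UHypPair B e f) {a : F} (ha : a ≠ 0) (x : V) :
    hy B e f a • x = x + ((a - 1) * B x f) • e + (((σ a)⁻¹ - 1) * B x e) • f := p.uHyp_apply ha x

theorem hy_one {e f : V} (p : UHypPair B e f) : hy B e f 1 = 1 := by rw [hy, p.uHyp_one, map_one]

theorem hy_mul {e f : V} (p : UHypPair B e f) {a b : F} (ha : a ≠ 0) (hb : b ≠ 0) :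
    hy B e f a * hy B e f b = hy B e f (a * b) := by rw [hy, hy, ← map_mul, p.uHyp_mul ha hb]; rfl

variable [Finite F] [CharP F 2] [Finite V]

namespace Sp

variable (h : Sp B q)
include h

theorem ss (a : F) : σ (σ a) = a := h.herm.invol a

theorem symm (x y : V) : σ (B x y) = B y x := h.herm.symm x y

theorem zero_symm {x y : V} (e : B x y = 0) : B y x = 0 := h.herm.eq_zero_symm e

theorem aut_σ (φ : RingAut F) (a : F) : φ (σ a) = σ (φ a) := by rw [h.uf.pow, h.uf.pow, map_pow]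

theorem aut_fix (φ : RingAut F) {a : F} (ha : σ a = a) : σ (φ a) = φ a := by rw [← h.aut_σ, ha]

theorem four_le : 4 ≤ finrank F V := h.dim.1

theorem two_le_k : 2 ≤ finrank F V / 2 := by have := h.four_le; omega

theorem nontrivial : Nontrivial V := Module.nontrivial_of_finrank_pos (R := F) (by have := h.four_le; omega)

theorem exists_pow : ∃ n, 1 ≤ n ∧ q = 2 ^ n := by
  obtain ⟨p, k, hp, hc, hk, e⟩ := h.uf.exists_prime_pow
  have e2 : p = 2 := CharP.eq F hc ‹CharP F 2›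
  rw [e2] at e
  exact ⟨k, hk, e⟩

theorem q2 : q = 2 := h.dim.2.2

theorem m4 : finrank F V = 4 := h.dim.2.1

theorem exists_omega : ∃ ω : F, ω + σ ω = 1 := h.herm.toUInvol.exists_trace_one

theorem fld_of_sq {φ : RingAut F} (e : φ * φ = 1) : φ = 1 ∨ ∀ a, φ a = σ a := by
  by_cases h1 : φ = 1
  · exact .inl h1
  right
  have hu : UInvol (φ : F →+* F) := UInvol.of_ne_id (fun e' => h1 (RingEquiv.ext fun a => congrArg (· a) e'))
    fun a => congrArg (· a) e
  obtain ⟨q', hq'⟩ := hu.exists_uField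
  have : q' = q := Nat.pow_left_injective two_ne_zero (hq'.card.symm.trans h.uf.card)
  intro a
  rw [h.uf.pow, ← this]; exact hq'.pow a

theorem ei0 {e u : V} (he : B e e = 0) (hu : B u e = 0) : UEich0 B e u := h.herm.uEich0 he hu

theorem tv_mem {v : V} (hv : B v v = 0) {a : F} (ha : σ a = a) : tv B v a ∈ SU B :=
  lin_mem_SU.2 (h.herm.uRefl_mem_USG hv (by rw [ha, CharTwo.add_self_eq_zero]))

theorem tv_sq {v : V} (hv : B v v = 0) (a : F) : tv B v a * tv B v a = 1 := by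
  rw [tv_mul hv, CharTwo.add_self_eq_zero, tv_zero]

theorem tv_eq_one {v : V} (hv : Iso B v) {a : F} : tv B v a = 1 ↔ a = 0 := by
  rw [← h.herm.uRefl_eq_one_iff hv.ne (c := a) (by simp [hv.iso])]
  exact ⟨fun e => lin_injective e, fun e => by rw [tv, e, map_one]⟩

theorem tv_inj {v : V} (hv : Iso B v) {a b : F} (e : tv B v a = tv B v b) : a = b := by
  rw [← CharTwo.add_eq_zero, ← h.tv_eq_one hv, ← tv_mul hv.iso, e, h.tv_sq hv.iso]

theorem ei_smul {e u : V} (he : B e e = 0) (hu : B u e = 0) (s : F) (x : V) :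
    ei B e u s • x = x + B x u • e + B x e • u + (s * B x e) • e := by
  rw [← vsub (F := F) (x + B x u • e)]; exact (h.ei0 he hu).apply s x

theorem ei_mem_SL {e u : V} (he : B e e = 0) (hu : B u e = 0) (s : F) : ei B e u s ∈ SL F V :=
  lin_mem_SL.2 ((h.ei0 he hu).mem_slAut s)

theorem ei_mem {e u : V} (he : B e e = 0) (hu : B u e = 0) {s : F} (hs : s + σ s = B u u) : ei B e u s ∈ SU B :=
  lin_mem_SU.2 (h.herm.uEich_mem (h.ei0 he hu) (by rw [hs, CharTwo.add_self_eq_zero]))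

theorem ei_mul {e u u' : V} (he : B e e = 0) (hu : B u e = 0) (hu' : B u' e = 0) (s s' : F) :
    ei B e u s * ei B e u' s' = ei B e (u + u') (s + s' + B u' u) := by
  rw [ei, ei, ← map_mul, (h.ei0 he hu).mul (h.ei0 he hu'), CharTwo.sub_eq_add]; rfl

theorem ei_zero {e : V} (he : B e e = 0) (s : F) : ei B e 0 s = tv B e s := by rw [ei, uEich_zero he]; rfl

theorem ei_add_smul {e u : V} (he : B e e = 0) (hu : B u e = 0) (c s : F) :
    ei B e (u + c • e) s = ei B e u (s + (c + σ c)) := by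
  rw [ei, (h.ei0 he hu).add_smul_self, CharTwo.sub_eq_add, add_assoc, add_comm (σ c)]; rfl

theorem ei_sm {e u : V} (he : B e e = 0) (hu : B u e = 0) (a s : F) :
    ei B (a • e) u s = ei B e (σ a • u) (a * σ a * s) := by rw [ei, h.herm.uEich_smul (h.ei0 he hu)]; rfl

theorem ei_conj {g : SG F V} (hg : g ∈ Gam B) {e u : V} (he : B e e = 0) (hu : B u e = 0) (s : F) :
    g * ei B e u s * g⁻¹ = ei B (g • e) (g • u) (fld g s) := by
  refine SG.ext2 (fun x => ?_) (fld_conj g rfl)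
  rw [mul_smul, mul_smul, h.ei_smul he hu, h.ei_smul ((Gam_zero hg).2 he) ((Gam_zero hg).2 hu)]
  simp only [smul_add, smul_inv_smul, smul_sm, map_mul, Gam_right hg]

theorem ei_comm {e u u' : V} (he : B e e = 0) (hu : B u e = 0) (hu' : B u' e = 0) (s s' : F) :
    ei B e u s * ei B e u' s' = ei B e u' s' * ei B e u s * tv B e (B u u' + B u' u) := by
  rw [← h.ei_zero he, h.ei_mul he hu hu', h.ei_mul he hu' hu, h.ei_mul he (by simp [hu, hu']) (by simp), add_zero,
    add_comm u]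
  congr 1
  simp only [map_zero, LinearMap.zero_apply]
  linear_combination (-B u u') * (CharTwo.two_eq_zero : (2 : F) = 0)

theorem ei_self {e u : V} (he : B e e = 0) (hu : B u e = 0) (s : F) : ei B e u s • e = e :=
  (h.ei0 he hu).apply_self s

theorem ei_perp {e u : V} (he : B e e = 0) (hu : B u e = 0) (s : F) {x : V} (hx : B x e = 0) :
    ei B e u s • x = x + B x u • e := (h.ei0 he hu).apply_of_perp s hx

theorem mem_Qv {e : V} (he : Iso B e) {g : SG F V} :
    g ∈ Qv B e ↔ ∃ u s, B u e = 0 ∧ s + σ s = B u u ∧ g = ei B e u s := by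
  constructor
  · intro hg
    obtain ⟨⟨k, hk, rfl⟩, h1, h2⟩ := mem_RW.1 hg
    obtain ⟨u, s, hu, hs, rfl⟩ := (h.herm.mem_uEichGroup_iff he.ne he.iso).2
      ⟨hk.1, h1 e (Submodule.mem_span_singleton_self e), fun x hx => by
        obtain ⟨a, ha⟩ := Submodule.mem_span_singleton.1 (h2 x (mem_uPerp_span_singleton.2 (h.zero_symm hx)))
        exact ⟨a, by rw [ha]; simp⟩⟩
    exact ⟨u, s, hu, CharTwo.add_eq_zero.1 hs, rfl⟩
  · rintro ⟨u, s, hu, hs, rfl⟩
    refine mem_RW.2 ⟨h.ei_mem he.iso hu hs, fun x hx => ?_, fun x hx => ?_⟩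
    · obtain ⟨a, rfl⟩ := Submodule.mem_span_singleton.1 hx
      rw [smul_sm_of rfl, h.ei_self he.iso hu]
    · rw [h.ei_perp he.iso hu s (h.zero_symm (mem_uPerp_span_singleton.1 hx)), add_sub_cancel_left]
      exact Submodule.smul_mem _ _ (Submodule.mem_span_singleton_self e)

theorem mem_Zv {e : V} (he : Iso B e) {g : SG F V} : g ∈ Zv B e ↔ ∃ a, σ a = a ∧ g = tv B e a := by
  constructor
  · intro hg
    obtain ⟨⟨k, hk, rfl⟩, h2⟩ := mem_AW.1 hg
    obtain ⟨c, hc, rfl⟩ := (h.herm.mem_uTvGroup_iff he.ne he.iso).2 ⟨hk.1, fun x => by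
      obtain ⟨a, ha⟩ := Submodule.mem_span_singleton.1 (h2 x)
      exact ⟨a, by rw [ha]; simp⟩⟩
    exact ⟨c, (CharTwo.add_eq_zero.1 hc).symm, rfl⟩
  · rintro ⟨a, ha, rfl⟩
    refine mem_AW.2 ⟨h.tv_mem he.iso ha, fun x => ?_⟩
    rw [tv_smul he.iso, add_sub_cancel_left]
    exact Submodule.smul_mem _ _ (Submodule.mem_span_singleton_self e)

theorem xx_smul {v w : V} (hv : B v v = 0) (hw : B w v = 0) (x : V) :
    xx B v w • x = x + B x w • v + B x v • w := by rw [xx, h.ei_smul hv hw, zero_mul, zero_smul, add_zero]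

theorem xx_mem {v w : V} (hv : B v v = 0) (hw : B w v = 0) (hww : B w w = 0) : xx B v w ∈ SU B :=
  h.ei_mem hv hw (by simp [hww])

theorem xx_symm {v w : V} (hv : B v v = 0) (hw : B w v = 0) (hww : B w w = 0) : xx B v w = xx B w v :=
  SG.ext2 (fun x => by rw [h.xx_smul hv hw, h.xx_smul hww (h.zero_symm hw), add_right_comm]) rfl

theorem xx_zero {v : V} (hv : B v v = 0) : xx B v 0 = 1 := by rw [xx, h.ei_zero hv, tv_zero]

theorem xx_mul {v w w' : V} (hv : B v v = 0) (hw : B w v = 0) (hw' : B w' v = 0) :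
    xx B v w * xx B v w' = xx B v (w + w') * tv B v (B w' w) := by
  rw [xx, xx, xx, ← h.ei_zero hv, h.ei_mul hv hw hw', h.ei_mul hv (by simp [hw, hw']) (by simp)]; simp

theorem xx_add {v w w' : V} (hv : B v v = 0) (hw : B w v = 0) (hw' : B w' v = 0) (hww : B w' w = 0) :
    xx B v (w + w') = xx B v w * xx B v w' := by rw [h.xx_mul hv hw hw', hww, tv_zero, mul_one]

theorem xx_sq {v w : V} (hv : B v v = 0) (hw : B w v = 0) (hww : B w w = 0) : xx B v w * xx B v w = 1 := by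
  rw [← h.xx_add hv hw hw hww, vadd_self (F := F), h.xx_zero hv]

theorem xx_sm {v w : V} (hv : B v v = 0) (hw : B w v = 0) (a : F) : xx B (a • v) w = xx B v (σ a • w) := by
  rw [xx, h.ei_sm hv hw, mul_zero]; rfl

theorem xx_add_smul {v w : V} (hv : B v v = 0) (hw : B w v = 0) (c : F) :
    xx B v (w + c • v) = xx B v w * tv B v (c + σ c) := by
  rw [xx, xx, h.ei_add_smul hv hw, ← h.ei_zero hv, h.ei_mul hv hw (by simp)]; simp

theorem xx_conj {g : SG F V} (hg : g ∈ Gam B) {v w : V} (hv : B v v = 0) (hw : B w v = 0) :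
    g * xx B v w * g⁻¹ = xx B (g • v) (g • w) := by rw [xx, h.ei_conj hg hv hw, map_zero]; rfl

theorem xx_comm {v w w' : V} (hv : B v v = 0) (hw : B w v = 0) (hw' : B w' v = 0) :
    xx B v w * xx B v w' = xx B v w' * xx B v w * tv B v (B w w' + B w' w) := h.ei_comm hv hw hw' 0 0

theorem tv_add {v w : V} (hv : B v v = 0) (hw : B w v = 0) (hww : B w w = 0) {a : F} (ha : σ a = a) :
    tv B (v + w) a = tv B v a * tv B w a * xx B (a • v) w := by
  have hw' := h.zero_symm hw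
  refine SG.ext2 (fun x => ?_) rfl
  rw [mul_smul, mul_smul, h.xx_smul (by simp [hv]) (by simp [hw]), tv_smul hww, tv_smul hv,
    tv_smul (by simp [hv, hw, hw', hww])]
  simp only [map_add, LinearMap.add_apply, map_smul, LinearMap.smul_apply, map_smulₛₗ, hv, hw, hw', hww, ha,
    smul_eq_mul, RingHom.id_apply]
  module

theorem hy_mem_Gam {e f : V} (p : UHypPair B e f) {a : F} (ha : a ≠ 0) : hy B e f a ∈ Gam B :=
  h.herm.uHyp_mem p ha

theorem hy_mem {e f : V} (p : UHypPair B e f) {a : F} (ha : a ≠ 0) (hs : σ a = a) : hy B e f a ∈ SU B :=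
  lin_mem_SU.2 (mem_USG'.2 ⟨h.herm.uHyp_mem p ha, by rw [p.det_uHyp ha, hs, mul_inv_cancel₀ ha]⟩)

theorem hy_mul_mem {e f e' f' : V} (p : UHypPair B e f) (p' : UHypPair B e' f') {a b : F} (ha : a ≠ 0) (hb : b ≠ 0)
    (hs : σ (a * b) = a * b) : hy B e f a * hy B e' f' b ∈ SU B := by
  rw [hy, hy, ← map_mul]
  refine lin_mem_SU.2 (mem_USG'.2 ⟨mul_mem (h.herm.uHyp_mem p ha) (h.herm.uHyp_mem p' hb), ?_⟩)
  rw [LinearEquiv.coe_toLinearMap_mul, map_mul, p.det_uHyp ha, p'.det_uHyp hb, mul_mul_mul_comm, ← mul_inv,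
    ← map_mul, hs, mul_inv_cancel₀ (mul_ne_zero ha hb)]

theorem sc_mem_Gam {a : F} (ha : a * σ a = 1) : sc V a ∈ Gam B := fun x y => by
  have a0 : a ≠ 0 := by rintro rfl; simp at ha
  rw [sc_smul a0, sc_smul a0, fld_sc]
  simp only [map_smul, LinearMap.smul_apply, map_smulₛₗ, smul_eq_mul, RingHom.id_apply]
  change _ = B x y
  linear_combination B x y * ha

/-- Linear isometries of 2-power order have determinant one. -/
theorem two_mem_SU {g : SG F V} (hg : g ∈ Gam B) (hf : fld g = 1) {n : ℕ} (e : g ^ 2 ^ n = 1) : g ∈ SU B := by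
  obtain ⟨k, rfl⟩ := exists_lin hf
  refine lin_mem_SU.2 ⟨hg, ?_⟩
  have h1 : LinearEquiv.det k ^ 2 ^ n = 1 := by
    rw [← map_pow, lin_injective ((map_pow lin k _).trans (e.trans (map_one lin).symm)), map_one]
  apply Units.ext
  have h2 : ((LinearEquiv.det k : Fˣ) : F) ^ 2 ^ n = 1 ^ 2 ^ n := by
    rw [← Units.val_pow_eq_pow_val, h1, one_pow]; rfl
  exact (iterateFrobenius_inj F 2 n) h2

theorem exists_SU_iso {v w : V} (hv : Iso B v) (hw : Iso B w) : ∃ g ∈ SU B, g • v = w := by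
  obtain ⟨g, hg, e⟩ := h.herm.exists_USG_isotropic (by have := h.four_le; omega) hv.ne hv.iso hw.ne hw.iso
  exact ⟨lin g, lin_mem_SU.2 hg, e⟩

theorem exists_pair {v : V} (hv : Iso B v) : ∃ w, UHypPair B v w := h.herm.exists_uHypPair hv.ne hv.iso

theorem exists_iso : ∃ e, Iso B e := by
  obtain ⟨e, f, p⟩ := h.herm.exists_uHypPair' (by have := h.four_le; omega)
  exact ⟨e, p.left_ne_zero, p.left⟩

theorem SU_gen : SU B = closure {g | ∃ v a, B v v = 0 ∧ σ a = a ∧ g = tv B v a} := by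
  rw [SU, ← h.herm.closure_uTransvs h.uf (by have := h.four_le; omega), MonoidHom.map_closure]
  congr 1
  ext g
  constructor
  · rintro ⟨_, ⟨v, a, hv, ha, rfl⟩, rfl⟩
    exact ⟨v, a, hv, (CharTwo.add_eq_zero.1 ha).symm, rfl⟩
  · rintro ⟨v, a, hv, ha, rfl⟩
    exact ⟨_, ⟨v, a, hv, by rw [ha, CharTwo.add_self_eq_zero], rfl⟩, rfl⟩

theorem SU_perfect : ⁅SU B, SU B⁆ = SU B := by
  have := h.herm.commutator_USG h.uf (by have := h.four_le; omega) (by have := h.four_le; omega)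
  rw [SU, ← map_commutator, ← (USG B).range_subtype, MonoidHom.range_eq_map, ← map_commutator,
    ← commutator_def, this]

theorem AW_fix {W : Submodule F V} {g : SG F V} (hg : g ∈ AW B W) {x : V} (hx : x ∈ uPerp B W) : g • x = x := by
  refine h.herm.ext_right fun y => ?_
  have := hx _ ((mem_AW.1 (inv_mem hg)).2 y)
  rw [map_sub, LinearMap.sub_apply, sub_eq_zero] at this
  rw [← this, ← SU_map hg.1 (g⁻¹ • y), smul_inv_smul]

theorem mem_AW_of_fix {W : Submodule F V} {g : SG F V} (hg : g ∈ SU B) (hx : ∀ x ∈ uPerp B W, g • x = x) :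
    g ∈ AW B W := mem_AW.2 ⟨hg, fun y => by
  rw [← h.herm.uPerp_uPerp W]
  intro x hx'
  rw [map_sub, ← hx x hx', SU_map hg, hx x hx', sub_self]⟩

theorem AW_le_RW {W : Submodule F V} (hW : TI B W) : AW B W ≤ RW B W := fun _ hg =>
  mem_RW.2 ⟨hg.1, fun _ hx => h.AW_fix hg (hW.le hx), fun x _ => (mem_AW.1 hg).2 x⟩

theorem Zv_le_Qv {e : V} (he : B e e = 0) : Zv B e ≤ Qv B e := h.AW_le_RW (TI_span he)

theorem tv_mem_AW {W : Submodule F V} {v : V} (hv : v ∈ W) (hi : B v v = 0) {a : F} (ha : σ a = a) :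
    tv B v a ∈ AW B W := mem_AW.2 ⟨h.tv_mem hi ha, fun x => by
  rw [tv_smul hi, add_sub_cancel_left]; exact W.smul_mem _ hv⟩

theorem xx_mem_AW {W : Submodule F V} (hW : TI B W) {v w : V} (hv : v ∈ W) (hw : w ∈ W) : xx B v w ∈ AW B W :=
  mem_AW.2 ⟨h.xx_mem (hW v hv v hv) (hW w hw v hv) (hW w hw w hw), fun x => by
    rw [h.xx_smul (hW v hv v hv) (hW w hw v hv), add_assoc, add_sub_cancel_left]
    exact add_mem (W.smul_mem _ hv) (W.smul_mem _ hw)⟩

/-- The pointwise stabilizer of `W` centralizes `A_W`. -/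
theorem AW_comm {W : Submodule F V} {g a : SG F V} (hg : g ∈ FW B W) (ha : a ∈ AW B W) : g * a = a * g := by
  refine SG.ext2 (fun x => ?_) (by rw [map_mul, map_mul, fld_SU hg.1, fld_SU ha.1])
  have h1 := hg.2 _ ((mem_AW.1 ha).2 x)
  have h2 : a • (g • x - x) = g • x - x := h.AW_fix ha fun y hy => by
    rw [map_sub, ← hg.2 y hy, SU_map hg.1, hg.2 y hy, sub_self]
  rw [smul_sub] at h1 h2
  rw [mul_smul, mul_smul, sub_eq_iff_eq_add.1 h1, sub_eq_iff_eq_add.1 h2]; abel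

theorem AW_sq {W : Submodule F V} (hW : TI B W) {a : SG F V} (ha : a ∈ AW B W) : a * a = 1 := by
  refine SG.ext2 (fun x => ?_) (by rw [map_mul, fld_SU ha.1]; rfl)
  have := h.AW_fix ha (hW.le ((mem_AW.1 ha).2 x))
  rw [smul_sub, sub_eq_iff_eq_add, vsub (F := F), add_right_comm, vadd_self (F := F), zero_add] at this
  rw [mul_smul, this, one_smul]

theorem AW_ab {W : Submodule F V} (hW : TI B W) {a b : SG F V} (ha : a ∈ AW B W) (hb : b ∈ AW B W) :
    a * b = b * a := h.AW_comm (RW_le_FW W (h.AW_le_RW hW ha)) hb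

theorem conj_mem_AW {W : Submodule F V} {g a : SG F V} (hg : g ∈ Gam B) (ha : a ∈ AW B W) :
    g * a * g⁻¹ ∈ AW B (mapW g W) := mem_AW.2 ⟨conj_mem_SU hg ha.1, fun x => by
  rw [mem_mapW, smul_sub, mul_smul, mul_smul, inv_smul_smul]; exact (mem_AW.1 ha).2 _⟩

theorem conj_mem_AW' {W : Submodule F V} {g a : SG F V} (hg : g ∈ Gam B) (hW : g ∈ St W) (ha : a ∈ AW B W) :
    g * a * g⁻¹ ∈ AW B W := by simpa [mapW_eq_iff.2 hW] using h.conj_mem_AW hg ha

theorem conj_mem_FW {W : Submodule F V} {g a : SG F V} (hg : g ∈ Gam B) (ha : a ∈ FW B W) :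
    g * a * g⁻¹ ∈ FW B (mapW g W) := ⟨conj_mem_SU hg ha.1, fun x hx => by
  rw [mul_smul, mul_smul, ha.2 _ hx, smul_inv_smul]⟩

theorem conj_mem_M1 {e : V} {g a : SG F V} (hg : g ∈ Gam B) (ha : a ∈ M1 B e) :
    g * a * g⁻¹ ∈ M1 B (g • e) := mem_M1.2 ⟨conj_mem_SU hg ha.1, by
  rw [mul_smul, mul_smul, inv_smul_smul, (mem_M1.1 ha).2]⟩

theorem conj_mem_RW {W : Submodule F V} {g a : SG F V} (hg : g ∈ Gam B) (ha : a ∈ RW B W) :
    g * a * g⁻¹ ∈ RW B (mapW g W) := by
  obtain ⟨h1, h2, h3⟩ := mem_RW.1 ha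
  refine mem_RW.2 ⟨conj_mem_SU hg h1, fun x hx => by rw [mul_smul, mul_smul, h2 _ hx, smul_inv_smul], fun x hx => ?_⟩
  rw [mem_mapW, smul_sub, mul_smul, mul_smul, inv_smul_smul]
  exact h3 _ fun y hy => by rw [← Gam_zero hg, smul_inv_smul]; exact hx _ (smul_mem_mapW.2 hy)

theorem M1_sm (e : V) {a : F} (ha : a ≠ 0) : M1 B (a • e) = M1 B e := by
  rw [← FW_span, ← FW_span, Submodule.span_singleton_smul_eq ha.isUnit]

theorem Yv_le {e w : V} (he : B e e = 0) (hw : B w e = 0) (hww : B w w = 0) : Yv B e w ≤ SU B :=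
  (closure_le _).2 (by rintro _ ⟨c, -, rfl⟩; exact h.xx_mem he (by simp [hw]) (by simp [hww]))

theorem mem_Yv {e w : V} (he : B e e = 0) (hw : B w e = 0) (hww : B w w = 0) {g : SG F V} :
    g ∈ Yv B e w ↔ ∃ c : F, σ c = c ∧ g = xx B e (c • w) := by
  refine ⟨fun hg => ?_, fun hg => subset_closure hg⟩
  induction hg using closure_induction with
  | mem x hx => exact hx
  | one => exact ⟨0, map_zero σ, by rw [zero_smul, h.xx_zero he]⟩
  | mul x y _ _ hx hy =>
    obtain ⟨c, hc, rfl⟩ := hx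
    obtain ⟨d, hd, rfl⟩ := hy
    exact ⟨c + d, by rw [map_add, hc, hd], by
      rw [add_smul, h.xx_add he (by simp [hw]) (by simp [hw]) (by simp [hww])]⟩
  | inv x _ hx =>
    obtain ⟨c, hc, rfl⟩ := hx
    exact ⟨c, hc, inv_eq_of_mul_eq_one_right (h.xx_sq he (by simp [hw]) (by simp [hww]))⟩

end Sp

end Cfsg.Agent.U4t
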