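import Mathlib
import Cfsg.Agent.U4t.Cfg

/-! More definitions. -/

set_option autoImplicit false
set_option linter.unusedSectionVars false

noncomputable section

namespace Cfsg.Agent.U4t

open Cfsg Cfsg.Agent.Cl Cfsg.Agent.Loc.Mss Subgroup Module
open Cfsg.Agent.StdB (C1 mem_C1 El)
open scoped commutatorElement

variable {F : Type*} [Field F] {σ : F →+* F} {V : Type*} [AddCommGroup V] [Module F V]
  {B : V →ₗ[F] V →ₛₗ[σ] F} {q : ℕ} {G : Type*} [Group G]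

open Classical in
variable (B) in
/-- The transvection `x ↦ x + a B(x, v) w`. -/
def trv (w v : V) (a : F) : SG F V :=
  if h : B w v = 0 then lin (LinearEquiv.transvection (f := a • B.flip v) (v := w) (by simp [h])) else 1

theorem trv_smul {w v : V} (h : B w v = 0) (a : F) (x : V) : trv B w v a • x = x + (a * B x v) • w := by
  rw [trv, dif_pos h]; rfl

@[simp] theorem fld_trv (w v : V) (a : F) : fld (trv B w v a) = 1 := by
  unfold trv; split_ifs <;> rfl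

theorem trv_self {v : V} (h : B v v = 0) (a : F) : trv B v v a = tv B v a :=
  SG.ext2 (fun x => by rw [trv_smul h, tv_smul h]) (by simp)

theorem trv_mem_SL [FiniteDimensional F V] (w v : V) (a : F) : trv B w v a ∈ SL F V := by
  unfold trv; split_ifs
  · exact mem_SL.2 ⟨_, LinearEquiv.transvection.det_eq_one _, rfl⟩
  · exact one_mem _

variable (B) in
/-- The maps `xx e f` with `e ∈ W`, `e ⊥ f`: on `W` the transvections with axis `W ∩ f^⊥`. -/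
def TH (W : Submodule F V) (f : V) : Subgroup (SG F V) := closure {g | ∃ e ∈ W, B f e = 0 ∧ g = xx B e f}

namespace Cfg

variable {c : Cfg B q G}

/-- The relations in the field case. -/
structure Pt.RF (s : c.Pt) (θ : F) : Prop extends s.Rel (θ * θ + θ) where
  hθ : θ + σ θ = 1

/-- The extension of `ψ` to the special linear group of a subspace. -/
structure Pt.Rho (s : c.Pt) (θ : F) (Y : Submodule F V) (ρ : SLY B Y →* G) : Prop where
  tv : ∀ v ∈ Y, B v v = 0 → ∀ a, ev ρ (tv B v a) = s.zh θ v a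
  res : ∀ x ∈ SU B ⊓ SLY B Y, ev ρ x = c.Ψ x

namespace Pd

variable (p : c.Pd)

theorem ev2 (x : SG F V) : ev p.ψ2 x = c.t * ev p.ψ1 x * c.t := by rw [ψ2, ev_cjh, c.t_inv]

theorem ev1 (x : SG F V) : c.t * ev p.ψ2 x * c.t = ev p.ψ1 x := by
  rw [ev2, ← mul_assoc, ← mul_assoc, c.t2, one_mul, mul_assoc, c.t2, mul_one]

theorem L2_eq : p.L2 = cj(c.t, p.L1) := range_cjh _

theorem cj_L2 : cj(c.t, p.L2) = p.L1 := by rw [L2_eq, cj_cj, c.t2, cj_one]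

theorem comm12 (x y : SG F V) : ev p.ψ1 x * ev p.ψ2 y = ev p.ψ2 y * ev p.ψ1 x := by
  rw [ev2]; exact p.comm x y

theorem diag12 (x : SG F V) : c.Ψ x = ev p.ψ1 x * ev p.ψ2 x := by rw [ev2]; exact p.diag x

/-- The factors interchanged. -/
def sym : c.Pd where
  ψ1 := p.ψ2
  ker := p.ker.cjh _
  comm x y := by rw [ev1, comm12]
  diag x := by rw [ev1, ← comm12, diag12]
  odd o ho h := by
    have := conj_mem_cj (g := c.t) (p.odd o ho h)
    rwa [cj_cent, ← L2_eq, ← mem_C1.1 ho.1, mul_inv_cancel_right] at this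
  act g hg γ hγ h := by
    refine (p.act g hg γ hγ h).imp (fun h => ?_) fun h => ?_
    · have := h.cjh c.t
      rwa [← mem_C1.1 hg, mul_inv_cancel_right] at this
    · have := h.cjh c.t
      rwa [← mul_assoc, mul_inv_cancel_right, ← mem_C1.1 hg] at this
  can v hv y hy y2 a ha a0 e := by
    have := p.can v hv y hy y2 a ha a0 e
    rw [show cj(c.t, p.ψ2.range) = p.L1 from p.cj_L2, sup_comm]
    rwa [← L2_eq] at this

theorem sym_ψ1 : p.sym.ψ1 = p.ψ2 := rfl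

theorem sym_ψ2 : p.sym.ψ2 = p.ψ1 :=
  MonoidHom.ext fun x => by rw [← ev_coe, ← ev_coe, ev2, sym_ψ1, ev1]

theorem sym_L1 : p.sym.L1 = p.L2 := rfl
theorem sym_L2 : p.sym.L2 = p.L1 := by rw [L2, sym_ψ2]
theorem sym_G0 : p.sym.G0 = p.G0 := by rw [G0, sym_L2, sym_L1, sup_comm]; rfl
theorem sym_M0 : p.sym.M0 = p.M0 := by rw [M0, sym_L2, sym_L1, inf_comm]; rfl
theorem sym_M : p.sym.M = p.M := by rw [M, sym_G0]; rfl
theorem sym_J (W : Submodule F V) : p.sym.J W = p.J W := by rw [J, sym_ψ2, sym_ψ1, sup_comm]; rfl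

end Pd

end Cfg

variable (G) in
/-- The abstract situation of the action of `N(J)` on `J = A₁ × A₂`. -/
structure Jn where
  A1 : Subgroup G
  A2 : Subgroup G
  S : Subgroup G
  P : Subgroup G
  T : Subgroup G
  t : G
  t2 : t * t = 1
  tA : cj(t, A1) = A2
  el : El (A1 ⊔ A2)
  dj : A1 ⊓ A2 = ⊥
  syl : Syl 2 S 𝐍[A1 ⊔ A2]
  tS : t ∈ S
  sw : ∀ s ∈ S, s ∈ 𝐍[A1] ⊓ 𝐍[A2] ∨ s * t ∈ 𝐍[A1] ⊓ 𝐍[A2]
  TS : T ≤ S ⊓ 𝐂[A2]
  Tnc : ¬ T ≤ 𝐂[A1]
  Tn : S ⊓ (𝐍[A1] ⊓ 𝐍[A2]) ≤ 𝐍[T ⊔ 𝐂[A1 ⊔ A2]]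
  fx : A1 ⊓ 𝐂[T] ≤ ⁅A1, T⁆
  Pn : P ≤ 𝐍[A2] ⊓ 𝐂[A1]
  Pc : A2 ≤ ⁅A2, P⁆
  pure : ∀ n ∈ 𝐍[A1 ⊔ A2], cj(n, T) ≤ S → cj(n, T) ≤ 𝐂[A1] ∨ cj(n, T) ≤ 𝐂[A2]

end Cfsg.Agent.U4t

end
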