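import Mathlib
import Cfsg.Agent.U4t.Cfg2

/-! Restriction of a configuration to a subgroup; a Sylow subgroup of `C(t)`. -/

set_option autoImplicit false
set_option linter.unusedSectionVars false

noncomputable section

namespace Cfsg.Agent.U4t

open Cfsg Cfsg.Agent.Cl Cfsg.Agent.Loc.Mss Subgroup Module
open Cfsg.Agent.StdB (C1 mem_C1 El)
open scoped commutatorElement

variable {F : Type*} [Field F] {σ : F →+* F} {V : Type*} [AddCommGroup V] [Module F V]
  {B : V →ₗ[F] V →ₛₗ[σ] F} {q : ℕ} {G : Type*} [Group G]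

theorem ev_cod {Γ : Type*} [Group Γ] {D : Subgroup Γ} (f : D →* G) (H : Subgroup G) (h : ∀ x, f x ∈ H) (x : Γ) :
    ((ev (f.codRestrict H h) x : H) : G) = ev f x := by
  unfold ev; split_ifs <;> rfl

theorem im_cod {Γ : Type*} [Group Γ] {D : Subgroup Γ} (f : D →* G) (H : Subgroup G) (h : ∀ x, f x ∈ H)
    (P : Subgroup Γ) : im (f.codRestrict H h) P = (im f P).subgroupOf H := by
  ext ⟨g, hg⟩
  exact ⟨fun ⟨x, h1, hx⟩ => ⟨x, h1, congrArg Subtype.val hx⟩, fun ⟨x, h1, hx⟩ => ⟨x, h1, Subtype.ext hx⟩⟩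

theorem range_cod {Γ : Type*} [Group Γ] (f : Γ →* G) (H : Subgroup G) (h : ∀ x, f x ∈ H) :
    (f.codRestrict H h).range = f.range.subgroupOf H := by
  ext ⟨g, hg⟩
  exact ⟨fun ⟨x, hx⟩ => ⟨x, congrArg Subtype.val hx⟩, fun ⟨x, hx⟩ => ⟨x, Subtype.ext hx⟩⟩

namespace Cfg

variable (c : Cfg B q G)

/-- The restriction to a subgroup. -/
def sub (H : Subgroup G) (hL : c.L ≤ H) (ht : c.t ∈ H) : Cfg B q H where
  sp := c.sp
  ψ := c.ψ.codRestrict H fun x => hL ⟨x, rfl⟩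
  ker x hx e := c.ker x hx (by rw [← ev_cod c.ψ H (fun x => hL ⟨x, rfl⟩), e]; rfl)
  t := ⟨c.t, ht⟩
  t2 := Subtype.ext c.t2
  t1 h := c.t1 (congrArg Subtype.val h)
  cen := by rw [range_cod, cent_subgroupOf hL]; exact c.cen
  nrm g hg := by
    rw [range_cod, norm_subgroupOf hL]
    exact c.nrm (mem_C1.2 (congrArg Subtype.val (mem_C1.1 hg)))
  cyc P hP h2 := by
    have := c.cyc (P.map H.subtype) (hP.map _) (by
      rintro _ ⟨g, hg, rfl⟩
      obtain ⟨h3, h4⟩ := h2 hg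
      rw [range_cod, cent_subgroupOf hL] at h4
      exact ⟨mem_C1.2 (congrArg Subtype.val (mem_C1.1 h3)), h4⟩)
    exact isCyclic_of_surjective (P.equivMapOfInjective _ H.subtype_injective).symm.toMonoidHom
      (MulEquiv.surjective _)

variable {H : Subgroup G} (hL : c.L ≤ H) (ht : c.t ∈ H)

theorem sub_t : ((c.sub H hL ht).t : G) = c.t := rfl
theorem sub_L : (c.sub H hL ht).L = c.L.subgroupOf H := range_cod _ _ _
theorem sub_I (P : Subgroup (SG F V)) : (c.sub H hL ht).I P = (c.I P).subgroupOf H := im_cod _ _ _ P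
theorem sub_Ψ (x : SG F V) : ((c.sub H hL ht).Ψ x : G) = c.Ψ x := ev_cod c.ψ H (fun x => hL ⟨x, rfl⟩) x
theorem sub_z (v : V) (a : F) : ((c.sub H hL ht).z v a : G) = c.z v a := c.sub_Ψ hL ht _
theorem sub_x (v w : V) : ((c.sub H hL ht).x v w : G) = c.x v w := c.sub_Ψ hL ht _

theorem mem_sub_K0 {g : H} : g ∈ (c.sub H hL ht).K0 ↔ (g : G) ∈ c.K0 := by
  change g ∈ C1 _ ⊓ 𝐂[(c.sub H hL ht).L] ↔ _
  rw [sub_L, cent_subgroupOf hL, mem_inf, mem_inf, mem_C1, mem_C1, Subtype.ext_iff]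
  rfl

/-- A Sylow 2-subgroup of `C(t)` with its action on the unitary space. -/
structure Ts where
  T : Subgroup G
  α : T →* SG F V
  e : V
  W : Submodule F V
  syl : Syl 2 T c.C
  gam : ∀ s, α s ∈ Gam B
  act : ∀ s : T, Act c.ψ s (α s)
  iso : Iso B e
  max : MaxTI B W
  eW : e ∈ W
  fix : ∀ s, α s • e = e
  st : ∀ s, α s ∈ St W

/-- The normalizer of the large subgroup in the field case. -/
def Fd.M {c : Cfg B q G} (f : c.Fd) : Subgroup G := f.ρ.range ⊔ c.C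

end Cfg

end Cfsg.Agent.U4t

end
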