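import Mathlib
import Cfsg.Agent.U4t.Cfg2
import Cfsg.Agent.U4t.AWa

/-! Centralizers in the semilinear unitary group. -/

set_option autoImplicit false
set_option linter.unusedSectionVars false

namespace Cfsg.Agent.U4t

open Cfsg Cfsg.Agent.Cl Cfsg.Agent.Loc.Mss Subgroup Module
open Cfsg.Agent.StdB (C1 mem_C1 El)
open scoped commutatorElement

variable {F : Type*} [Field F] [Finite F] [CharP F 2] {σ : F →+* F} {V : Type*} [AddCommGroup V] [Module F V]
  [Finite V] {B : V →ₗ[F] V →ₛₗ[σ] F} {q : ℕ} {G : Type*} [Group G] [Finite G]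

namespace Cen

theorem eq_of_mem {U : Submodule F V} {w : V} (hw : w ∉ U) {a b : F} (h : a • w - b • w ∈ U) : a = b := by
  by_contra e
  rw [← sub_smul, U.smul_mem_iff (sub_ne_zero.2 e)] at h
  exact hw h

theorem eig_eq {g : SG F V} {v w : V} (hv : v ≠ 0) (hw : w ∉ F ∙ v) {l m n : F} (h1 : g • v = l • v)
    (h2 : g • w = m • w) (h3 : g • (v + w) = n • (v + w)) : l = m := by
  rw [smul_add, h1, h2, smul_add] at h3
  have e : m = n := eq_of_mem hw (Submodule.mem_span_singleton.2 ⟨n - l, by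
    rw [sub_smul]; linear_combination (norm := abel1) -h3⟩)
  rw [e, add_left_inj] at h3
  rw [e]
  exact smul_left_injective F hv h3

theorem eig_ne {g : SG F V} {v : V} (hv : v ≠ 0) {l : F} (h : g • v = l • v) : l ≠ 0 := by
  rintro rfl
  rw [zero_smul] at h
  exact (smul_ne_zero_iff_ne g).2 hv h

theorem eig_sub {g : SG F V} {X : Submodule F V} {v w : V} (hv : v ≠ 0) (hw : w ∉ F ∙ v) (vX : v ∈ X)
    (wX : w ∈ X) (hg : ∀ x ∈ X, ∃ l : F, g • x = l • x) {l : F} (hl : g • v = l • v) :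
    fld g = 1 ∧ ∀ x ∈ X, g • x = l • x := by
  have h1 : ∀ x ∈ X, x ∉ F ∙ v → g • x = l • x := fun x hx hn => by
    obtain ⟨m, hm⟩ := hg x hx
    obtain ⟨n, hn'⟩ := hg _ (add_mem vX hx)
    rw [eig_eq hv hn hl hm hn', hm]
  have h2 : fld g = 1 := RingEquiv.ext fun c => by
    have := h1 _ (add_mem (X.smul_mem c vX) wX) fun e => hw
      ((Submodule.add_mem_iff_right _ (Submodule.smul_mem _ c (Submodule.mem_span_singleton_self v))).1 e)
    rw [smul_add, smul_add, h1 w wX hw, add_left_inj, smul_sm, hl, smul_smul, smul_smul, mul_comm l] at this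
    exact mul_right_cancel₀ (eig_ne hv hl) (smul_left_injective F hv this)
  refine ⟨h2, fun x hx => ?_⟩
  by_cases hn : x ∈ F ∙ v
  · obtain ⟨c, rfl⟩ := Submodule.mem_span_singleton.1 hn
    rw [smul_sm_of h2, hl, smul_comm]
  · exact h1 x hx hn

theorem eig_two {g : SG F V} (hf : fld g = 1) {U : Submodule F V} (hU : ∀ u ∈ U, g • u ∈ U) {x : V}
    (hx : x ∉ U) {m : F} (h : g • x - m • x ∈ U) {n : ℕ} (g2 : g ^ 2 ^ n = 1) : m = 1 := by
  have h1 : ∀ j : ℕ, g ^ j • x - m ^ j • x ∈ U := by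
    intro j
    induction j with
    | zero => simp
    | succ j ih =>
      have := add_mem (hU _ ih) (U.smul_mem (m ^ j) h)
      rwa [smul_sub, smul_sm_of hf, smul_sub, sub_add_sub_cancel, ← mul_smul, ← pow_succ', smul_smul,
        ← pow_succ] at this
  have h2 := h1 (2 ^ n)
  rw [g2, one_smul] at h2
  have h3 : (1 : F) = m ^ 2 ^ n := eq_of_mem hx (by rwa [one_smul])
  have : Fact (Nat.Prime 2) := ⟨Nat.prime_two⟩
  have h4 : (m - 1) ^ 2 ^ n = 0 := by rw [sub_pow_char_pow, one_pow, ← h3, sub_self]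
  exact sub_eq_zero.1 (pow_eq_zero_iff (by positivity) |>.1 h4)

theorem exists_two {X : Submodule F V} (h2 : 2 ≤ finrank F X) (v : V) : ∃ w ∈ X, w ∉ F ∙ v := by
  by_contra! e
  have h1 : finrank F X ≤ finrank F (F ∙ v) := Submodule.finrank_mono e
  have h3 : finrank F (F ∙ v) ≤ 1 := by simpa using finrank_span_le_card (R := F) ({v} : Set V)
  omega

theorem exists_ne {X : Submodule F V} (h2 : 2 ≤ finrank F X) : ∃ v ∈ X, v ≠ 0 := by
  obtain ⟨w, hw, h⟩ := exists_two h2 0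
  exact ⟨w, hw, fun e => h (by rw [e]; exact zero_mem _)⟩

theorem sc_mul_smul {g : SG F V} {x : V} {l : F} (hl : l ≠ 0) (h : g • x = l • x) :
    (sc V l⁻¹ * g) • x = x := by
  rw [mul_smul, h, sc_smul (inv_ne_zero hl), smul_smul, inv_mul_cancel₀ hl, one_smul]

theorem inv_norm {l : F} (h : l * σ l = 1) : l⁻¹ * σ l⁻¹ = 1 := by
  rw [map_inv₀, ← mul_inv, h, inv_one]

variable (h : Sp B q)
include h

theorem tv_eq_tv {v w : V} (hv : Iso B v) (hw : B w w = 0) {a b : F} (ha : a ≠ 0) (e : tv B v a = tv B w b) :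
    ∃ l : F, l ≠ 0 ∧ w = l • v ∧ a = b * (l * σ l) := by
  obtain ⟨f, p⟩ := h.exists_pair hv
  have e1 := congrArg (· • f) e
  simp only [tv_smul hv.iso, tv_smul hw, p.pair', mul_one, add_right_inj] at e1
  have e2 : b * B f w ≠ 0 := fun e2 => by
    rw [e2, zero_smul] at e1
    exact smul_ne_zero ha hv.ne e1
  have e3 : w = ((b * B f w)⁻¹ * a) • v := by
    rw [mul_smul, e1, smul_smul, inv_mul_cancel₀ e2, one_smul]
  refine ⟨_, mul_ne_zero (inv_ne_zero e2) ha, e3, h.tv_inj hv ?_⟩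
  rw [← tv_sm, ← e3, e]

theorem ei_eq_ei {e u u' : V} (he : Iso B e) (hu : B u e = 0) (hu' : B u' e = 0) {s s' : F}
    (e' : ei B e u s = ei B e u' s') : ∃ c : F, u' = u + c • e ∧ s = s' + (c + σ c) := by
  obtain ⟨f, p⟩ := h.exists_pair he
  have e1 := congrArg (· • f) e'
  simp only [h.ei_smul he.iso hu, h.ei_smul he.iso hu', p.pair', mul_one, one_smul] at e1
  have e2 : u' = u + (B f u + s - B f u' - s') • e := by
    simp only [sub_smul, add_smul]; linear_combination (norm := abel1) -e1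
  refine ⟨_, e2, ?_⟩
  generalize B f u + s - B f u' - s' = c at e2
  rw [e2, h.ei_add_smul he.iso hu] at e'
  have e3 := congrArg (· • f) e'
  simp only [h.ei_smul he.iso hu, p.pair', mul_one, one_smul, add_right_inj] at e3
  exact smul_left_injective F he.ne e3

theorem eig_of {e : V} (he : Iso B e) {g : SG F V} (hg : g ∈ Gam B) {a : F} (ha : a ≠ 0)
    (hc : g * tv B e a = tv B e a * g) : ∃ l : F, l ≠ 0 ∧ g • e = l • e ∧ a = fld g a * (l * σ l) :=
  tv_eq_tv h he (he.smul hg).iso ha (by rw [← tv_conj hg he.iso, hc, mul_inv_cancel_right])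

theorem cen_AW {X : Submodule F V} (hX : TI B X) {v w : V} (hv : v ≠ 0) (hw : w ∉ F ∙ v) (vX : v ∈ X)
    (wX : w ∈ X) {g : SG F V} (hg : g ∈ Gam B) (hc : g ∈ 𝐂[AW B X]) :
    fld g = 1 ∧ ∃ l : F, l ≠ 0 ∧ l * σ l = 1 ∧ ∀ x ∈ X, g • x = l • x := by
  have h1 : ∀ x ∈ X, x ≠ 0 → ∃ l : F, l ≠ 0 ∧ g • x = l • x ∧ 1 = fld g 1 * (l * σ l) := fun x hx x0 =>
    eig_of h ⟨x0, hX x hx x hx⟩ hg one_ne_zero
      (hc _ (h.tv_mem_AW hx (hX x hx x hx) (map_one σ))).symm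
  obtain ⟨l, l0, hl, hn⟩ := h1 v vX hv
  obtain ⟨h2, h3⟩ := eig_sub hv hw vX wX (fun x hx => by
    by_cases x0 : x = 0
    · exact ⟨1, by simp [x0]⟩
    · obtain ⟨m, -, hm, -⟩ := h1 x hx x0
      exact ⟨m, hm⟩) hl
  rw [map_one, one_mul] at hn
  exact ⟨h2, l, l0, hn.symm, h3⟩

theorem perp_dec {W : Submodule F V} (hW : MaxTI B W) {x y : V} (hx : x ∈ uPerp B W) (hy : y ∈ uPerp B W)
    (x0 : B x x ≠ 0) : ∃ m : F, y - m • x ∈ W := by
  refine ⟨B y x / B x x, ?_⟩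
  set z := y - (B y x / B x x) • x with hz
  have z1 : z ∈ uPerp B W := sub_mem hy (Submodule.smul_mem _ _ hx)
  have z2 : B z x = 0 := by
    rw [hz, map_sub, map_smul, LinearMap.sub_apply, LinearMap.smul_apply, smul_eq_mul,
      div_mul_cancel₀ _ x0, sub_self]
  refine h.max_mem hW (by_contra fun z0 => ?_) z1
  obtain ⟨a, -, ha⟩ := h.herm.exists_isotropic_of_orthogonal x0 z0 (h.zero_symm z2)
  have := mem_uPerp.1 hx _ (h.max_mem hW ha (add_mem hx (Submodule.smul_mem _ _ z1)))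
  rw [map_add, map_smul, LinearMap.add_apply, LinearMap.smul_apply, z2, smul_zero, add_zero] at this
  exact x0 this

theorem cen_AW_two {W : Submodule F V} (hW : MaxTI B W) {g : SG F V} (hg : g ∈ Gam B) {n : ℕ}
    (g2 : g ^ 2 ^ n = 1) (hc : g ∈ 𝐂[AW B W]) : g ∈ RW B W := by
  have h2 : 2 ≤ finrank F W := hW.dim ▸ h.two_le_k
  obtain ⟨v, vW, hv⟩ := exists_ne h2
  obtain ⟨w, wW, hw⟩ := exists_two h2 v
  obtain ⟨hf, l, -, -, hl⟩ := cen_AW h hW.ti hv hw vW wW hg hc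
  obtain rfl : l = 1 := eig_two hf (U := ⊥) (fun u hu => by simp_all) (x := v) (by simpa using hv)
    (by rw [hl v vW, sub_self]; exact zero_mem _) g2
  simp only [one_smul] at hl
  have hS : ∀ u ∈ W, g • u ∈ W := fun u hu => by rw [hl u hu]; exact hu
  refine mem_RW.2 ⟨h.two_mem_SU hg hf g2, hl, fun x hx => ?_⟩
  by_cases xW : x ∈ W
  · rw [hl x xW, sub_self]; exact zero_mem _
  obtain ⟨m, hm⟩ := perp_dec h hW hx (St.mem (St_perp hg (mem_St_of hS)) hx)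
    fun e => xW (h.max_mem hW e hx)
  obtain rfl := eig_two hf hS xW hm g2
  rwa [one_smul] at hm

theorem exists_tr (u : V) : ∃ s : F, s + σ s = B u u := h.uf.invol.exists_trace_eq (h.herm.fixed u)

theorem mem_Q {e : V} (he : Iso B e) {g : SG F V} (hg : g ∈ Gam B) (ge : g • e = e)
    (hu : ∀ u, B u e = 0 → g • u - u ∈ F ∙ e) : g ∈ Qv B e := by
  have h2 : 2 ≤ finrank F (uPerp B (F ∙ e)) := by
    have := h.four_le
    rw [h.herm.finrank_uPerp, finrank_span_singleton he.ne]; omega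
  obtain ⟨u, uP, hn⟩ := exists_two h2 e
  have ue : B u e = 0 := h.zero_symm (mem_uPerp_span_singleton.1 uP)
  have hf : fld g = 1 := RingEquiv.ext fun a => eq_of_mem hn (by
    have := sub_mem (hu (a • u) (by simp [ue])) (Submodule.smul_mem _ (fld g a) (hu u ue))
    rw [smul_sm, smul_sub] at this
    convert this using 1
    show fld g a • u - a • u = _
    abel)
  have h3 : ∀ x, ∃ c : F, g • g • x = x + c • e := fun x => by
    have e1 : B (g • x - x) e = 0 := by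
      rw [map_sub, LinearMap.sub_apply, sub_eq_zero]
      conv_lhs => rw [← ge]
      exact Gam_map hg hf x e
    obtain ⟨c, hc⟩ := Submodule.mem_span_singleton.1 (hu _ e1)
    refine ⟨c, ?_⟩
    rw [hc, smul_sub]
    linear_combination (norm := abel1) vadd_self (F := F) (g • x) - vadd_self (F := F) x
  have h4 : g ^ 2 ^ 2 = 1 := SG.ext2 (fun x => by
    obtain ⟨c, hc⟩ := h3 x
    rw [show g ^ 2 ^ 2 = g * g * g * g by
        rw [show 2 ^ 2 = 4 from rfl]; simp only [pow_succ, pow_zero, one_mul],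
      mul_smul, mul_smul, mul_smul, hc, smul_add, smul_add, hc, smul_sm_of hf, smul_sm_of hf, ge, ge,
      add_assoc, vadd_self (F := F), add_zero, one_smul]) (by rw [map_pow, hf, one_pow, map_one])
  refine mem_RW.2 ⟨h.two_mem_SU hg hf h4, fun x hx => ?_, fun x hx =>
    hu x (h.zero_symm (mem_uPerp_span_singleton.1 hx))⟩
  obtain ⟨c, rfl⟩ := Submodule.mem_span_singleton.1 hx
  rw [smul_sm_of hf, ge]

theorem cen_V {e : V} (he : Iso B e) {g : SG F V} (hg : g ∈ Gam B) (hZ : g ∈ 𝐂[Zv B e])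
    (hc : ∀ x ∈ Qv B e, g * x * g⁻¹ * x⁻¹ ∈ Zv B e) : ∃ s ∈ Sc F V, ∃ x ∈ Qv B e, g = s * x := by
  obtain ⟨l, l0, hl, hn⟩ := eig_of h he hg one_ne_zero
    (hZ _ ((h.mem_Zv he).2 ⟨1, map_one σ, rfl⟩)).symm
  rw [map_one, one_mul] at hn
  have g1 : sc V l⁻¹ * g ∈ Gam B := mul_mem (h.sc_mem_Gam (inv_norm hn.symm)) hg
  have g2 := sc_mul_smul l0 hl
  refine ⟨(sc V l⁻¹)⁻¹, inv_mem (sc_mem _), sc V l⁻¹ * g, mem_Q h he g1 g2 fun u ue => ?_, by group⟩
  obtain ⟨s, hs⟩ := exists_tr h u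
  obtain ⟨a, -, ha⟩ := (h.mem_Zv he).1 (hc _ ((h.mem_Qv he).2 ⟨u, s, ue, hs, rfl⟩))
  have e1 := h.ei_conj g1 he.iso ue s
  rw [g2, show sc V l⁻¹ * g * ei B e u s * (sc V l⁻¹ * g)⁻¹ =
    sc V l⁻¹ * (g * ei B e u s * g⁻¹) * (sc V l⁻¹)⁻¹ by group,
    Sc_conj (sc_mem _) (fld_conj g (fld_ei e u s)), mul_inv_eq_iff_eq_mul.1 ha, ← h.ei_zero he.iso,
    h.ei_mul he.iso (by simp) ue, zero_add] at e1
  obtain ⟨c, hc, -⟩ := ei_eq_ei h he ue (by
    conv_lhs => rw [← g2]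
    exact (Gam_zero g1).2 ue) e1
  exact Submodule.mem_span_singleton.2 ⟨c, by rw [hc, add_sub_cancel_left]⟩

theorem cen_Q {e : V} (he : Iso B e) {g : SG F V} (hg : g ∈ Gam B) (hc : g ∈ 𝐂[Qv B e]) :
    ∃ s ∈ Sc F V, ∃ z ∈ Zv B e, g = s * z := by
  obtain ⟨s, hs, x, hx, rfl⟩ := cen_V h he hg (fun y hy => hc y (h.Zv_le_Qv he.iso hy)) fun y hy => by
    rw [← hc y hy, mul_inv_cancel_right, mul_inv_cancel]; exact one_mem _
  refine ⟨s, hs, x, h.mem_AW_of_fix (Qv_le e hx) fun y hy => ?_, rfl⟩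
  obtain ⟨u, r, ue, hr, rfl⟩ := (h.mem_Qv he).1 hx
  have h1 : ∀ y, B y e = 0 → B u y + B y u = 0 := fun y ye => by
    obtain ⟨r', hr'⟩ := exists_tr h y
    have e1 := hc _ ((h.mem_Qv he).2 ⟨y, r', ye, hr', rfl⟩)
    rw [← mul_assoc, ← Sc_comm hs (fld_ei e y r'), mul_assoc, mul_assoc, mul_right_inj,
      h.ei_comm he.iso ue ye, left_eq_mul] at e1
    exact (h.tv_eq_one he).1 e1
  have ye := h.zero_symm (mem_uPerp_span_singleton.1 hy)
  obtain ⟨ω, hω⟩ := h.exists_omega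
  have e1 := h1 y ye
  have e2 := h1 (ω • y) (by simp [ye])
  simp only [map_smulₛₗ, LinearMap.smul_apply, smul_eq_mul, RingHom.id_apply] at e2
  have e3 : B y u = 0 := by
    linear_combination e2 - σ ω * e1 - B y u * hω + σ ω * B y u * (CharTwo.two_eq_zero (R := F))
  rw [h.ei_perp he.iso ue r ye, e3, zero_smul, add_zero]

theorem cen_RW {X : Submodule F V} (hX : TI B X) (h0 : X ≠ ⊥) {g : SG F V} (hg : g ∈ Gam B)
    (hc : g ∈ 𝐂[RW B X]) : ∃ s ∈ Sc F V, ∃ a ∈ AW B X, g = s * a := by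
  obtain ⟨v, vX, hv⟩ := Submodule.exists_mem_ne_zero_of_ne_bot h0
  by_cases h1 : X ≤ F ∙ v
  · have e : X = F ∙ v := le_antisymm h1 ((Submodule.span_singleton_le_iff_mem _ _).2 vX)
    rw [e] at hc ⊢
    exact cen_Q h ⟨hv, hX v vX v vX⟩ hg hc
  obtain ⟨w, wX, hw⟩ := SetLike.not_le_iff_exists.1 h1
  obtain ⟨hf, l, l0, hn, hl⟩ := cen_AW h hX hv hw vX wX hg fun y hy => hc y (h.AW_le_RW hX hy)
  have g1 : sc V l⁻¹ * g ∈ Gam B := mul_mem (h.sc_mem_Gam (inv_norm hn)) hg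
  have g2 : ∀ x ∈ X, (sc V l⁻¹ * g) • x = x := fun x hx => sc_mul_smul l0 (hl x hx)
  have g3 : fld (sc V l⁻¹ * g) = 1 := by rw [map_mul, fld_sc, hf, mul_one]
  have g4 : ∀ y ∈ RW B X, sc V l⁻¹ * g * y * (sc V l⁻¹ * g)⁻¹ = y := fun y hy => by
    rw [mul_assoc _ g, ← hc y hy, ← mul_assoc, Sc_comm (sc_mem _) (fld_SU (RW_le X hy)), mul_assoc y,
      mul_inv_cancel_right]
  refine ⟨(sc V l⁻¹)⁻¹, inv_mem (sc_mem _), sc V l⁻¹ * g, ?_, by group⟩
  generalize sc V l⁻¹ * g = k at g1 g2 g3 g4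
  have h2 : ∀ u ∈ uPerp B X, ∀ e ∈ X, e ≠ 0 → ∃ c : F, k • u = u + c • e := fun u hu e eX e0 => by
    obtain ⟨r, hr⟩ := exists_tr h u
    have ee := hX e eX e eX
    have ue : B u e = 0 := h.zero_symm (mem_uPerp.1 hu e eX)
    have e1 := g4 (ei B e u r) (mem_RW.2 ⟨h.ei_mem ee ue hr, fun x hx => by
      rw [h.ei_perp ee ue r (hX x hx e eX), mem_uPerp.1 hu x hx, zero_smul, add_zero], fun x hx => by
      rw [h.ei_perp ee ue r (h.zero_symm (mem_uPerp.1 hx e eX)), add_sub_cancel_left]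
      exact X.smul_mem _ eX⟩)
    rw [h.ei_conj g1 ee ue, g2 e eX] at e1
    obtain ⟨c, hc, -⟩ := ei_eq_ei h ⟨e0, ee⟩ ue (by
      conv_lhs => rw [← g2 e eX]
      exact (Gam_zero g1).2 ue) e1.symm
    exact ⟨c, hc⟩
  have h3 : ∀ u ∈ uPerp B X, k • u = u := fun u hu => by
    obtain ⟨c, hc⟩ := h2 u hu v vX hv
    obtain ⟨d, hd⟩ := h2 u hu w wX fun e => hw (e ▸ zero_mem _)
    have : d = 0 := eq_of_mem hw (Submodule.mem_span_singleton.2 ⟨c, by
      rw [zero_smul, sub_zero]; exact add_left_cancel (hc.symm.trans hd)⟩)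
    rw [hd, this, zero_smul, add_zero]
  refine h.mem_AW_of_fix (h.two_mem_SU g1 g3 (n := 1) (SG.ext2 (fun x => ?_)
    (by rw [map_pow, g3, one_pow, map_one]))) h3
  have e1 : k • x - x ∈ uPerp B X := mem_uPerp.2 fun y hy => by
    rw [map_sub, sub_eq_zero]
    conv_lhs => rw [← g2 y hy]
    exact Gam_map g1 g3 y x
  have e2 := h3 _ e1
  rw [smul_sub] at e2
  rw [pow_one, sq, mul_smul, one_smul]
  linear_combination (norm := abel1) e2 + vadd_self (F := F) (k • x) - vadd_self (F := F) x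

theorem cen_SU {g : SG F V} (hc : ∀ v a, B v v = 0 → σ a = a → g * tv B v a = tv B v a * g) :
    g ∈ Sc F V := by
  have h1 : ∀ v, B v v = 0 → ∃ l : F, g • v = l • v := fun v hv => by
    by_cases v0 : v = 0
    · exact ⟨1, by simp [v0]⟩
    obtain ⟨f, p⟩ := h.exists_pair ⟨v0, hv⟩
    have e := congrArg (· • f) (hc v 1 hv (map_one σ))
    simp only [mul_smul, tv_smul hv, p.pair', one_smul, smul_add, add_right_inj] at e
    exact ⟨_, e⟩
  obtain ⟨v, hv⟩ := h.exists_iso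
  obtain ⟨W, hvW, hW⟩ := h.exists_max (TI_span hv.iso)
  obtain ⟨w, wW, hw⟩ := exists_two (X := W) (hW.dim ▸ h.two_le_k) v
  obtain ⟨l, hl⟩ := h1 v hv.iso
  obtain ⟨hf, -⟩ := eig_sub hv.ne hw (hvW (Submodule.mem_span_singleton_self v)) wW
    (fun x hx => h1 x (hW.ti x hx x hx)) hl
  have h2 : ∀ x, B x x = 0 → g • x = l • x := fun x hx => by
    by_cases hn : x ∈ F ∙ v
    · obtain ⟨c, rfl⟩ := Submodule.mem_span_singleton.1 hn
      rw [smul_sm_of hf, hl, smul_comm]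
    obtain ⟨c, c0, hi⟩ : ∃ c : F, c ≠ 0 ∧ B (v + c • x) (v + c • x) = 0 := by
      by_cases e : B x v = 0
      · exact ⟨1, one_ne_zero, by simp [hv.iso, hx, e, h.zero_symm e]⟩
      · refine ⟨(B x v)⁻¹, inv_ne_zero e, ?_⟩
        have e' : B v x ≠ 0 := fun e' => e (h.zero_symm e')
        simp only [map_add, map_smulₛₗ, LinearMap.add_apply, LinearMap.smul_apply, smul_eq_mul,
          RingHom.id_apply, hv.iso, hx, mul_zero, add_zero, zero_add, map_inv₀, h.symm]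
        rw [inv_mul_cancel₀ e, inv_mul_cancel₀ e', CharTwo.add_self_eq_zero]
    obtain ⟨m, hm⟩ := h1 x hx
    obtain ⟨n, hn'⟩ := h1 _ hi
    rw [eig_eq hv.ne (w := c • x) (by rwa [Submodule.smul_mem_iff _ c0]) hl
      (by rw [smul_sm_of hf, hm, smul_comm]) hn', hm]
  refine ⟨hf, l, eig_ne hv.ne hl, fun x => ?_⟩
  by_cases hx : B x x = 0
  · exact h2 x hx
  obtain ⟨p, hp, p0⟩ := h.herm.exists_perp_nonisotropic (h.herm.disjoint_span_singleton hx) (by
    have := h.four_le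
    rw [finrank_span_singleton (by rintro rfl; simp at hx)]; omega)
  have xp := mem_uPerp_span_singleton.1 hp
  obtain ⟨a, -, ha⟩ := h.herm.exists_isotropic_of_orthogonal hx p0 xp
  obtain ⟨c, hc⟩ := h.exists_iso_add (f := x) (TI_span ha) (Submodule.mem_span_singleton_self _)
    (by simpa [h.zero_symm xp] using hx)
  have e := h2 _ hc
  rwa [smul_add, smul_sm_of hf, h2 _ ha, smul_add l x (c • _), smul_comm l c, add_left_inj] at e

omit h

theorem nf_aux {W : Submodule F V} {e w : V} (eW : e ∈ W) (wW : w ∈ W) (e0 : e ≠ 0) (hw : w ∉ F ∙ e)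
    (hd : ∀ x ∈ W, ∃ α β : F, α • e + β • w = x) {b : SG F V} (hb : b ∈ PW B W) (b2 : b * b = 1)
    (be : b • e ∈ F ∙ e) : b • e = e ∧ ∃ α : F, b • w = w + α • e := by
  have hf := fld_SU (PW_le W hb)
  have b3 : b ^ 2 ^ 1 = 1 := by rw [pow_one, sq, b2]
  obtain ⟨l, hl⟩ := Submodule.mem_span_singleton.1 be
  obtain rfl : l = 1 := eig_two hf (U := ⊥) (fun u hu => by simp_all) (x := e) (by simpa using e0)
    (by rw [hl, sub_self]; exact zero_mem _) b3
  rw [one_smul] at hl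
  obtain ⟨α, β, e1⟩ := hd _ (St.mem (mem_PW.1 hb).2 wW)
  obtain rfl : β = 1 := eig_two hf (U := F ∙ e) (fun u hu => by
    obtain ⟨c, rfl⟩ := Submodule.mem_span_singleton.1 hu
    rw [smul_sm_of hf]
    exact Submodule.smul_mem _ _ be) hw
    (Submodule.mem_span_singleton.2 ⟨α, by rw [← e1, add_sub_cancel_right]⟩) b3
  exact ⟨hl.symm, α, by rw [← e1, one_smul, add_comm]⟩

theorem nf2 {W : Submodule F V} (h2 : finrank F W = 2) {a b c : SG F V} (ha : a ∈ PW B W) (hb : b ∈ PW B W)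
    (hc : c ∈ PW B W) (a2 : a * a = 1) (b2 : b * b = 1) (c2 : c * c = 1) (hn : a ∉ Fix F (W : Set V))
    (hab : a * b = b * a) (hac : a * c = c * a) : ⁅b, c⁆ ∈ Fix F (W : Set V) := by
  obtain ⟨w, wW, hw⟩ : ∃ w ∈ W, a • w ≠ w := by
    by_contra! e
    exact hn e
  have fa := fld_SU (PW_le W ha)
  obtain ⟨e, he⟩ : ∃ e, e = w + a • w := ⟨_, rfl⟩
  have eW : e ∈ W := he ▸ add_mem wW (St.mem (mem_PW.1 ha).2 wW)
  have e0 : e ≠ 0 := fun e' => hw ((vadd_eq_zero (F := F)).1 (he ▸ e')).symm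
  have ae : a • e = e := by rw [he, smul_add, ← mul_smul, a2, one_smul, add_comm]
  have aw : a • w = w + e := by rw [he, ← add_assoc, vadd_self (F := F), zero_add]
  have we : w ∉ F ∙ e := fun e' => by
    obtain ⟨c, rfl⟩ := Submodule.mem_span_singleton.1 e'
    exact hw (by rw [smul_sm_of fa, ae])
  have hd : ∀ x ∈ W, ∃ α β : F, α • e + β • w = x := by
    have h3 : (F ∙ e) < Submodule.span F {e, w} := SetLike.lt_iff_le_and_exists.2
      ⟨Submodule.span_mono (by simp), w, Submodule.subset_span (by simp), we⟩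
    have h4 := Submodule.finrank_lt_finrank_of_lt h3
    rw [finrank_span_singleton e0] at h4
    have h5 : Submodule.span F {e, w} = W := Submodule.eq_of_le_of_finrank_le
      (Submodule.span_le.2 (by rintro x (rfl | rfl); exacts [eW, wW])) (by omega)
    intro x hx
    rwa [← h5, Submodule.mem_span_pair] at hx
  have hm : ∀ k ∈ PW B W, a * k = k * a → k • e ∈ F ∙ e := fun k hk hak => by
    obtain ⟨α, β, e1⟩ := hd _ (St.mem (mem_PW.1 hk).2 eW)
    have e2 : a • k • e = k • e := by rw [← mul_smul, hak, mul_smul, ae]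
    rw [← e1, smul_add, smul_sm_of fa, smul_sm_of fa, ae, aw, smul_add, add_right_inj, add_eq_left,
      smul_eq_zero_iff_left e0] at e2
    exact Submodule.mem_span_singleton.2 ⟨α, by rw [← e1, e2, zero_smul, add_zero]⟩
  obtain ⟨b1, β, b3⟩ := nf_aux eW wW e0 we hd hb b2 (hm b hb hab)
  obtain ⟨c1, γ, c3⟩ := nf_aux eW wW e0 we hd hc c2 (hm c hc hac)
  have fb := fld_SU (PW_le W hb)
  have fc := fld_SU (PW_le W hc)
  have h3 : ∀ x ∈ W, b • c • x = c • b • x := fun x hx => by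
    obtain ⟨α, δ, rfl⟩ := hd x hx
    simp only [smul_add, smul_sm_of fb, smul_sm_of fc, b1, c1, b3, c3]
    abel
  intro x hx
  rw [commutatorElement_def, mul_smul, mul_smul, mul_smul,
    h3 _ (St.mem (inv_mem (mem_PW.1 hb).2) (St.mem (inv_mem (mem_PW.1 hc).2) hx)), smul_inv_smul,
    smul_inv_smul]

end Cen

namespace Sp

variable (h : Sp B q)
include h

theorem tv_eq_tv {v w : V} (hv : Iso B v) (hw : B w w = 0) {a b : F} (ha : a ≠ 0) (e : tv B v a = tv B w b) :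
    ∃ l : F, l ≠ 0 ∧ w = l • v ∧ a = b * (l * σ l) := Cen.tv_eq_tv h hv hw ha e

theorem ei_eq_ei {e u u' : V} (he : Iso B e) (hu : B u e = 0) (hu' : B u' e = 0) {s s' : F}
    (e' : ei B e u s = ei B e u' s') : ∃ c : F, u' = u + c • e ∧ s = s' + (c + σ c) :=
  Cen.ei_eq_ei h he hu hu' e'

theorem cen_AW {X : Submodule F V} (hX : TI B X) (h2 : 2 ≤ finrank F X) {g : SG F V} (hg : g ∈ Gam B)
    (hc : g ∈ 𝐂[AW B X]) : fld g = 1 ∧ ∃ s ∈ Sc F V ⊓ Gam B, s * g ∈ Fix F (X : Set V) := by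
  obtain ⟨v, vX, hv⟩ := Cen.exists_ne h2
  obtain ⟨w, wX, hw⟩ := Cen.exists_two h2 v
  obtain ⟨hf, l, l0, hn, hl⟩ := Cen.cen_AW h hX hv hw vX wX hg hc
  exact ⟨hf, sc V l⁻¹, ⟨sc_mem _, h.sc_mem_Gam (Cen.inv_norm hn)⟩, fun x hx =>
    Cen.sc_mul_smul l0 (hl x hx)⟩

theorem cen_AW_two {W : Submodule F V} (hW : MaxTI B W) {g : SG F V} (hg : g ∈ Gam B) {n : ℕ} (g2 : g ^ 2 ^ n = 1)
    (hc : g ∈ 𝐂[AW B W]) : g ∈ RW B W := Cen.cen_AW_two h hW hg g2 hc

theorem cen_Q {e : V} (he : Iso B e) {g : SG F V} (hg : g ∈ Gam B) (hc : g ∈ 𝐂[Qv B e]) :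
    ∃ s ∈ Sc F V, ∃ z ∈ Zv B e, g = s * z := Cen.cen_Q h he hg hc

theorem cen_V {e : V} (he : Iso B e) {g : SG F V} (hg : g ∈ Gam B) (hZ : g ∈ 𝐂[Zv B e])
    (hc : ∀ x ∈ Qv B e, g * x * g⁻¹ * x⁻¹ ∈ Zv B e) : ∃ s ∈ Sc F V, ∃ x ∈ Qv B e, g = s * x :=
  Cen.cen_V h he hg hZ hc

theorem cen_RW {X : Submodule F V} (hX : TI B X) (h0 : X ≠ ⊥) {g : SG F V} (hg : g ∈ Gam B) (hc : g ∈ 𝐂[RW B X]) :
    ∃ s ∈ Sc F V, ∃ a ∈ AW B X, g = s * a := Cen.cen_RW h hX h0 hg hc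

theorem cen_SU {g : SG F V} (hc : ∀ v a, B v v = 0 → σ a = a → g * tv B v a = tv B v a * g) : g ∈ Sc F V :=
  Cen.cen_SU h hc

theorem eq_of_two {s a : SG F V} (hs : s ∈ Sc F V) (ha : fld a = 1) {n m : ℕ} (h1 : a ^ 2 ^ n = 1)
    (h2 : (s * a) ^ 2 ^ m = 1) : s = 1 := by
  have hc : Commute s a := Sc_comm hs ha
  have h3 : (s * a) ^ 2 ^ (m + n) = 1 := by rw [pow_add, pow_mul, h2, one_pow]
  have h4 : a ^ 2 ^ (m + n) = 1 := by rw [add_comm, pow_add, pow_mul, h1, one_pow]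
  rw [hc.mul_pow, h4, mul_one] at h3
  exact Sc_two hs h3

theorem Sc_M1 {e : V} (he : e ≠ 0) {s : SG F V} (hs : s ∈ Sc F V) (h1 : s • e = e) : s = 1 := by
  obtain ⟨hf, a, -, ha⟩ := hs
  obtain rfl : a = 1 := smul_left_injective F he (by simpa [ha] using h1)
  exact SG.ext2 (fun x => by rw [ha, one_smul, one_smul]) (by rw [hf, map_one])

theorem norm_Q_of_cen {e : V} (he : Iso B e) {g : SG F V} (hg : g ∈ Gam B) {a : F} (ha : a ≠ 0)
    (hc : g * tv B e a = tv B e a * g) : g ∈ St (F ∙ e) := by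
  obtain ⟨l, -, hl, -⟩ := Cen.eig_of h he hg ha hc
  refine mem_St_of fun x hx => ?_
  obtain ⟨c, rfl⟩ := Submodule.mem_span_singleton.1 hx
  rw [smul_sm, hl, smul_smul]
  exact Submodule.smul_mem _ _ (Submodule.mem_span_singleton_self e)

theorem nf2 {W : Submodule F V} (h2 : finrank F W = 2) {a b c : SG F V} (ha : a ∈ PW B W) (hb : b ∈ PW B W)
    (hc : c ∈ PW B W) (a2 : a * a = 1) (b2 : b * b = 1) (c2 : c * c = 1) (hn : a ∉ Fix F (W : Set V))
    (hab : a * b = b * a) (hac : a * c = c * a) : ⁅b, c⁆ ∈ Fix F (W : Set V) :=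
  Cen.nf2 h2 ha hb hc a2 b2 c2 hn hab hac

end Sp

end Cfsg.Agent.U4t
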