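import Mathlib
import Cfsg.Agent.U4t.Cfg2
import Cfsg.Agent.U4t.AWa

/-!
# `2`-groups of semilinear isometries fix flags
-/

set_option autoImplicit false
set_option linter.unusedSectionVars false
set_option linter.unusedVariables false

namespace Cfsg.Agent.U4t

open Cfsg Cfsg.Agent.Cl Cfsg.Agent.Loc.Mss Subgroup Module
open Cfsg.Agent.StdB (C1 mem_C1 El)
open scoped commutatorElement

variable {F : Type*} [Field F] [Finite F] [CharP F 2] {σ : F →+* F} {V : Type*} [AddCommGroup V] [Module F V]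
  [Finite V] {B : V →ₗ[F] V →ₛₗ[σ] F} {q : ℕ} {G : Type*} [Group G] [Finite G]

theorem exists_fix_coset {P : Subgroup (SG F V)} (hP : IsPGroup 2 P) {U U' : Submodule F V} (hlt : U < U')
    (hU : P ≤ St U) (hU' : P ≤ St U') : ∃ v ∈ U', v ∉ U ∧ ∀ g ∈ P, g • v - v ∈ U := by
  let N : AddSubgroup U' := U.toAddSubgroup.comap U'.subtype.toAddMonoidHom
  let φ : P → U' →+ U' := fun g =>
    { toFun := fun x => ⟨g.1 • x.1, St.mem (hU' g.2) x.2⟩
      map_zero' := Subtype.ext (smul_zero _)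
      map_add' := fun x y => Subtype.ext (smul_add _ _ _) }
  let _ : MulAction P (U' ⧸ N) :=
    { smul := fun g => QuotientAddGroup.map N N (φ g) fun x hx => St.mem (hU g.2) hx
      one_smul := fun c => QuotientAddGroup.induction_on c fun x => rfl
      mul_smul := fun g k c => QuotientAddGroup.induction_on c fun x => rfl }
  have hs : ∀ (g : P) (x : U'), g • (x : U' ⧸ N) = (φ g x : U' ⧸ N) := fun g x => rfl
  obtain ⟨v, hv, hv'⟩ := SetLike.exists_of_lt hlt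
  have h2 : addOrderOf ((⟨v, hv⟩ : U') : U' ⧸ N) = 2 := addOrderOf_eq_prime (by
    rw [two_nsmul, ← QuotientAddGroup.mk_add, QuotientAddGroup.eq_zero_iff]
    show v + v ∈ U
    rw [vadd_self (F := F)]; exact zero_mem _) fun e => hv' ((QuotientAddGroup.eq_zero_iff _).1 e)
  obtain ⟨c, hc, h0⟩ := hP.exists_fixed_point_of_prime_dvd_card_of_fixed_point (U' ⧸ N) (h2 ▸ addOrderOf_dvd_natCard _)
    (a := ((0 : U') : U' ⧸ N)) fun g => by rw [hs, map_zero]
  obtain ⟨x, rfl⟩ := QuotientAddGroup.mk_surjective c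
  refine ⟨x, x.2, fun e => h0 ((QuotientAddGroup.eq_zero_iff x).2 e).symm, fun g hg => ?_⟩
  have := hc ⟨g, hg⟩
  rw [hs, QuotientAddGroup.eq_iff_sub_mem] at this
  exact this

theorem flag_St_sup {g : SG F V} {X : Submodule F V} (hX : g ∈ St X) {v : V} (hv : g • v - v ∈ X) :
    g ∈ St (X ⊔ F ∙ v) := mem_St_of fun x hx => by
  obtain ⟨y, hy, _, hz, rfl⟩ := Submodule.mem_sup.1 hx
  obtain ⟨a, rfl⟩ := Submodule.mem_span_singleton.1 hz
  rw [smul_add, smul_sm, show g • v = (g • v - v) + v by abel, smul_add, ← add_assoc]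
  exact Submodule.add_mem_sup (add_mem (St.mem hX hy) (X.smul_mem _ hv))
    (Submodule.smul_mem _ _ (Submodule.mem_span_singleton_self v))

theorem flag_sq_inj {a b : F} (e : a * a = b * b) : a = b :=
  (mul_self_eq_mul_self_iff.1 e).elim id fun e => e.trans (CharTwo.neg_eq b)

namespace Sp

variable (h : Sp B q)
include h

theorem flag_TI_sup {X : Submodule F V} (hX : TI B X) {v : V} (hv : v ∈ uPerp B X) (h0 : B v v = 0) :
    TI B (X ⊔ F ∙ v) := fun x hx x' hx' => by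
  obtain ⟨y, hy, _, hz, rfl⟩ := Submodule.mem_sup.1 hx
  obtain ⟨a, rfl⟩ := Submodule.mem_span_singleton.1 hz
  obtain ⟨y', hy', _, hz', rfl⟩ := Submodule.mem_sup.1 hx'
  obtain ⟨a', rfl⟩ := Submodule.mem_span_singleton.1 hz'
  simp [hX y hy y' hy', mem_uPerp.1 hv y hy, h.zero_symm (mem_uPerp.1 hv y' hy'), h0]

theorem flag_fld {g : SG F V} (hg : g ∈ Gam B) {X : Submodule F V} (hX : TI B X) {v : V} (hv : v ∈ uPerp B X)
    (e : g • v - v ∈ X) : fld g (B v v) = B v v := by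
  rw [← mem_Gam.1 hg, show g • v = (g • v - v) + v by abel]
  generalize g • v - v = x at e
  simp [hX x e x e, mem_uPerp.1 hv x e, h.zero_symm (mem_uPerp.1 hv x e)]

theorem flag_step {P : Subgroup (SG F V)} (hP : IsPGroup 2 P) (hG : P ≤ Gam B) {X : Submodule F V} (hX : TI B X)
    (hS : P ≤ St X) (hd : finrank F X < finrank F V / 2) :
    ∃ v ∈ uPerp B X, v ∉ X ∧ B v v = 0 ∧ ∀ g ∈ P, g • v - v ∈ X := by
  obtain ⟨v, v1, v2, v3⟩ := exists_fix_coset hP (U := X) (U' := uPerp B X)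
    (Submodule.lt_of_le_of_finrank_lt_finrank hX.le (by rw [h.herm.finrank_uPerp]; omega)) hS
    fun g hg => St_perp (hG hg) (hS hg)
  by_cases hv : B v v = 0
  · exact ⟨v, v1, v2, hv, v3⟩
  obtain ⟨w, w1, w2, w3⟩ := exists_fix_coset hP (U := X) (U' := uPerp B (X ⊔ F ∙ v))
    (Submodule.lt_of_le_of_finrank_lt_finrank (by
      rw [uPerp_sup]
      exact le_inf hX.le fun x hx => mem_uPerp_span_singleton.2 (h.zero_symm (mem_uPerp.1 v1 x hx)))
      (by rw [h.herm.finrank_uPerp, Submodule.finrank_sup_span_singleton v2]; omega)) hS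
    fun g hg => St_perp (hG hg) (flag_St_sup (hS hg) (v3 g hg))
  rw [uPerp_sup] at w1
  have w4 : B v w = 0 := mem_uPerp_span_singleton.1 w1.2
  by_cases hw : B w w = 0
  · exact ⟨w, w1.1, w2, hw, w3⟩
  obtain ⟨a, ha⟩ : IsSquare (B v v / B w w) := FiniteField.isSquare_of_char_two (ringChar.eq F 2) _
  have a1 : σ a = a := flag_sq_inj (by rw [← map_mul, ← ha, map_div₀, h.symm, h.symm])
  refine ⟨v + a • w, add_mem v1 (Submodule.smul_mem _ _ w1.1), fun e => hv ?_, ?_, fun g hg => ?_⟩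
  · simpa [h.zero_symm w4] using mem_uPerp.1 v1 _ e
  · have : B v v + a * a * B w w = 0 := by rw [← ha, div_mul_cancel₀ _ hw, CharTwo.add_self_eq_zero]
    simp only [map_add, map_smul, LinearMap.map_smulₛₗ, LinearMap.add_apply, LinearMap.smul_apply, smul_eq_mul, w4,
      h.zero_symm w4, a1]
    linear_combination this
  · have a2 : fld g a = a := flag_sq_inj (by
      rw [← map_mul, ← ha, map_div₀, h.flag_fld (hG hg) hX v1 (v3 g hg), h.flag_fld (hG hg) hX w1.1 (w3 g hg)])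
    rw [smul_add, smul_sm, a2, add_sub_add_comm, ← smul_sub]
    exact add_mem (v3 g hg) (X.smul_mem _ (w3 g hg))

theorem flag_max {P : Subgroup (SG F V)} (hP : IsPGroup 2 P) (hG : P ≤ Gam B) (j : ℕ) : ∀ X : Submodule F V, TI B X →
    P ≤ St X → finrank F X + j = finrank F V / 2 → ∃ W, X ≤ W ∧ MaxTI B W ∧ P ≤ St W := by
  induction j with
  | zero => exact fun X hX hS e => ⟨X, le_rfl, ⟨hX, e⟩, hS⟩
  | succ j ih =>
    intro X hX hS e
    obtain ⟨v, v1, v2, v3, v4⟩ := h.flag_step hP hG hX hS (by omega)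
    obtain ⟨W, h1, h2⟩ := ih _ (h.flag_TI_sup hX v1 v3) (fun g hg => flag_St_sup (hS hg) (v4 g hg))
      (by rw [Submodule.finrank_sup_span_singleton v2]; omega)
    exact ⟨W, le_sup_left.trans h1, h2⟩

theorem exists_flag {P : Subgroup (SG F V)} (hP : IsPGroup 2 P) (hG : P ≤ Gam B) :
    ∃ e W, Iso B e ∧ MaxTI B W ∧ e ∈ W ∧ (∀ g ∈ P, g • e = e) ∧ P ≤ St W := by
  have hk := h.two_le_k
  have h0 : TI B ⊥ := fun x hx y _ => by rw [(Submodule.mem_bot F).1 hx]; simp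
  have hS : P ≤ St (⊥ : Submodule F V) := fun g _ => mem_St_of fun x hx => by
    rw [(Submodule.mem_bot F).1 hx, smul_zero]; exact zero_mem _
  obtain ⟨e, e1, e2, e3, e4⟩ := h.flag_step hP hG h0 hS (by rw [finrank_bot]; omega)
  obtain ⟨W, h1, h2, h3⟩ := h.flag_max hP hG (finrank F V / 2 - 1) _ (h.flag_TI_sup h0 e1 e3)
    (fun g hg => flag_St_sup (hS hg) (e4 g hg)) (by rw [Submodule.finrank_sup_span_singleton e2, finrank_bot]; omega)
  exact ⟨e, W, ⟨fun e' => e2 (e' ▸ zero_mem _), e3⟩, h2,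
    h1 (Submodule.mem_sup_right (Submodule.mem_span_singleton_self e)),
    fun g hg => sub_eq_zero.1 ((Submodule.mem_bot F).1 (e4 g hg)), h3⟩

theorem exists_hyp {P : Subgroup (SG F V)} (hP : IsPGroup 2 P) (hG : P ≤ Gam B) {W : Submodule F V} (hW : TI B W)
    (h0 : W ≠ ⊥) (hS : P ≤ St W) : ∃ f, B f f = 0 ∧ f ∉ uPerp B W ∧ ∀ g ∈ P, g • f - f ∈ uPerp B W := by
  obtain ⟨f, -, f1, f2⟩ := exists_fix_coset hP (U := uPerp B W) (U' := ⊤)
    (lt_top_iff_ne_top.2 fun e => h0 (by rw [← h.herm.uPerp_uPerp W, e, h.herm.uPerp_top]))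
    (fun g hg => St_perp (hG hg) (hS hg)) fun g _ x => by simp
  obtain ⟨u, hu, hf⟩ : ∃ u ∈ W, B u f ≠ 0 := by simpa [mem_uPerp] using f1
  obtain ⟨c, hc⟩ := h.exists_iso_add hW hu hf
  have h1 : c • u ∈ W := W.smul_mem c hu
  refine ⟨_, hc, fun e => f1 ((add_mem_cancel_right (hW.le h1)).1 e), fun g hg => ?_⟩
  rw [smul_add, add_sub_add_comm]
  exact add_mem (f2 g hg) (hW.le (sub_mem (St.mem (hS hg) h1) h1))

theorem RW_two {W : Submodule F V} (hW : TI B W) : IsPGroup 2 (RW B W) := by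
  have := h.nontrivial
  rintro ⟨g, hg⟩
  obtain ⟨g1, g2, g3⟩ := mem_RW.1 hg
  have h1 : ∀ x, ∃ w ∈ W, (g * g) • x = x + w := fun x => by
    have h2 : g • x - x ∈ uPerp B W := mem_uPerp.2 fun w hw => by
      rw [map_sub, ← SU_map g1 w x, g2 w hw, sub_self]
    refine ⟨_, g3 _ h2, ?_⟩
    rw [smul_sub, mul_smul, vsub (F := F), vsub (F := F), vsub (F := F)]
    rw [show x + (g • g • x + g • x + (g • x + x)) = g • g • x + (g • x + g • x) + (x + x) by abel,
      vadd_self (F := F), vadd_self (F := F), add_zero, add_zero]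
  refine ⟨2, Subtype.ext (SG.ext1 fun x => ?_)⟩
  obtain ⟨w, hw, e⟩ := h1 x
  rw [coe_pow, show g ^ 2 ^ 2 = g * g * (g * g) by rw [← sq, ← sq, ← pow_mul]; rfl, mul_smul, e, smul_add, e, mul_smul,
    g2 w hw, g2 w hw, add_assoc, vadd_self (F := F), add_zero]
  rfl

theorem Qv_two {e : V} (he : B e e = 0) : IsPGroup 2 (Qv B e) := h.RW_two (TI_span he)

theorem RW_norm {W : Submodule F V} : Gam B ⊓ St W ≤ 𝐍[RW B W] := fun _ hg =>
  mem_norm_of_cj_le (cj_le_iff.2 fun _ ha => mapW_eq_iff.2 hg.2 ▸ h.conj_mem_RW hg.1 ha)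

theorem AW_norm {W : Submodule F V} : Gam B ⊓ St W ≤ 𝐍[AW B W] := fun _ hg =>
  mem_norm_of_cj_le (cj_le_iff.2 fun _ ha => h.conj_mem_AW' hg.1 hg.2 ha)

theorem RW_le_syl {W : Submodule F V} (hW : TI B W) {U : Subgroup (SG F V)} (hU : Syl 2 U (SU B)) (hS : U ≤ St W) :
    RW B W ≤ U :=
  hU.le_of_norm (h.RW_two hW) (RW_le W) ((le_inf (hU.le.trans SU_le_Gam) hS).trans h.RW_norm)

theorem flag_fld_eq {β : SG F V} (b2 : β * β = 1) (hβ : fld β ≠ 1) (a : F) : fld β a = σ a :=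
  (h.fld_of_sq (by rw [← map_mul, b2, map_one])).resolve_left hβ a

theorem flag_span {β : SG F V} (b2 : β * β = 1) (hβ : fld β ≠ 1) {U : Submodule F V} (hU : β ∈ St U) {x : V}
    (hx : x ∈ U) {ω : F} (hω : ω + σ ω = 1) : ∃ y ∈ U, ∃ y' ∈ U, β • y = y ∧ β • y' = y' ∧ x = y + ω • y' := by
  have h1 : x + β • x ∈ U := add_mem hx (St.mem hU hx)
  have h2 : β • (x + β • x) = x + β • x := by rw [smul_add, ← mul_smul, b2, one_smul, add_comm]
  refine ⟨x + ω • (x + β • x), add_mem hx (U.smul_mem _ h1), _, h1, ?_, h2, ?_⟩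
  · rw [smul_add, smul_sm, h2, h.flag_fld_eq b2 hβ, ← vadd_eq_zero (F := F), add_add_add_comm, ← add_smul,
      add_comm (σ ω), hω, one_smul, add_comm (β • x), vadd_self (F := F)]
  · rw [add_assoc, vadd_self (F := F), add_zero]

theorem card_fix {β : SG F V} (b2 : β * β = 1) (hβ : fld β ≠ 1) {U : Submodule F V} (hU : β ∈ St U) :
    Nat.card {x : V // x ∈ U ∧ β • x = x} = q ^ finrank F U := by
  obtain ⟨ω, hω⟩ := h.exists_omega
  have h1 := Nat.card_eq_of_bijective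
    (fun p : {x : V // x ∈ U ∧ β • x = x} × {x : V // x ∈ U ∧ β • x = x} =>
      (⟨p.1.1 + ω • p.2.1, add_mem p.1.2.1 (U.smul_mem _ p.2.2.1)⟩ : U)) ⟨by
      rintro ⟨⟨y, y1, y2⟩, y', y1', y2'⟩ ⟨⟨z, z1, z2⟩, z', z1', z2'⟩ e
      have e1 : y + ω • y' = z + ω • z' := congrArg Subtype.val e
      have e2 := congrArg (β • ·) e1
      simp only [smul_add, smul_sm, y2, y2', z2, z2', h.flag_fld_eq b2 hβ] at e2
      have e3 := congrArg₂ (· + ·) e1 e2
      simp only [add_add_add_comm _ (ω • _), ← add_smul, hω, one_smul, vadd_self (F := F), zero_add] at e3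
      subst e3
      obtain rfl := add_right_cancel e1
      rfl, fun x => by
      obtain ⟨y, y1, y', y1', y2, y2', e⟩ := h.flag_span b2 hβ hU x.2 hω
      exact ⟨(⟨y, y1, y2⟩, ⟨y', y1', y2'⟩), Subtype.ext e.symm⟩⟩
  rw [Nat.card_prod, natCard_eq_pow_finrank (K := F) (V := U), h.uf.card, ← pow_mul, two_mul, pow_add] at h1
  exact Nat.mul_self_inj.1 h1

theorem span_fix {β : SG F V} (b2 : β * β = 1) (hβ : fld β ≠ 1) {U : Submodule F V} (hU : β ∈ St U) {x : V}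
    (hx : x ∈ U) {ω : F} (hω : ω + σ ω = 1) : ∃ y ∈ U, ∃ y' ∈ U, β • y = y ∧ β • y' = y' ∧ x = y + ω • y' :=
  h.flag_span b2 hβ hU hx hω

theorem exists_inv_rep {γ : SG F V} (h2 : γ * γ ∈ Sc F V) : ∃ n, Odd n ∧ γ ^ n * γ ^ n = 1 :=
  ⟨_, Sc_odd h2, by rw [← (Commute.refl γ).mul_pow, pow_orderOf_eq_one]⟩

end Sp

end Cfsg.Agent.U4t
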