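import Mathlib
import Cfsg.Agent.U4t.Cfg2
import Cfsg.Agent.U4t.AWb
import Cfsg.Agent.U4t.Flag
import Cfsg.Agent.U4t.Cen
import Cfsg.Agent.Cl.AutField

set_option autoImplicit false
set_option linter.unusedSectionVars false

namespace Cfsg.Agent.U4t

open Cfsg Cfsg.Agent.Cl Cfsg.Agent.Loc.Mss Subgroup Module
open Cfsg.Agent.StdB (C1 mem_C1 El)
open scoped commutatorElement

variable {F : Type*} [Field F] [Finite F] [CharP F 2] {σ : F →+* F} {V : Type*} [AddCommGroup V] [Module F V]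
  [Finite V] {B : V →ₗ[F] V →ₛₗ[σ] F} {q : ℕ} {G : Type*} [Group G] [Finite G]

theorem M1_finrank_pair (x y : V) : finrank F (Submodule.span F {x, y}) ≤ 2 := by
  have := finrank_range_le_card (R := F) ![x, y]
  rw [Matrix.range_cons_cons_empty] at this
  simpa [Set.finrank] using this

namespace Sp

variable (h : Sp B q)
include h

theorem M1_partner {e v : V} (hv : B v v = 0) (hve : B v e = 0) (hn : v ∉ F ∙ e) :
    ∃ f, B f e = 0 ∧ UHypPair B v f := by
  obtain ⟨y, hy, e1⟩ := h.herm.exists_perp_eq_one hn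
  obtain ⟨f, hf, f1, f2⟩ := h.herm.exists_mem_partner (W := uPerp B (F ∙ e))
    (mem_uPerp_span_singleton.2 (h.zero_symm hve)) hy hv (by rw [e1]; exact one_ne_zero)
  exact ⟨f, h.zero_symm (mem_uPerp_span_singleton.1 hf), h.herm.uHypPair hv f1 f2⟩

theorem M1_pair {e : V} (he : Iso B e) : ∃ w w', B w e = 0 ∧ B w' e = 0 ∧ UHypPair B w w' := by
  obtain ⟨f, p⟩ := h.exists_pair he
  obtain ⟨w, w', fr⟩ := h.exists_frame'' p
  exact ⟨w, w', h.zero_symm fr.ee, h.zero_symm fr.ef, fr.p2⟩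

theorem M1_iso_add {v w : V} (hv : B v v = 0) (hw : B w w = 0) (e : B v w = 0) : B (v + w) (v + w) = 0 := by
  simp [hv, hw, e, h.zero_symm e]

theorem M1_tv {e v : V} (hv : B v v = 0) (hve : B v e = 0) {a : F} (ha : σ a = a) : tv B v a ∈ M1 B e :=
  mem_M1.2 ⟨h.tv_mem hv ha, tv_perp a (h.zero_symm hve)⟩

theorem SUY_gen {Y : Submodule F V} (hY : Disjoint Y (uPerp B Y)) (h3 : ¬ (finrank F Y = 3 ∧ q = 2)) :
    SU B ⊓ SLY B Y ≤ closure {g | ∃ v ∈ Y, ∃ a, B v v = 0 ∧ σ a = a ∧ g = tv B v a} := by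
  rintro _ ⟨⟨k, hk, rfl⟩, ⟨-, hm⟩, hf⟩
  have hc := h.herm.isCompl_uPerp hY
  have h1 : k ∈ uStab F (Y : Set V) := mem_uStab_of_forall fun v hv => by
    have := add_mem (hm.2 v trivial) hv
    rwa [sub_add_cancel] at this
  have h2 : k ∈ uFixer F (uPerp B Y : Set V) := hf
  have e := uSum_uRestrict hc h1 (uFixer_le_uStab _ h2)
  rw [(uRestrict_eq_one_iff (g := ⟨k, uFixer_le_uStab _ h2⟩)).2 h2] at e
  have hr : uRestrict Y ⟨k, h1⟩ ∈ USG (uRes B Y) := mem_USG.2 ⟨uRestrict_mem_UG hk.1, by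
    have := det_uSum hc (uRestrict Y ⟨k, h1⟩, 1)
    rw [e, (mem_USG.1 hk).2, map_one, mul_one] at this
    exact this.symm⟩
  rw [← (h.herm.restrict hY).closure_uTransvs h.uf h3] at hr
  have := mem_map_of_mem (lin.comp ((uSum hc).comp (MonoidHom.inl _ _))) hr
  rw [MonoidHom.map_closure] at this
  rw [← e]
  refine closure_mono ?_ this
  rintro _ ⟨_, ⟨z, c, hz, hc', rfl⟩, rfl⟩
  refine ⟨z, z.2, c, hz, (CharTwo.add_eq_zero.1 hc').symm, congrArg lin (LinearEquiv.ext fun x => ?_)⟩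
  obtain ⟨y, y', rfl⟩ := u_exists_add_of_isCompl hc x
  have hz' : B z z = 0 := hz
  have e1 : B y' z = 0 := h.zero_symm (y'.2 z z.2)
  change uSum hc (uRefl (uRes B Y) z c, 1) (y + y' : V) = _
  rw [uSum_apply_add, uRefl_apply_of_isotropic hz, uRefl_apply_of_isotropic hz', map_add, LinearMap.add_apply, e1,
    add_zero, uRes_apply]
  simp only [Submodule.coe_add, Submodule.coe_smul, LinearEquiv.coe_one, id]
  abel

theorem iso_span {e : V} (he : Iso B e) {P : AddSubgroup V} (hP : ∀ v, B v v = 0 → B v e = 0 → v ∈ P) {u : V}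
    (hu : B u e = 0) : u ∈ P := by
  obtain ⟨w, w', hw, hw', p⟩ := h.M1_pair he
  have key : ∀ u, B u e = 0 → B w u ≠ 0 → u ∈ P := fun u hu hn => by
    obtain ⟨c, hc⟩ := h.exists_iso_add (TI_span p.left) (Submodule.mem_span_singleton_self w) hn
    have := P.sub_mem (hP _ hc (by simp [hu, hw])) (hP (c • w) (by simp [p.left]) (by simp [hw]))
    rwa [add_sub_cancel_right] at this
  by_cases e1 : B w u = 0
  · have := P.sub_mem (key (u + w') (by simp [hu, hw']) (by simp [e1, p.pair])) (hP w' p.right hw')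
    rwa [add_sub_cancel_right] at this
  · exact key u hu e1

theorem M1_gen {e : V} (he : Iso B e) :
    M1 B e = closure {g | ∃ v a, B v v = 0 ∧ B v e = 0 ∧ σ a = a ∧ g = tv B v a} := by
  refine le_antisymm ?_ ((closure_le _).2 ?_)
  swap
  · rintro _ ⟨v, a, hv, hve, ha, rfl⟩
    exact h.M1_tv hv hve ha
  set H := closure {g | ∃ v a, B v v = 0 ∧ B v e = 0 ∧ σ a = a ∧ g = tv B v a}
  have t : ∀ v a, B v v = 0 → B v e = 0 → σ a = a → tv B v a ∈ H := fun v a h1 h2 h3 =>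
    subset_closure ⟨v, a, h1, h2, h3, rfl⟩
  have hx : ∀ w, B w w = 0 → B w e = 0 → xx B e w ∈ H := fun w hw hwe => by
    have e1 := h.tv_add he.iso hwe hw (map_one σ)
    rw [one_smul] at e1
    have := t (e + w) 1 (h.M1_iso_add he.iso hw (h.zero_symm hwe)) (by simp [he.iso, hwe]) (map_one σ)
    rwa [e1, H.mul_mem_cancel_left (H.mul_mem (t e 1 he.iso he.iso (map_one σ)) (t w 1 hw hwe (map_one σ)))] at this
  let P : AddSubgroup V :=
    { carrier := {u | B u e = 0 ∧ ∀ s, s + σ s = B u u → ei B e u s ∈ H}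
      zero_mem' := ⟨by simp, fun s hs => by
        rw [h.ei_zero he.iso]
        exact t e s he.iso he.iso (CharTwo.add_eq_zero.1 (by simpa using hs)).symm⟩
      add_mem' := fun {u u'} hu hu' => ⟨by simp [hu.1, hu'.1], fun s hs => by
        obtain ⟨s1, h1⟩ := h.herm.toUInvol.exists_trace_eq (h.herm.fixed u)
        have := H.mul_mem (hu.2 s1 h1) (hu'.2 (s - s1 - B u' u) (by
          simp only [map_add, LinearMap.add_apply] at hs
          rw [map_sub, map_sub, h.symm]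
          linear_combination hs - h1))
        rwa [h.ei_mul he.iso hu.1 hu'.1, show s1 + (s - s1 - B u' u) + B u' u = s by ring] at this⟩
      neg_mem' := fun {u} hu => by rwa [vneg (F := F)] }
  have hQ : ∀ u, B u e = 0 → ∀ s, s + σ s = B u u → ei B e u s ∈ H := fun u hu =>
    (h.iso_span he (P := P) (fun v hv hve => ⟨hve, fun s hs => by
      have := H.mul_mem (hx v hv hve) (t e s he.iso he.iso (CharTwo.add_eq_zero.1 (hs.trans hv)).symm)
      rw [xx, ← h.ei_zero he.iso, h.ei_mul he.iso hve (by simp)] at this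
      simpa using this⟩) hu).2
  intro g hg
  obtain ⟨hg1, hg2⟩ := mem_M1.1 hg
  obtain ⟨f, p⟩ := h.exists_pair he
  have p' : UHypPair B e (g • f) := h.herm.uHypPair he.iso (by rw [SU_map hg1, p.right])
    (by rw [← p.pair, ← SU_map hg1 e f, hg2])
  obtain ⟨_, ⟨u, s, hu, hs, rfl⟩, e1⟩ := h.herm.exists_uEichGroup_apply p p'
  have hs' : s + σ s = B u u := CharTwo.add_eq_zero.1 hs
  have hk : (ei B e u s)⁻¹ * g ∈ SU B := mul_mem (inv_mem (h.ei_mem he.iso hu hs')) hg1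
  have hfx : ∀ x ∈ uPerp B (uPerp B (Submodule.span F {e, f})), ((ei B e u s)⁻¹ * g) • x = x := by
    rw [h.herm.uPerp_uPerp]
    intro x hx
    obtain ⟨a, b, rfl⟩ := Submodule.mem_span_pair.1 hx
    rw [smul_add, smul_sm_of (fld_SU hk), smul_sm_of (fld_SU hk), mul_smul, mul_smul, hg2,
      inv_smul_eq_iff.2 (h.ei_self he.iso hu s).symm, inv_smul_eq_iff.2 e1.symm]
  have := h.SUY_gen (h.herm.disjoint_uPerp (h.herm.disjoint_span_pair p.left p.right p.pair)) (by
      rw [h.herm.finrank_uPerp, h.herm.finrank_span_pair p.left p.right p.pair]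
      have := h.m4
      omega) ⟨hk, ⟨SU_le_SL hk, (h.mem_AW_of_fix hk hfx).2⟩, hfx⟩
  rw [← H.mul_mem_cancel_left (inv_mem (hQ u hu s hs'))]
  refine closure_mono ?_ this
  rintro _ ⟨v, hv, a, h1, h2, rfl⟩
  exact ⟨v, a, h1, h.zero_symm (mem_uPerp_span_pair.1 hv).1, h2, rfl⟩

/-- A transvection as a commutator of two Eichler maps. -/
theorem M1_comm {D : Subgroup (SG F V)} {v u u' : V} (hv : B v v = 0) (hu : B u v = 0) (hu' : B u' v = 0) {s s' : F}
    (h1 : ei B v u s ∈ D) (h2 : ei B v u' s' ∈ D) : tv B v (B u u' + B u' u) ∈ ⁅D, D⁆ := by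
  have := commutator_mem_commutator (inv_mem h1) (inv_mem h2)
  rwa [commutatorElement_def, inv_inv, inv_inv, mul_assoc, h.ei_comm hv hu hu', ← mul_inv_rev, mul_assoc,
    ← mul_assoc, ← mul_assoc, mul_assoc _ (ei B v u' s'), inv_mul_cancel, one_mul] at this

theorem Zv_le_comm {e : V} (he : Iso B e) : Zv B e ≤ ⁅Qv B e, Qv B e⁆ := by
  intro g hg
  obtain ⟨a, ha, rfl⟩ := (h.mem_Zv he).1 hg
  obtain ⟨w, w', hw, hw', p⟩ := h.M1_pair he
  obtain ⟨c, hc⟩ := h.herm.toUInvol.exists_trace_eq ha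
  have hc' : B (c • w) e = 0 := by simp [hw]
  have := h.M1_comm he.iso hc' hw' ((h.mem_Qv he).2 ⟨c • w, 0, hc', by simp [p.left], rfl⟩)
    ((h.mem_Qv he).2 ⟨w', 0, hw', by simp [p.right], rfl⟩)
  simpa [p.pair, p.pair', hc] using this

theorem SU_normal {N : Subgroup (SG F V)} (hle : N ≤ SU B) (hn : SU B ≤ 𝐍[N]) : N ≤ Sc F V ∨ N = SU B := by
  have h4 := h.four_le
  rcases h.herm.normal_le_center_or_eq_top h.uf (by omega) (by omega) ((N.comap lin).subgroupOf (USG B))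
    ⟨fun a ha g => by
      have := conj_mem_of_norm (hn (lin_mem_SU.2 g.2)) (show lin a.1 ∈ N from ha)
      rw [← map_inv, ← map_mul, ← map_mul] at this
      exact this⟩ with e | e
  · refine .inl fun g hg => h.cen_SU fun v a hv ha => ?_
    obtain ⟨k, hk, rfl⟩ := hle hg
    have := mem_center_iff.1 (e (x := ⟨k, hk⟩) hg) ⟨uRefl B v a, lin_mem_SU.1 (h.tv_mem hv ha)⟩
    rw [tv, ← map_mul, ← map_mul]
    exact congrArg lin (congrArg Subtype.val this).symm
  · refine .inr (le_antisymm hle ?_)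
    rintro _ ⟨k, hk, rfl⟩
    exact e.ge (mem_top (⟨k, hk⟩ : USG B))

theorem fld_der {x : SG F V} (hx : x ∈ ⁅(⊤ : Subgroup (SG F V)), (⊤ : Subgroup (SG F V))⁆) : fld x = 1 := by
  refine (commutator_le (H₃ := (fld : SG F V →* RingAut F).ker)).2 (fun a _ b _ => ?_) hx
  rw [MonoidHom.mem_ker, map_commutatorElement, commutatorElement_eq_one_iff_mul_comm]
  exact Aut.ringAut_comm _ _

theorem Gam_der : ⁅⁅Gam B, Gam B⁆, ⁅Gam B, Gam B⁆⁆ ≤ SU B := by
  have h1 : ⁅Gam B, Gam B⁆ ≤ Gam B := comm_le_left le_normalizer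
  refine commutator_le.2 fun a ha b hb => mem_SU.2 ⟨h1 (commutator_mem_commutator (h1 ha) (h1 hb)), ?_⟩
  obtain ⟨k, rfl⟩ := exists_lin (h.fld_der (commutator_mono le_top le_top ha))
  obtain ⟨l, rfl⟩ := exists_lin (h.fld_der (commutator_mono le_top le_top hb))
  refine mem_SL.2 ⟨⁅k, l⁆, ?_, map_commutatorElement _ _ _⟩
  rw [map_commutatorElement, commutatorElement_eq_one_iff_mul_comm, mul_comm]

end Sp

end Cfsg.Agent.U4t
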