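import Mathlib
import Cfsg.Agent.U4t.Cfg2
import Cfsg.Agent.U4t.AWb
import Cfsg.Agent.U4t.Flag
import Cfsg.Agent.U4t.JL
import Cfsg.Agent.U4t.JS

set_option autoImplicit false
set_option linter.unusedSectionVars false

namespace Cfsg.Agent.U4t

open Cfsg Cfsg.Agent.Cl Cfsg.Agent.Loc.Mss Subgroup Module
open Cfsg.Agent.StdB (C1 mem_C1 El)
open scoped commutatorElement

theorem JJ_pg {Γ : Type*} [Group Γ] {E : Subgroup Γ} (h : El E) : IsPGroup 2 E := fun x =>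
  ⟨1, Subtype.ext (by rw [pow_one, pow_two]; exact h x x.2)⟩

theorem JJ_comm {Γ : Type*} [Group Γ] {E : Subgroup Γ} (h : El E) {a b : Γ} (ha : a ∈ E) (hb : b ∈ E) :
    b * a = a * b :=
  calc b * a = (b * a)⁻¹ := eq_inv_of_mul_eq_one_left (h _ (mul_mem hb ha))
    _ = a * b := by
      rw [mul_inv_rev, inv_eq_of_mul_eq_one_left (h a ha), inv_eq_of_mul_eq_one_left (h b hb)]

theorem JJ_half (k : ℕ) : 2 * (k * (k + 1) / 2) = k * (k + 1) :=
  Nat.mul_div_cancel' (Nat.even_mul_succ_self k).two_dvd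

variable {F : Type*} [Field F] [Finite F] [CharP F 2] {σ : F →+* F} {V : Type*} [AddCommGroup V] [Module F V]
  [Finite V] {B : V →ₗ[F] V →ₛₗ[σ] F} {q : ℕ} {G : Type*} [Group G] [Finite G]

namespace Sp

variable (h : Sp B q)
include h

theorem JJ_num : 2 * q ^ (finrank F V / 2 * (finrank F V / 2 + 1) / 2) ≤ q ^ ((finrank F V / 2) ^ 2) := by
  rw [h.m4, h.q2]; norm_num

theorem JJ_SU {g : SG F V} (hg : g ∈ Gam B) (g2 : g * g = 1) (hf : fld g = 1) : g ∈ SU B :=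
  h.two_mem_SU hg hf (n := 1) (by rw [pow_one, pow_two, g2])

theorem el_semi {E : Subgroup (SG F V)} (hE : El E) (hG : E ≤ Gam B) {β : SG F V} (hβ : β ∈ E) (hf : fld β ≠ 1) :
    Nat.card E ≤ 2 * q ^ (finrank F V / 2 * (finrank F V / 2 + 1) / 2) := by
  obtain ⟨-, W, -, hW, -, -, hS⟩ := h.exists_flag (JJ_pg hE) hG
  have hσ : ∀ g ∈ E, fld g = 1 ∨ ∀ a, fld g a = σ a := fun g hg =>
    h.fld_of_sq (by rw [← map_mul, hE g hg, map_one])
  have h1 : (SU B).relIndex E ≤ 2 := by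
    rw [← Nat.card_eq_fintype_card.trans Fintype.card_bool]
    refine JL_rel _ _ fld (fun b : Bool => cond b 1 (fld β)) (fun a ha => ?_) fun a ha b hb e => ?_
    · rcases hσ a ha with e | e
      · exact ⟨true, e.symm⟩
      · exact ⟨false, RingEquiv.ext fun x => ((hσ β hβ).resolve_left hf x).trans (e x).symm⟩
    · have := mul_mem (inv_mem ha) hb
      exact h.JJ_SU (hG this) (hE _ this) (by rw [map_mul, map_inv, e, inv_mul_cancel])
  have h2 := h.JS hW.ti ⟨hG hβ, hS hβ⟩ (hE β hβ) hf (P := SU B ⊓ E) (JJ_pg fun g hg => hE g hg.2)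
    fun g hg => ⟨⟨hg.1, hS hg.2⟩, mem_C1.2 (JJ_comm hE hβ hg.2)⟩
  rw [hW.dim] at h2
  rw [← JL_card (SU B) E, ← JL_card (Fix F (W : Set V)) (SU B ⊓ E), mul_comm 2]
  refine Nat.mul_le_mul (le_trans (Nat.mul_le_mul_right _ (card_le_of_le fun g hg => ?_)) h2) h1
  exact ⟨⟨h.inv_mem_AW hW (hG hg.2.2) (hE g hg.2.2) hg.1, mem_C1.2 (JJ_comm hE hβ hg.2.2)⟩,
    mem_cent.2 fun a ha => JJ_comm hE hg.2.2 ha.2⟩

theorem JJ_lin {E : Subgroup (SG F V)} (hE : El E) (hG : E ≤ Gam B) (hf : ∀ g ∈ E, fld g = 1) :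
    ∃ W, MaxTI B W ∧ Nat.card E ≤ q ^ ((finrank F V / 2) ^ 2) ∧
      (¬ E ≤ AW B W → q * Nat.card E ≤ q ^ ((finrank F V / 2) ^ 2)) := by
  obtain ⟨-, W, -, hW, -, -, hS⟩ := h.exists_flag (JJ_pg hE) hG
  obtain ⟨h1, h2⟩ := h.JL hW.ti (JJ_pg hE) fun g hg => ⟨h.JJ_SU (hG hg) (hE g hg) (hf g hg), hS hg⟩
  rw [hW.dim] at h1 h2
  have h3 : Nat.card E ≤ Nat.card (AW B W ⊓ 𝐂[E] : Subgroup _) * (Fix F (W : Set V)).relIndex E := by
    conv_lhs => rw [← JL_card (Fix F (W : Set V)) E]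
    exact Nat.mul_le_mul_right _ (card_le_of_le fun g hg =>
      ⟨h.inv_mem_AW hW (hG hg.2) (hE g hg.2) hg.1, mem_cent.2 fun a ha => JJ_comm hE hg.2 ha⟩)
  exact ⟨W, hW, h3.trans h1, fun hn => (Nat.mul_le_mul_left _ h3).trans
    (h2 fun e => hn fun g hg => h.inv_mem_AW hW (hG hg) (hE g hg) (e hg))⟩

theorem el_le {E : Subgroup (SG F V)} (hE : El E) (hG : E ≤ Gam B) : Nat.card E ≤ q ^ ((finrank F V / 2) ^ 2) := by
  by_cases hf : ∀ g ∈ E, fld g = 1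
  · obtain ⟨W, -, h1, -⟩ := h.JJ_lin hE hG hf
    exact h1
  · push Not at hf
    obtain ⟨β, hβ, hf⟩ := hf
    exact (h.el_semi hE hG hβ hf).trans h.JJ_num

theorem el_eq {E : Subgroup (SG F V)} (hE : El E) (hG : E ≤ SU B) (hc : q ^ ((finrank F V / 2) ^ 2) ≤ Nat.card E) :
    ∃ W, MaxTI B W ∧ E = AW B W := by
  obtain ⟨W, hW, -, h2⟩ := h.JJ_lin hE (hG.trans SU_le_Gam) fun g hg => fld_SU (hG hg)
  refine ⟨W, hW, eq_of_le_of_card_ge ?_ (by rwa [h.card_AW hW.ti, hW.dim])⟩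
  by_contra hn
  have := (h2 hn).trans hc
  have h0 : 0 < Nat.card E := Nat.card_pos
  have := h.uf.two_le
  nlinarith

theorem num1 : 2 * q ^ ((finrank F V / 2) ^ 2) < q ^ (finrank F V / 2 * (finrank F V / 2 + 1)) := by
  have h2 := h.uf.two_le
  have hk := h.two_le_k
  generalize finrank F V / 2 = k at *
  have h0 : 0 < q ^ k ^ 2 := pow_pos (by omega) _
  calc 2 * q ^ k ^ 2 < q ^ (k ^ 2 + 2) := by
        have : 4 ≤ q ^ 2 := by nlinarith
        rw [pow_add]; nlinarith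
    _ ≤ _ := Nat.pow_le_pow_right (by omega) (by nlinarith)

end Sp

end Cfsg.Agent.U4t
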