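import Mathlib
import Cfsg.Agent.U4t.Cfg2
import Cfsg.Agent.U4t.SLa
import Cfsg.Agent.U4t.Flag
import Cfsg.Agent.U4t.AWa
import Cfsg.Agent.Cl.LinearBasic

/-! Facts on the special linear group of a unitary space. -/

set_option autoImplicit false
set_option linter.unusedSectionVars false

namespace Cfsg.Agent.U4t

open Cfsg Cfsg.Agent.Cl Cfsg.Agent.Loc.Mss Subgroup Module
open Cfsg.Agent.StdB (C1 mem_C1 El)
open scoped commutatorElement

variable {F : Type*} [Field F] [Finite F] [CharP F 2] {σ : F →+* F} {V : Type*} [AddCommGroup V] [Module F V]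
  [Finite V] {B : V →ₗ[F] V →ₛₗ[σ] F} {q : ℕ} {G : Type*} [Group G] [Finite G]

theorem slc_mu : ∃ μ : Matrix.SpecialLinearGroup (Fin (finrank F V)) F →* SG F V, Function.Injective μ ∧
    μ.range = SL F V ∧ ∀ A ∈ center (Matrix.SpecialLinearGroup (Fin (finrank F V)) F), μ A ∈ Sc F V := by
  let b := Module.finBasis F V
  refine ⟨lin.comp ((slAut F V).subtype.comp (slEquivBasis b).toMonoidHom),
    lin_injective.comp (Subtype.val_injective.comp (slEquivBasis b).injective), ?_, fun A hA => ?_⟩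
  · rw [MonoidHom.range_comp, MonoidHom.range_comp,
      MonoidHom.range_eq_top.2 (slEquivBasis b).surjective, map_subtype_top]
    rfl
  · obtain ⟨r, -, hr⟩ := Matrix.SpecialLinearGroup.mem_center_iff.1 hA
    have e : ∀ x : V, (slEquivBasis b A : V ≃ₗ[F] V) x = r • x := fun x => by
      rw [slEquivBasis_apply, ← hr, Matrix.scalar_apply, ← Matrix.smul_one_eq_diagonal, Matrix.smul_mulVec,
        Matrix.one_mulVec, map_smul, LinearEquiv.symm_apply_apply]
    by_cases r0 : r = 0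
    · refine ⟨rfl, 1, one_ne_zero, fun x => ?_⟩
      have : x = 0 := (slEquivBasis b A : V ≃ₗ[F] V).map_eq_zero_iff.1 (by rw [e, r0, zero_smul])
      rw [this, smul_zero, smul_zero]
    · exact ⟨rfl, r, r0, e⟩

theorem slc_one {a : F} (e : a * a = 1) : a = 1 := by
  rcases mul_self_eq_one_iff.1 e with h | h
  · exact h
  · rw [h, CharTwo.neg_eq]

namespace Sp

variable (h : Sp B q)
include h

theorem slc_three : 3 ≤ Fintype.card (Fin (finrank F V)) ∨ ∃ a : F, a ≠ 0 ∧ a ^ 2 ≠ 1 :=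
  Or.inl (by rw [Fintype.card_fin]; have := h.four_le; omega)

/-- determinants of adjoint maps -/
theorem slc_det {f g k : V →ₗ[F] V} (e : ∀ x y, B (f x) (g y) = B (k x) y) :
    LinearMap.det f * σ (LinearMap.det g) = LinearMap.det k := by
  obtain ⟨b, hb⟩ := h.herm.exists_orthonormal_basis rfl
  have c : ∀ x i, B x (b i) = b.repr x i := fun x i => by
    conv_lhs => rw [← b.sum_repr x, map_sum, LinearMap.sum_apply]
    simp only [map_smul, LinearMap.smul_apply, hb, smul_eq_mul, mul_ite, mul_one, mul_zero, Finset.sum_ite_eq',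
      Finset.mem_univ, if_true]
  have s : ∀ x y, B x y = ∑ i, b.repr x i * σ (b.repr y i) := fun x y => by
    conv_lhs => rw [← b.sum_repr y]
    rw [map_sum]
    exact Finset.sum_congr rfl fun i _ => by rw [map_smulₛₗ, c, smul_eq_mul, mul_comm]
  rw [← LinearMap.det_toMatrix b, ← LinearMap.det_toMatrix b, ← LinearMap.det_toMatrix b, RingHom.map_det,
    ← Matrix.det_transpose (LinearMap.toMatrix b b f), ← Matrix.det_mul,
    ← Matrix.det_transpose (LinearMap.toMatrix b b k)]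
  congr 1
  ext i j
  simp only [Matrix.mul_apply, Matrix.transpose_apply, RingHom.mapMatrix_apply, Matrix.map_apply,
    LinearMap.toMatrix_apply]
  rw [← s, e, c]

theorem SL_perfect : ⁅SL F V, SL F V⁆ = SL F V := by
  obtain ⟨μ, -, r, -⟩ := slc_mu (F := F) (V := V)
  have := sl_commutator_eq_top h.slc_three
  rw [← r, MonoidHom.range_eq_map, ← map_commutator, ← commutator_def, this]

theorem SL_normal {N : Subgroup (SG F V)} (hle : N ≤ SL F V) (hn : SL F V ≤ 𝐍[N]) : N ≤ Sc F V ∨ N = SL F V := by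
  obtain ⟨μ, -, r, c⟩ := slc_mu (F := F) (V := V)
  have : (N.comap μ).Normal := ⟨fun n hn' g => by
    rw [mem_comap, map_mul, map_mul, map_inv]
    exact conj_mem_of_norm (hn (r ▸ ⟨g, rfl⟩)) hn'⟩
  have e : (N.comap μ).map μ = N := map_comap_eq_self (r ▸ hle)
  rcases sl_normal_le_center_or_eq_top h.slc_three (N.comap μ) with k | k
  · exact Or.inl (e ▸ map_le_iff_le_comap.2 fun A hA => c A (k hA))
  · exact Or.inr (by rw [← e, k, ← MonoidHom.range_eq_map, r])

theorem two_mem_SL {g : SG F V} (hf : fld g = 1) {n : ℕ} (e : g ^ 2 ^ n = 1) : g ∈ SL F V := by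
  obtain ⟨k, rfl⟩ := exists_lin hf
  refine lin_mem_SL.2 (mem_slAut.2 ?_)
  have h1 : LinearEquiv.det k ^ 2 ^ n = 1 := by
    rw [← map_pow, lin_injective ((map_pow lin k _).trans (e.trans (map_one lin).symm)), map_one]
  apply Units.ext
  have h2 : ((LinearEquiv.det k : Fˣ) : F) ^ 2 ^ n = 1 ^ 2 ^ n := by
    rw [← Units.val_pow_eq_pow_val, h1, one_pow]; rfl
  exact (iterateFrobenius_inj F 2 n) h2

theorem slc_perp (w b : V) : ∃ v, v ≠ 0 ∧ B w v = 0 ∧ B b v = 0 := by
  classical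
  have a := h.herm.finrank_uPerp (Submodule.span F {w, b})
  have c : finrank F (Submodule.span F ({w, b} : Set V)) ≤ 2 :=
    (finrank_span_le_card _).trans (by rw [Set.toFinset_insert, Set.toFinset_singleton]; exact Finset.card_le_two)
  have := h.four_le
  obtain ⟨v, hv, v0⟩ := (Submodule.ne_bot_iff (uPerp B (Submodule.span F {w, b}))).1 fun e => by
    rw [e, finrank_bot] at a
    omega
  exact ⟨v, v0, mem_uPerp_span_pair.1 hv⟩

theorem not_dual {γ : SG F V} : ¬ ∀ x ∈ SL F V, Dual B x (γ * x * γ⁻¹) := by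
  intro H
  obtain ⟨w, hw⟩ := h.exists_iso
  refine hw.ne ((smul_eq_zero_iff_eq γ).1 (h.herm.nondeg _ fun b => ?_))
  obtain ⟨v, v0, wv, bv⟩ := h.slc_perp w b
  obtain ⟨a, ha⟩ : ∃ a, B a v ≠ 0 := by
    by_contra! c
    exact v0 (h.herm.nondeg' v c)
  have e := (H (trv B w v 1) (trv_mem_SL w v 1)).map (γ • a) b
  rw [mul_smul, mul_smul, inv_smul_smul, trv_smul wv, trv_smul wv, bv, mul_zero, zero_smul, add_zero, fld_trv,
    smul_add, smul_sm, map_add, LinearMap.map_smul, LinearMap.add_apply, LinearMap.smul_apply, one_mul] at e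
  exact (mul_eq_zero.1 (add_eq_left.1 e)).resolve_left ((map_ne_zero (fld γ)).2 ha)

theorem unit {d : SG F V} (hd : d ∈ SL F V) (hs : ∀ x y, B (d • x) y = B x (d • y)) :
    ∃ v ∈ SL F V, ∀ x y, B (v • x) (v • y) = B (d • x) y := by
  obtain ⟨k, k1, rfl⟩ := mem_SL.1 hd
  have hB : IsHerm (B.comp (k : V →ₗ[F] V)) :=
    { h.herm.toUInvol with
      symm := fun x y => (h.symm _ _).trans (hs y x).symm
      nondeg := fun x hx => k.map_eq_zero_iff.1 (h.herm.nondeg _ hx) }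
  obtain ⟨e, he⟩ := hB.exists_equiv h.herm rfl
  have n := h.slc_det (f := e) (g := e) (k := k) he
  rw [← LinearEquiv.coe_det k, k1, Units.val_one] at n
  have := h.nontrivial
  obtain ⟨p, hp⟩ := h.herm.exists_norm_one
  have p0 : B p p ≠ 0 := hp ▸ one_ne_zero
  have u : (LinearMap.det (e : V →ₗ[F] V))⁻¹ * σ (LinearMap.det (e : V →ₗ[F] V))⁻¹ = 1 := by
    rw [map_inv₀, ← mul_inv, n, inv_one]
  refine ⟨lin (uRefl B p (((LinearMap.det (e : V →ₗ[F] V))⁻¹ - 1) / B p p) * e), lin_mem_SL.2 (mem_slAut'.2 ?_),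
    fun x y => (UG_map (h.herm.uRefl_mem (h.herm.uRefl_quasi p0 u)) _ _).trans (he x y)⟩
  rw [LinearEquiv.coe_toLinearMap_mul, map_mul, h.herm.det_quasi p0 u,
    inv_mul_cancel₀ (left_ne_zero_of_mul_eq_one n)]

theorem twist_conj {x g γ γ' : SG F V} (hx : x ∈ SL F V) (hg : g ∈ Gam B) (hf : fld g = 1) (e : γ = x * g)
    (hd : Dual B γ γ') (h2 : γ * γ' ∈ Sc F V) : ∃ v ∈ SL F V, ∃ v', Dual B v v' ∧ v * γ * v'⁻¹ ∈ Sc F V := by
  have f1 : fld γ = 1 := by rw [e, map_mul, fld_SL hx, hf, mul_one]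
  have f2 : fld γ⁻¹ = 1 := by rw [map_inv, f1, inv_one]
  obtain ⟨-, s, s0, hs⟩ := h2
  have k : ∀ a b, s * B (γ⁻¹ • a) b = B a (γ⁻¹ • b) := fun a b => by
    have := hd.map a (γ⁻¹ • b)
    rwa [smul_inv_smul, f1, ← inv_smul_smul γ (γ' • a), ← mul_smul γ, hs, smul_sm_of f2, map_smul,
      LinearMap.smul_apply] at this
  have := h.nontrivial
  obtain ⟨p, hp⟩ := h.herm.exists_norm_one
  have ns : s * σ s = 1 := by
    have a := congrArg σ (k (γ • p) p)
    rw [map_mul, h.symm, h.symm, inv_smul_smul, hp, mul_one] at a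
    rw [a, k, inv_smul_smul, hp]
  obtain ⟨η, hη⟩ := (frobeniusEquiv F 2).surjective s
  replace hη : η * η = s := (pow_two η).symm.trans hη
  have η0 : η ≠ 0 := fun c => s0 (by rw [← hη, c, mul_zero])
  have nη : η * σ η = 1 := slc_one (by rw [← ns, ← hη, map_mul]; ring)
  have sa : ∀ a b, B ((γ⁻¹ * sc V η) • a) b = B a ((γ⁻¹ * sc V η) • b) := fun a b => by
    rw [mul_smul, mul_smul, sc_smul η0, sc_smul η0, smul_sm_of f2, smul_sm_of f2, map_smul, LinearMap.map_smulₛₗ, ← k,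
      LinearMap.smul_apply, smul_eq_mul, smul_eq_mul, ← hη]
    linear_combination (-η * B (γ⁻¹ • a) b) * nη
  have dS : γ⁻¹ * sc V η ∈ SL F V := by
    obtain ⟨x0, x1, rfl⟩ := mem_SL.1 hx
    obtain ⟨g0, rfl⟩ := exists_lin hf
    obtain ⟨e0, he⟩ := exists_lin (fld_sc (V := V) η)
    have m := mul_mem (inv_mem (h.herm.det_mem_uNormOne (lin_mem_Gam.1 hg)))
      (h.herm.det_mem_uNormOne (lin_mem_Gam.1 (he ▸ h.sc_mem_Gam nη)))
    rw [e, ← he, ← map_mul, ← map_inv, ← map_mul] at sa ⊢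
    have d1 : LinearEquiv.det ((x0 * g0)⁻¹ * e0) = (LinearEquiv.det g0)⁻¹ * LinearEquiv.det e0 := by
      rw [map_mul, map_inv, map_mul, x1, one_mul]
    rw [← d1, mem_uNormOne, LinearEquiv.coe_det] at m
    have d2 := h.slc_det (f := LinearMap.id) (g := ((x0 * g0)⁻¹ * e0 : V ≃ₗ[F] V))
      (k := ((x0 * g0)⁻¹ * e0 : V ≃ₗ[F] V)) fun a b => (sa a b).symm
    rw [LinearMap.det_id, one_mul] at d2
    rw [d2] at m
    exact lin_mem_SL.2 (mem_slAut'.2 (slc_one m))
  obtain ⟨v, hv, ev⟩ := h.unit dS sa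
  refine ⟨v, hv, v * (γ⁻¹ * sc V η)⁻¹, ⟨by rw [map_mul, map_inv, fld_SL dS, inv_one, mul_one], fun a b => ?_⟩, ?_⟩
  · rw [mul_smul, ev, smul_inv_smul, fld_SL hv]
    rfl
  · rw [show v * γ * (v * (γ⁻¹ * sc V η)⁻¹)⁻¹ = v * sc V η * v⁻¹ by group]
    exact (inferInstance : (Sc F V).Normal).conj_mem _ (sc_mem η) v

theorem syl_iso {U : Subgroup (SG F V)} (hU : Syl 2 U (SL F V)) :
    ∃ P : Sylow 2 (Matrix.ProjectiveSpecialLinearGroup (Fin (finrank F V)) F), Nonempty (U ≃* P) := by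
  obtain ⟨μ, i, r, c⟩ := slc_mu (F := F) (V := V)
  have s : Syl 2 (U.comap μ) ⊤ := ⟨le_top, hU.pg.comap_of_injective μ i, by
    rw [relIndex_comap, ← MonoidHom.range_eq_map, r]; exact hU.nd⟩
  let π := QuotientGroup.mk' (center (Matrix.SpecialLinearGroup (Fin (finrank F V)) F))
  have s' := s.map π
  rw [← MonoidHom.range_eq_map, MonoidHom.range_eq_top.2 (QuotientGroup.mk'_surjective _)] at s'
  obtain ⟨P, hP⟩ := s'.exists_sylow_top
  have j : Function.Injective (π.comp (U.comap μ).subtype) := (injective_iff_map_eq_one _).2 fun A hA => by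
    obtain ⟨n, hn⟩ := pg_iff.1 hU.pg _ A.2
    exact Subtype.ext (i ((Sc_two (c A ((QuotientGroup.eq_one_iff _).1 hA)) hn).trans (map_one μ).symm))
  refine ⟨P, ⟨((MulEquiv.subgroupCongr (map_comap_eq_self (r ▸ hU.le)).symm).trans
    ((U.comap μ).equivMapOfInjective μ i).symm).trans ((MonoidHom.ofInjective j).trans
      (MulEquiv.subgroupCongr ?_))⟩⟩
  rw [MonoidHom.range_comp, range_subtype]
  exact hP.symm

theorem exists_E8 : ∃ E ≤ SU B, El E ∧ Nat.card E = 8 := by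
  obtain ⟨W, -, hW⟩ := h.exists_max (X := ⊥) fun x hx y _ => by rw [(Submodule.mem_bot F).1 hx]; simp
  obtain ⟨n, n1, hq⟩ := h.exists_pow
  have k := h.two_le_k
  have d : 2 ^ 3 ∣ Nat.card (AW B W) := by
    rw [h.card_AW hW.ti, hW.dim, hq, ← pow_mul]
    exact pow_dvd_pow 2 (by nlinarith)
  obtain ⟨K, hK⟩ := Sylow.exists_subgroup_card_pow_prime 2 d
  exact ⟨K.map (AW B W).subtype, (map_subtype_le K).trans (AW_le W),
    fun e he => h.AW_sq hW.ti (map_subtype_le K he), by rw [card_subtype, hK]; rfl⟩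

end Sp

end Cfsg.Agent.U4t
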