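import Mathlib
import Cfsg.Agent.U4t.Cfg3
import Cfsg.Agent.U4t.CB
import Cfsg.Agent.U4t.SLc
import Cfsg.Agent.U4t.TL

set_option autoImplicit false
set_option linter.unusedSectionVars false

namespace Cfsg.Agent.U4t

open Cfsg Cfsg.Agent.Cl Cfsg.Agent.Loc.Mss Subgroup Module
open Cfsg.Agent.StdB (C1 mem_C1 El)
open scoped commutatorElement

variable {F : Type*} [Field F] [Finite F] [CharP F 2] {σ : F →+* F} {V : Type*} [AddCommGroup V] [Module F V]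
  [Finite V] {B : V →ₗ[F] V →ₛₗ[σ] F} {q : ℕ} {G : Type*} [Group G] [Finite G]

theorem FE0_nm (γ : SG F V) : γ ∈ 𝐍[SL F V] := norm_normal ⊤ _ (mem_top γ)

theorem FE0_mul {ρ : SL F V →* G} {g k : G} {γ δ : SG F V} (h : Act ρ g γ) (h' : Act ρ k δ) : Act ρ (g * k) (γ * δ) :=
  h.mul h' fun _ => conj_mem_SL _

theorem FE0_inv {ρ : SL F V →* G} {g : G} {γ : SG F V} (h : Act ρ g γ) : Act ρ g⁻¹ γ⁻¹ :=
  h.inv fun _ hx => by simpa using conj_mem_SL γ⁻¹ hx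

namespace Cfg.Fd

variable {c : Cfg B q G} (f : c.Fd)

theorem L_le : c.L ≤ f.ρ.range := fun g hg => by
  obtain ⟨x, hx, rfl⟩ := mem_range_iff.1 hg
  exact (show ev f.ρ x = ev c.ψ x from f.res x hx) ▸ ev_mem_range x

theorem FE0_t : c.t ∈ 𝐍[f.ρ.range] :=
  mem_norm_of_cj_le (cj_le_iff.2 fun g hg => by
    obtain ⟨x, hx, rfl⟩ := mem_range_iff.1 hg
    obtain ⟨du, hd⟩ := c.sp.exists_du
    rw [c.t_inv, f.dual x hx _ (hd x)]
    exact ev_mem_range _)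

theorem C_norm : c.C ≤ 𝐍[f.ρ.range] := fun g hg => by
  obtain ⟨γ, h1, h2⟩ := c.act hg
  rcases f.act g hg γ h1 h2 with k | k
  · exact k.mem_norm (FE0_nm γ)
  · exact (mul_mem_cancel_right f.FE0_t).1 (k.mem_norm (FE0_nm γ))

theorem mem_M {g : G} : g ∈ f.M ↔ ∃ x ∈ SL F V, ∃ k ∈ c.C, g = ev f.ρ x * k := by
  rw [M, mem_sup_norm f.C_norm]
  constructor
  · rintro ⟨y, hy, k, hk, rfl⟩
    obtain ⟨x, hx, rfl⟩ := mem_range_iff.1 hy
    exact ⟨x, hx, k, hk, rfl⟩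
  · rintro ⟨x, -, k, hk, rfl⟩
    exact ⟨_, ev_mem_range x, k, hk, rfl⟩

theorem act_M {g : G} (hg : g ∈ f.M) : ∃ x ∈ SL F V, ∃ γ ∈ Gam B, Act f.ρ g (x * γ) ∨ Act f.ρ (g * c.t) (x * γ) := by
  obtain ⟨x, hx, k, hk, rfl⟩ := f.mem_M.1 hg
  obtain ⟨γ, h1, h2⟩ := c.act hk
  refine ⟨x, hx, γ, h1, (f.act k hk γ h1 h2).imp (FE0_mul (act_ev hx)) fun h => ?_⟩
  rw [mul_assoc]
  exact FE0_mul (act_ev hx) h

theorem not_both {g : G} {γ γ' : SG F V} (h : Act f.ρ g γ) (h' : Act f.ρ (g * c.t) γ') : False := by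
  have a := FE0_mul (FE0_inv h) h'
  rw [inv_mul_cancel_left] at a
  generalize γ⁻¹ * γ' = δ at a
  obtain ⟨du, hd⟩ := c.sp.exists_du
  refine c.sp.not_dual (γ := δ) fun x hx => ?_
  rw [c.sp.SL_gen] at hx
  have : du x = (MulAut.conj δ).toMonoidHom x := by
    refine MonoidHom.eqOn_closure ?_ hx
    rintro _ ⟨v, b, hv, rfl⟩
    have m := tv_mem_SL (B := B) hv b
    have e := a _ m
    rw [c.t_inv, f.dual _ m _ (c.sp.dual_tv hv b)] at e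
    rw [c.sp.dual_unique (hd _) (c.sp.dual_tv hv b)]
    exact Emb.eq_two f.ker (tv_mem_SL hv _) (conj_mem_SL δ m) (fld_SL (conj_mem_SL δ m)) (n := 1) (m := 1)
      (by rw [pow_one, pow_two, c.sp.tv_sq hv]) (by rw [pow_one, pow_two, ← map_mul, c.sp.tv_sq hv, map_one]) e
  exact (show du x = δ * x * δ⁻¹ from this) ▸ hd x

theorem odd_cent : Odd (Nat.card 𝐂[f.ρ.range]) := by
  refine odd_of_free c.t2 (norm_cent (zpowers_le.2 f.FE0_t) (mem_zpowers _)) fun d hd d2 e => ?_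
  rcases c.inv_K0 ⟨mem_C1.2 e, cent_anti f.L_le hd⟩ d2 with k | k
  · exact k
  · exact (f.not_both act_one (by rw [one_mul, ← k]; exact act_one_iff.2 hd)).elim

theorem FE0_tw {g : G} {γ : SG F V} (h : Act f.ρ g γ) : ∃ δ, fld δ = fld γ ∧ Act f.ρ (c.t * g * c.t) δ := by
  obtain ⟨du, hd⟩ := c.sp.exists_du
  refine ⟨du γ, (hd γ).fld_eq, fun x hx => ?_⟩
  have m := c.sp.dual_SL (hd x) hx
  have e : du (du x) = x := c.sp.dual_unique (hd _) (c.sp.dual_symm (hd x))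
  calc _ = c.t * (g * (c.t * ev f.ρ x * c.t) * g⁻¹) * c.t := by simp only [mul_inv_rev, c.t_inv, mul_assoc]
    _ = _ := by rw [f.dual x hx _ (hd x), h _ m, f.dual _ (conj_mem_SL γ m) _ (hd _), map_mul, map_mul, map_inv, e]

theorem FE0_prod {g k : G} {γ δ : SG F V} (h : Act f.ρ (g * c.t) γ) (h' : Act f.ρ k δ) :
    ∃ η, fld η = fld γ * fld δ ∧ Act f.ρ (g * c.t * (c.t * k * c.t)) η := by
  obtain ⟨δ', e, a⟩ := f.FE0_tw h'
  exact ⟨γ * δ', by rw [map_mul, e], FE0_mul h a⟩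

theorem FE0_e1 (g k : G) : g * c.t * (c.t * k * c.t) = g * k * c.t := by
  simp only [mul_assoc]; rw [← mul_assoc c.t c.t, c.t2, one_mul]

theorem FE0_e2 (g k : G) : g * c.t * (c.t * (k * c.t) * c.t) = g * k := by
  rw [FE0_e1, mul_assoc, mul_assoc, c.t2, mul_one]

theorem exists_eps : ∃ ε : f.M →* Multiplicative (ZMod 2), ∀ g : f.M, ε g = 1 ↔ ∃ γ, Act f.ρ g γ := by
  classical
  have k : ∀ g : f.M, (¬ ∃ γ, Act f.ρ g γ) → ∃ γ, Act f.ρ (g * c.t) γ := fun g h => by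
    obtain ⟨x, -, γ, -, a | a⟩ := f.act_M g.2
    · exact (h ⟨_, a⟩).elim
    · exact ⟨_, a⟩
  refine ⟨MonoidHom.mk' (fun g => if ∃ γ, Act f.ρ g γ then 1 else Multiplicative.ofAdd 1) fun g h => ?_, fun g => ?_⟩
  · by_cases h1 : ∃ γ, Act f.ρ g γ <;> by_cases h2 : ∃ γ, Act f.ρ h γ
    · obtain ⟨γ, a⟩ := id h1
      obtain ⟨δ, b⟩ := id h2
      rw [if_pos h1, if_pos h2, if_pos ⟨_, FE0_mul a b⟩, mul_one]
    · obtain ⟨γ, a⟩ := id h1
      rw [if_pos h1, if_neg h2, if_neg, one_mul]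
      rintro ⟨δ, b⟩
      exact h2 ⟨_, by simpa using FE0_mul (FE0_inv a) b⟩
    · obtain ⟨γ, a⟩ := id h2
      rw [if_neg h1, if_pos h2, if_neg, mul_one]
      rintro ⟨δ, b⟩
      exact h1 ⟨_, by simpa using FE0_mul b (FE0_inv a)⟩
    · obtain ⟨γ, a⟩ := k g h1
      obtain ⟨δ, b⟩ := k h h2
      obtain ⟨η, -, e⟩ := f.FE0_prod a b
      rw [FE0_e2] at e
      rw [if_neg h1, if_neg h2, if_pos ⟨η, e⟩]
      decide
  · simp only [MonoidHom.mk'_apply]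
    split_ifs with h
    · exact iff_of_true rfl h
    · exact iff_of_false (by decide) h

theorem FE0_uniq {g : G} {γ δ : SG F V} (h : Act f.ρ g γ) (h' : Act f.ρ g δ) : fld γ = fld δ := by
  have := fld_Sc (c.sp.act_uniq f.ker SU_le_SL (FE0_nm γ) (FE0_nm δ) h h')
  rwa [map_mul, map_inv, inv_mul_eq_one] at this

theorem exists_fld : ∃ Φ : f.M →* RingAut F, ∀ (g : f.M) γ, (Act f.ρ g γ ∨ Act f.ρ (g * c.t) γ) → Φ g = fld γ := by
  have k : ∀ g : f.M, ∃ γ, Act f.ρ g γ ∨ Act f.ρ (g * c.t) γ := fun g => by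
    obtain ⟨x, -, γ, -, a⟩ := f.act_M g.2
    exact ⟨_, a⟩
  choose φ hφ using k
  have u : ∀ (g : f.M) γ, (Act f.ρ g γ ∨ Act f.ρ (g * c.t) γ) → fld (φ g) = fld γ := fun g γ h => by
    rcases hφ g with a | a <;> rcases h with b | b
    · exact f.FE0_uniq a b
    · exact (f.not_both a b).elim
    · exact (f.not_both b a).elim
    · exact f.FE0_uniq a b
  refine ⟨MonoidHom.mk' (fun g => fld (φ g)) fun g h => ?_, u⟩
  rcases hφ g with a | a <;> rcases hφ h with b | b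
  · rw [u (g * h) _ (Or.inl (FE0_mul a b)), map_mul]
  · rw [u (g * h) _ (Or.inr (by rw [coe_mul, mul_assoc]; exact FE0_mul a b)), map_mul]
  · obtain ⟨η, e, k⟩ := f.FE0_prod a b
    rw [FE0_e1] at k
    rw [u (g * h) _ (Or.inr k), e]
  · obtain ⟨η, e, k⟩ := f.FE0_prod a b
    rw [FE0_e2] at k
    rw [u (g * h) _ (Or.inl k), e]

theorem mem_of_lin {g : G} {γ : SG F V} (h : Act f.ρ g γ) (hf : fld γ = 1) {n : ℕ} (h2 : g ^ 2 ^ n = 1) :
    g ∈ f.ρ.range := by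
  have s : (γ ^ 2 ^ n)⁻¹ ∈ Sc F V := by
    simpa using c.sp.act_uniq f.ker SU_le_SL (FE0_nm _) (FE0_nm _) (h2 ▸ h.pow (FE0_nm γ) (2 ^ n)) act_one
  obtain ⟨m, hm⟩ := exists_pow_eq_self_of_coprime (x := (γ ^ 2 ^ n)⁻¹) (n := 2 ^ n)
    (Nat.Coprime.pow_left n (Nat.coprime_two_left.2 (Sc_odd s)))
  have s' := pow_mem s m
  have e : (γ * (γ ^ 2 ^ n)⁻¹ ^ m) ^ 2 ^ n = 1 := by
    rw [(show Commute _ γ from Sc_comm s' hf).symm.mul_pow, ← pow_mul _ m, mul_comm m, pow_mul, hm, mul_inv_cancel]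
  have a := h.of_Sc le_rfl s'
  have m1 := c.sp.two_mem_SL (by rw [map_mul, hf, fld_Sc s', mul_one]) e
  generalize γ * (γ ^ 2 ^ n)⁻¹ ^ m = δ at e a m1
  have cm : Commute g (ev f.ρ δ) := a.comm_of m1 rfl
  have e2 : (g * (ev f.ρ δ)⁻¹) ^ 2 ^ n = 1 := by
    rw [cm.inv_right.mul_pow, h2, inv_pow, ← ev_pow m1, e, ev_one, inv_one, mul_one]
  have o : orderOf (g * (ev f.ρ δ)⁻¹) = 1 :=
    Nat.eq_one_of_dvd_coprimes (Nat.Coprime.pow_left n (Nat.coprime_two_left.2 f.odd_cent))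
      (orderOf_dvd_of_pow_eq_one e2) (orderOf_dvd_natCard _ (a.mul_inv_cent m1))
  rw [mul_inv_eq_one.1 (orderOf_eq_one_iff.1 o)]
  exact ev_mem_range _

end Cfg.Fd

end Cfsg.Agent.U4t
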