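import Mathlib
import Cfsg.Agent.U4t.Cfg2
import Cfsg.Agent.U4t.Cen
import Cfsg.Agent.U4t.M1

/-! Lifting maps from `SU` through central extensions. -/

set_option autoImplicit false
set_option linter.unusedSectionVars false
set_option linter.unusedVariables false

namespace Cfsg.Agent.U4t

open Cfsg Cfsg.Agent.Cl Cfsg.Agent.Loc.Mss Subgroup Module
open Cfsg.Agent.StdB (C1 mem_C1 El)
open scoped commutatorElement

variable {F : Type*} [Field F] [Finite F] [CharP F 2] {σ : F →+* F} {V : Type*} [AddCommGroup V] [Module F V]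
  [Finite V] {B : V →ₗ[F] V →ₛₗ[σ] F} {q : ℕ} {G : Type*} [Group G] [Finite G]

variable (B) in
/-- The two forms of the special unitary group. -/
noncomputable def liftE : USG B ≃* SU B := (USG B).equivMapOfInjective lin lin_injective

theorem liftE_coe (g : USG B) : (liftE B g : SG F V) = lin (g : V ≃ₗ[F] V) := rfl

theorem Sp.lift_perf (h : Sp B q) : Group.IsPerfect (SU B) := isPerfect_iff.2 h.SU_perfect

theorem Sp.lift_center (h : Sp B q) {x : SU B} (hx : x ∈ center (SU B)) : (x : SG F V) ∈ Sc F V := by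
  obtain ⟨g, rfl⟩ := (liftE B).surjective x
  have hg : g ∈ center (USG B) := mem_center_iff.2 fun k => (liftE B).injective (by
    rw [map_mul, map_mul]; exact mem_center_iff.1 hx _)
  obtain ⟨a, ha⟩ := (h.herm.mem_center_USG_iff (by have := h.four_le; omega)).1 hg
  have := h.nontrivial
  refine ⟨rfl, a, ?_, ha⟩
  rintro rfl
  obtain ⟨v, hv⟩ := exists_ne (0 : V)
  exact hv ((g : V ≃ₗ[F] V).injective (by rw [ha, zero_smul, map_zero]))

theorem exists_emb {F : Type*} [Field F] [Fintype F] [CharP F 2] (hF : Fintype.card F = 2 ^ 2) {L : Subgroup G}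
    (e : L ≃* PSU 4 F 2) :
    Sp (uStd (uConj hF) (Fin 4)) 2 ∧ ∃ ψ : SU (uStd (uConj hF) (Fin 4)) →* G, IsE ψ ∧ ψ.range = L := by
  have uf := uField_uConj hF
  have h : Sp (uStd (uConj hF) (Fin 4)) 2 := ⟨uf.isHerm_uStd _, uf, by simp⟩
  refine ⟨h, ?_⟩
  let ε : SU (uStd (uConj hF) (Fin 4)) ≃* Cfsg.SU 4 F 2 := (liftE _).symm.trans (uf.suEquiv 4).symm
  let f : SU (uStd (uConj hF) (Fin 4)) →* L :=
    e.symm.toMonoidHom.comp ((QuotientGroup.mk' _).comp ε.toMonoidHom)
  have hf : Function.Surjective f := e.symm.surjective.comp ((QuotientGroup.mk'_surjective _).comp ε.surjective)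
  have hk : ∀ x, f x = 1 → (x : SG F (Fin 4 → F)) ∈ Sc F (Fin 4 → F) := fun x hx => by
    have h1 : ε x ∈ center (Cfsg.SU 4 F 2) :=
      (QuotientGroup.eq_one_iff _).1 (e.symm.injective (hx.trans (map_one _).symm))
    exact h.lift_center (mem_center_iff.2 fun g => ε.injective (by simpa using mem_center_iff.1 h1 (ε g)))
  refine ⟨L.subtype.comp f, fun x hx ex => hk ⟨x, hx⟩ ?_, ?_⟩
  · rw [ev_of_mem hx] at ex
    exact Subtype.ext ex
  · rw [MonoidHom.range_comp, MonoidHom.range_eq_top.2 hf, ← MonoidHom.range_eq_map, range_subtype]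

theorem Sp.Sc_four (h : Sp B q) (h4 : finrank F V = 4) {s : SG F V} (hs : s ∈ Sc F V) (h1 : s ∈ SL F V) : s = 1 := by
  obtain ⟨k, hk, rfl⟩ := mem_SL.1 h1
  obtain ⟨-, a, ha, e⟩ := id hs
  have e1 : (k : V →ₗ[F] V) = a • LinearMap.id := LinearMap.ext e
  have e2 : a ^ 4 = 1 := by
    have := congrArg Units.val hk
    rwa [LinearEquiv.coe_det, e1, LinearMap.det_smul, LinearMap.det_id, mul_one, h4] at this
  have e3 : a = 1 := by
    have h2 : (2 : F) = 0 := CharTwo.two_eq_zero
    have : (a - 1) ^ 4 = 0 := by linear_combination e2 + (1 - 2 * a + 3 * a ^ 2 - 2 * a ^ 3) * h2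
    exact sub_eq_zero.1 (pow_eq_zero_iff (by norm_num) |>.1 this)
  exact SG.ext2 (fun x => by rw [e, e3, one_smul, one_smul]) rfl

end Cfsg.Agent.U4t
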