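import Mathlib
import Cfsg.Agent.U4t.Cfg3
import Cfsg.Agent.U4t.CB

set_option autoImplicit false
set_option linter.unusedSectionVars false

namespace Cfsg.Agent.U4t

open Cfsg Cfsg.Agent.Cl Cfsg.Agent.Loc.Mss Subgroup Module
open Cfsg.Agent.StdB (C1 mem_C1 El)
open scoped commutatorElement

variable {F : Type*} [Field F] [Finite F] [CharP F 2] {σ : F →+* F} {V : Type*} [AddCommGroup V] [Module F V]
  [Finite V] {B : V →ₗ[F] V →ₛₗ[σ] F} {q : ℕ} {G : Type*} [Group G] [Finite G]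

theorem PtB_iso (h : Sp B q) {v w : V} (hv : B v v = 0) (hwv : B w v = 0) (hw : B w w = 0) :
    B (v + w) (v + w) = 0 := by simp [hv, hw, hwv, h.zero_symm hwv]

theorem PtB_sq {x y : G} (h : Commute x y) (hx : x * x = 1) (hy : y * y = 1) : x * y * (x * y) = 1 := by
  rw [h.symm.mul_mul_mul_comm, hx, hy, mul_one]

theorem PtB_aux {p r u w x y : G} (h1 : Commute p x) (h2 : Commute w x) (h3 : Commute u w) (h4 : Commute r w)
    (h5 : Commute u y) (h6 : Commute r y) (h7 : Commute w y) (w2 : w * w = 1) (y2 : y * y = 1) :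
    p * w * (x * y) * u * (r * w * y) = x * (p * u * r) := by
  calc _ = p * w * x * (y * (u * r)) * (w * y) := by group
    _ = x * p * (w * (u * r)) * (y * w * y) := by rw [(h1.mul_left h2).eq, ← (h5.mul_left h6).eq]; group
    _ = x * p * (u * r) * (w * w * (y * y)) := by rw [← (h3.mul_left h4).eq, ← h7.eq]; group
    _ = _ := by rw [w2, y2]; group

namespace Cfg.Pt

variable {c : Cfg B q G} (s : c.Pt)

theorem zs_zero {v : V} (hv : B v v = 0) : s.zs v 0 = 1 := by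
  have h := s.add v hv 0 0 (map_zero σ) (map_zero σ)
  rw [add_zero] at h
  exact mul_left_cancel (a := s.zs v 0) (by rw [← h, mul_one])

theorem zs_zero_left {a : F} (ha : σ a = a) : s.zs 0 a = 1 := by
  have h := s.sm 0 (by simp) 0 a ha
  rwa [zero_smul, zero_mul, mul_zero, s.zs_zero (by simp)] at h

theorem zs_sq {v : V} (hv : B v v = 0) {a : F} (ha : σ a = a) : s.zs v a * s.zs v a = 1 := by
  rw [← s.add v hv a a ha ha, CharTwo.add_self_eq_zero, s.zs_zero hv]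

theorem zs_t {v : V} (hv : B v v = 0) {a : F} (ha : σ a = a) : s.zs v a * c.t * (s.zs v a)⁻¹ = c.t * c.z v a := by
  have h1 := s.tz v hv a ha
  have h2 := s.eqv _ (c.sp.tv_mem hv ha) v hv a ha
  rw [tv_perp a hv, mul_inv_eq_iff_eq_mul] at h2
  rw [mul_inv_eq_iff_eq_mul, mul_assoc, show c.z v a * s.zs v a = s.zs v a * c.z v a from h2, ← h1, ← mul_assoc,
    ← mul_assoc, c.t2, one_mul]

theorem zs_cent {v : V} (hv : B v v = 0) {a : F} (ha : σ a = a) : s.zs v a ∈ 𝐂[c.I (M1 B v)] := by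
  refine mem_cent.2 fun x hx => ?_
  obtain ⟨g, hg, rfl⟩ := (mem_im' (M1_le v)).1 hx
  have h2 := s.eqv _ (mem_M1.1 hg).1 v hv a ha
  rwa [(mem_M1.1 hg).2, mul_inv_eq_iff_eq_mul] at h2

theorem zs_Ψ {v : V} (hv : B v v = 0) {a : F} (ha : σ a = a) {g : SG F V} (hg : g ∈ SU B) (e : g • v = v) :
    s.zs v a * c.Ψ g = c.Ψ g * s.zs v a := by
  have h2 := s.eqv _ hg v hv a ha
  rw [e, mul_inv_eq_iff_eq_mul] at h2
  exact h2.symm

theorem zs_z {v w : V} (hv : B v v = 0) (hwv : B v w = 0) (hw : B w w = 0) {a b : F} (ha : σ a = a) (hb : σ b = b) :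
    s.zs v a * c.z w b = c.z w b * s.zs v a := by
  exact s.zs_Ψ hv ha (c.sp.tv_mem hw hb) (tv_perp b hwv)

theorem zs_x {u v w : V} (hu : B u u = 0) (hv : B v v = 0) (hwv : B w v = 0) (hw : B w w = 0) (huv : B u v = 0)
    (huw : B u w = 0) {a : F} (ha : σ a = a) : s.zs u a * c.x v w = c.x v w * s.zs u a := by
  exact s.zs_Ψ hu ha (c.sp.xx_mem hv hwv hw) (by rw [c.sp.xx_smul hv hwv, huv, huw]; simp)

theorem zs_x' {e w : V} (he : B e e = 0) (hw : B w e = 0) (hww : B w w = 0) {a : F} (ha : σ a = a) :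
    s.zs e a * c.x e w = c.x e w * s.zs e a := by
  exact s.zs_x he he hw hww he (c.sp.zero_symm hw) ha

theorem xs_symm {v w : V} (hv : B v v = 0) (hwv : B w v = 0) (hw : B w w = 0) : s.xs v w = s.xs w v := by
  rw [xs, xs, add_comm, mul_assoc, s.perp v w hv hwv hw 1 1 (map_one σ) (map_one σ), mul_assoc]

theorem xs_sq {v w : V} (hv : B v v = 0) (hwv : B w v = 0) (hw : B w w = 0) : s.xs v w * s.xs v w = 1 := by
  have h0 := PtB_iso c.sp hv hwv hw
  have h1 := map_one σ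
  have hvw := c.sp.zero_symm hwv
  have c1 : Commute (s.zs (v + w) 1) (s.zs v 1) := s.perp _ _ h0 (by simp [hv, hvw]) hv 1 1 h1 h1
  have c2 : Commute (s.zs (v + w) 1) (s.zs w 1) := s.perp _ _ h0 (by simp [hw, hwv]) hw 1 1 h1 h1
  have c3 : Commute (s.zs v 1) (s.zs w 1) := s.perp _ _ hv hwv hw 1 1 h1 h1
  exact PtB_sq (c2.mul_left c3) (PtB_sq c1 (s.zs_sq h0 h1) (s.zs_sq hv h1)) (s.zs_sq hw h1)

theorem xs_zero {v : V} (hv : B v v = 0) : s.xs v 0 = 1 := by
  rw [xs, add_zero, s.zs_sq hv (map_one σ), s.zs_zero_left (map_one σ), mul_one]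

theorem t_xs {v w : V} (hv : B v v = 0) (hwv : B w v = 0) (hw : B w w = 0) :
    c.t * s.xs v w * c.t = s.xs v w * c.x v w := by
  have h0 := PtB_iso c.sp hv hwv hw
  have h1 := map_one σ
  have hvw := c.sp.zero_symm hwv
  have c1 : Commute (s.zs v 1) (c.z (v + w) 1) := s.zs_z hv (by simp [hv, hvw]) h0 h1 h1
  have c2 : Commute (s.zs w 1) (c.z (v + w) 1) := s.zs_z hw (by simp [hw, hwv]) h0 h1 h1
  have c3 : Commute (s.zs w 1) (c.z v 1) := s.zs_z hw hwv hv h1 h1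
  have c4 : Commute (c.z v 1) (c.x v w) := c.z_x hv hv hwv hw hv hwv h1
  have c5 : Commute (c.z w 1) (c.x v w) := c.z_x hw hv hwv hw hvw hw h1
  have e : c.z (v + w) 1 * c.z v 1 * c.z w 1 = c.x v w := by
    rw [c.z_plane hv hwv hw h1, one_smul, (c4.mul_left c5).eq, mul_assoc, mul_assoc,
      PtB_sq (c.z_perp hv hwv hw h1 h1) (c.z_sq hv 1) (c.z_sq hw 1), mul_one]
  have e1 := s.tz _ h0 1 h1
  have e2 := s.tz _ hv 1 h1
  have e3 := s.tz _ hw 1 h1
  rw [← e, xs]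
  calc _ = c.t * s.zs (v + w) 1 * c.t * (c.t * s.zs v 1 * c.t) * (c.t * s.zs w 1 * c.t) := by
        simp only [mul_assoc, ← mul_assoc c.t c.t, c.t2, one_mul]
    _ = _ := by rw [e1, e2, e3, c1.symm.mul_mul_mul_comm, (c2.mul_right c3).symm.mul_mul_mul_comm]

theorem xs_eqv {g : SG F V} (hg : g ∈ SU B) {v w : V} (hv : B v v = 0) (hwv : B w v = 0) (hw : B w w = 0) :
    c.Ψ g * s.xs v w * (c.Ψ g)⁻¹ = s.xs (g • v) (g • w) := by
  have h1 := map_one σ
  rw [xs, xs, ← conj_mul, ← conj_mul, s.eqv g hg _ (PtB_iso c.sp hv hwv hw) 1 h1, s.eqv g hg _ hv 1 h1,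
    s.eqv g hg _ hw 1 h1, smul_add]

theorem xs_Ψ {g : SG F V} (hg : g ∈ SU B) {v w : V} (hv : B v v = 0) (hwv : B w v = 0) (hw : B w w = 0)
    (e1 : g • v = v) (e2 : g • w = w) : s.xs v w * c.Ψ g = c.Ψ g * s.xs v w := by
  have h := s.xs_eqv hg hv hwv hw
  rw [e1, e2, mul_inv_eq_iff_eq_mul] at h
  exact h.symm

theorem xs_odd {o : G} (ho : o ∈ c.K0) (h : Odd (orderOf o)) {v w : V} (hv : B v v = 0) (hwv : B w v = 0)
    (hw : B w w = 0) : o * s.xs v w = s.xs v w * o := by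
  have h1 := map_one σ
  exact Commute.mul_right (Commute.mul_right (s.odd o ho h _ (PtB_iso c.sp hv hwv hw) 1 h1) (s.odd o ho h _ hv 1 h1))
    (s.odd o ho h _ hw 1 h1)

theorem zs_xs {u v w : V} (hu : B u u = 0) (hv : B v v = 0) (hwv : B w v = 0) (hw : B w w = 0) (hvu : B v u = 0)
    (hwu : B w u = 0) {a : F} (ha : σ a = a) : s.zs u a * s.xs v w = s.xs v w * s.zs u a := by
  have h1 := map_one σ
  exact Commute.mul_right (Commute.mul_right (s.perp _ _ hu (by simp [hvu, hwu]) (PtB_iso c.sp hv hwv hw) a 1 ha h1)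
    (s.perp _ _ hu hvu hv a 1 ha h1)) (s.perp _ _ hu hwu hw a 1 ha h1)

theorem z_xs {u v w : V} (hu : B u u = 0) (hv : B v v = 0) (hwv : B w v = 0) (hw : B w w = 0) (hvu : B v u = 0)
    (hwu : B w u = 0) {a : F} (ha : σ a = a) : c.z u a * s.xs v w = s.xs v w * c.z u a := by
  exact (s.xs_Ψ (c.sp.tv_mem hu ha) hv hwv hw (tv_perp a hvu) (tv_perp a hwu)).symm

theorem xs_xs {X : Submodule F V} (hX : TI B X) {v w v' w' : V} (hv : v ∈ X) (hw : w ∈ X) (hv' : v' ∈ X)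
    (hw' : w' ∈ X) : s.xs v w * s.xs v' w' = s.xs v' w' * s.xs v w := by
  have h1 := map_one σ
  have k : ∀ u ∈ X, Commute (s.zs u 1) (s.xs v' w') := fun u hu =>
    s.zs_xs (hX _ hu _ hu) (hX _ hv' _ hv') (hX _ hw' _ hv') (hX _ hw' _ hw') (hX _ hv' _ hu) (hX _ hw' _ hu) h1
  exact Commute.mul_left (Commute.mul_left (k _ (add_mem hv hw)) (k _ hv)) (k _ hw)

theorem xs_x {X : Submodule F V} (hX : TI B X) {v w v' w' : V} (hv : v ∈ X) (hw : w ∈ X) (hv' : v' ∈ X)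
    (hw' : w' ∈ X) : s.xs v w * c.x v' w' = c.x v' w' * s.xs v w := by
  have k : ∀ u ∈ X, xx B v' w' • u = u := fun u hu => by
    rw [c.sp.xx_smul (hX _ hv' _ hv') (hX _ hw' _ hv'), hX _ hu _ hw', hX _ hu _ hv']; simp
  exact s.xs_Ψ (c.sp.xx_mem (hX _ hv' _ hv') (hX _ hw' _ hv') (hX _ hw' _ hw')) (hX _ hv _ hv) (hX _ hw _ hv)
    (hX _ hw _ hw) (k _ hv) (k _ hw)

variable {s}

theorem Pl.xs_sm (h : s.Pl) {v w : V} (hv : B v v = 0) (hwv : B w v = 0) (hw : B w w = 0) (a : F) :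
    s.xs (a • v) w = s.xs v (σ a • w) := by
  have hK : ∀ {v w : V}, B v v = 0 → B w v = 0 → B w w = 0 → ∀ {a : F}, σ a = a →
      s.xs (a • v) w = s.xs v (a • w) := fun {v w} hv hwv hw {a} ha => by
    have hvw := c.sp.zero_symm hwv
    have e := h.plane w v hw hvw hv a ha
    rw [add_comm, h.plane v w hv hwv hw a ha, s.perp v w hv hwv hw a a ha ha] at e
    rw [mul_left_cancel e, s.xs_symm (by simp [hw]) (by simp [hvw]) hv]
  by_cases ha : a = 0
  · rw [ha, map_zero, zero_smul, zero_smul, s.xs_zero hv, s.xs_symm (by simp) (by simp) hw, s.xs_zero hw]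
  have hvw := c.sp.zero_symm hwv
  have h0 : σ a ≠ 0 := (map_ne_zero σ).2 ha
  have hN : σ (a * σ a) = a * σ a := by rw [map_mul, c.sp.ss, mul_comm]
  have hN' : σ (a * σ a)⁻¹ = (a * σ a)⁻¹ := by rw [map_inv₀, hN]
  have h1 := map_one σ
  have e1 := s.sm (v + σ a • w) (by simp [hv, hw, hwv, hvw]) a _ hN'
  rw [inv_mul_cancel₀ (mul_ne_zero ha h0), smul_add, smul_smul,
    h.plane _ _ (by simp [hv]) (by simp [hwv]) (by simp [hw]) _ hN', hK (by simp [hv]) (by simp [hwv]) (by simp [hw]) hN',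
    smul_smul, s.sm v hv _ _ hN', s.sm w hw _ _ hN', hN, inv_mul_cancel₀ (mul_ne_zero ha h0), one_smul,
    inv_mul_cancel_left₀ (mul_ne_zero ha h0)] at e1
  have c1 : Commute (s.zs v 1) (s.xs (a • v) w) :=
    s.zs_xs hv (by simp [hv]) (by simp [hwv]) hw (by simp [hv]) hwv h1
  have c2 : Commute (s.zs w (a * σ a)) (s.xs (a • v) w) :=
    s.zs_xs hw (by simp [hv]) (by simp [hwv]) hw (by simp [hvw]) hw hN
  rw [xs.eq_1 s v, ← e1, s.sm w hw _ _ h1, c.sp.ss, one_mul, mul_comm (σ a) a, (c1.mul_left c2).eq, mul_assoc,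
    mul_assoc, PtB_sq (s.perp v w hv hwv hw _ _ h1 hN) (s.zs_sq hv h1) (s.zs_sq hw hN), mul_one]

theorem Pl.xs_add (h : s.Pl) {v w : V} (hv : B v v = 0) (hwv : B w v = 0) (hw : B w w = 0) (a b : F) :
    s.xs v ((a + b) • w) = s.xs v (a • w) * s.xs v (b • w) := by
  have hvw := c.sp.zero_symm hwv
  have k : ∀ a : F, s.xs v (a • w) = s.xs (a • w) v := fun a => s.xs_symm hv (by simp [hwv]) (by simp [hw])
  rw [k, k, k, h.xadd w v hw hvw hv]

theorem Pl.xs_add_smul (h : s.Pl) {v w : V} (hv : B v v = 0) (hwv : B w v = 0) (hw : B w w = 0) (a : F) :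
    s.xs v (w + a • v) = s.xs v w * s.zs v (a + σ a) := by
  have hvw := c.sp.zero_symm hwv
  have h1 := map_one σ
  have hN : ∀ a : F, σ (1 * (a * σ a)) = 1 * (a * σ a) := fun a => by rw [one_mul, map_mul, c.sp.ss, mul_comm]
  have k : ∀ a : F, s.zs (a • v + w) 1 = s.zs v (1 * (a * σ a)) * s.zs w 1 * s.xs (a • v) w := fun a => by
    rw [h.plane _ _ (by simp [hv]) (by simp [hwv]) hw 1 h1, one_smul, s.sm v hv a 1 h1]
  have e : a + σ a = 1 * ((1 + a) * σ (1 + a)) + 1 + 1 * (a * σ a) := by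
    rw [map_add, h1]
    linear_combination (-1 - a * σ a) * CharTwo.two_eq_zero (R := F)
  have k1 : ∀ {b : F}, σ b = b → ∀ a : F, Commute (s.zs v b) (s.xs (a • v) w) := fun hb a =>
    s.zs_xs hv (by simp [hv]) (by simp [hwv]) hw (by simp [hv]) hwv hb
  have k2 : ∀ a : F, Commute (s.zs w 1) (s.xs (a • v) w) := fun a =>
    s.zs_xs hw (by simp [hv]) (by simp [hwv]) hw (by simp [hvw]) hw h1
  have k3 : ∀ {b : F}, σ b = b → Commute (s.zs v b) (s.zs w 1) := fun hb => s.perp v w hv hwv hw _ _ hb h1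
  have k4 := k1 (hN (1 + a)) 1
  have k5 := k2 1
  rw [one_smul] at k4 k5
  rw [xs.eq_1 s v (w + a • v), show v + (w + a • v) = (1 + a) • v + w by rw [add_smul, one_smul]; abel,
    add_comm w, k, k, h.xadd v w hv hwv hw, one_smul, e, s.add v hv _ _ (by rw [map_add, hN, h1]) (hN a),
    s.add v hv _ _ (hN _) h1]
  exact PtB_aux k4 k5 (k3 h1) (k3 (hN a)) (k1 h1 a) (k1 (hN a) a) (k2 a) (s.zs_sq hw h1)
    (s.xs_sq (by simp [hv]) (by simp [hwv]) hw)

theorem Pl.Q_xs (h : s.Pl) {e w u : V} (he : B e e = 0) (hw : B w e = 0) (hww : B w w = 0) (hu : B u e = 0) {r : F}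
    (hr : r + σ r = B u u) :
    c.Ψ (ei B e u r) * s.xs e w * (c.Ψ (ei B e u r))⁻¹ = s.xs e w * s.zs e (B w u + B u w) := by
  rw [s.xs_eqv (c.sp.ei_mem he hu hr) he hw hww, c.sp.ei_self he hu, c.sp.ei_perp he hu r hw,
    h.xs_add_smul he hw hww, c.sp.symm]

theorem Pl.x_xs (h : s.Pl) {e w w' : V} (he : B e e = 0) (hw : B w e = 0) (hww : B w w = 0) (hw' : B w' e = 0)
    (hww' : B w' w' = 0) : c.x e w' * s.xs e w = s.xs e w * c.x e w' * s.zs e (B w w' + B w' w) := by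
  have e1 := h.Q_xs he hw hww hw' (r := 0) (by simp [hww'])
  rw [mul_inv_eq_iff_eq_mul] at e1
  rw [mul_assoc, ← s.zs_x' he hw' hww' (by rw [map_add, c.sp.symm, c.sp.symm, add_comm]), ← mul_assoc]
  exact e1

theorem Pl.x_zs (h : s.Pl) {e w v : V} (he : B e e = 0) (hw : B w e = 0) (hww : B w w = 0) (hv : B v e = 0)
    (hvv : B v v = 0) {a : F} (ha : σ a = a) : c.x e w * s.zs v a * c.x e w =
      s.zs v a * s.xs e ((a * B w v) • v) * s.zs e (a * (B w v * B v w)) := by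
  have e1 := s.eqv _ (c.sp.xx_mem he hw hww) v hvv a ha
  have hev := c.sp.zero_symm hv
  have hN : σ (a * (B w v * B v w)) = a * (B w v * B v w) := by
    rw [map_mul, map_mul, ha, c.sp.symm, c.sp.symm, mul_comm (B v w)]
  rw [show (c.Ψ (xx B e w))⁻¹ = c.x e w from inv_eq_of_mul_eq_one_right (c.x_sq he hw hww), c.sp.xx_smul he hw, hv,
    zero_smul, add_zero, h.plane _ _ hvv (by simp [hev]) (by simp [he]) a ha, s.sm e he _ a ha,
    s.xs_symm (by simp [hvv]) (by simp [hev]) (by simp [he]), h.xs_sm he (by simp [hv]) (by simp [hvv]), c.sp.symm,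
    smul_smul, mul_comm (B v w), mul_comm (B w v) a, mul_assoc (s.zs v a),
    s.zs_xs he he (by simp [hv]) (by simp [hvv]) he (by simp [hv]) hN, ← mul_assoc] at e1
  exact e1

theorem Pl.mem_normal (h : s.Pl) {X : Subgroup G} [X.Normal] (hL : c.L ≤ X) {v : V} (hv : B v v = 0) {a : F}
    (ha : σ a = a) : s.zs v a ∈ X := by
  by_cases h0 : v = 0
  · rw [h0, s.zs_zero_left ha]; exact one_mem _
  obtain ⟨f, p⟩ := c.sp.exists_pair ⟨h0, hv⟩
  obtain ⟨w, w', p'⟩ := c.sp.exists_frame'' p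
  have hw := p'.p2.left
  have hvw := p'.ee
  have hwv := c.sp.zero_symm hvw
  have k : ∀ u, Iso B u → QuotientGroup.mk' X (s.zs u a) = QuotientGroup.mk' X (s.zs v a) := fun u hu => by
    obtain ⟨g, hg, rfl⟩ := c.sp.exists_SU_iso ⟨h0, hv⟩ hu
    have : QuotientGroup.mk' X (c.Ψ g) = 1 := (QuotientGroup.eq_one_iff _).2 (hL (c.Ψ_mem g))
    rw [← s.eqv g hg v hv a ha, map_mul, map_mul, map_inv, this, one_mul, inv_one, mul_one]
  have k1 : ∀ l : F, l ≠ 0 → QuotientGroup.mk' X (s.zs v a) * QuotientGroup.mk' X (s.xs ((a * l) • v) w) = 1 :=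
    fun l hl => by
      have e := congrArg (QuotientGroup.mk' X) (h.plane (l • v) w (by simp [hv]) (by simp [hwv]) hw a ha)
      rw [map_mul, map_mul, k _ ⟨fun e => by simpa [p'.ef, p'.p2.pair] using congrArg (B · w') e,
        by simp [hv, hw, hvw, hwv]⟩, k _ (Iso.sm ⟨h0, hv⟩ hl),
        k w ⟨fun e => by simpa [e] using p'.p2.pair, hw⟩, smul_smul, mul_assoc] at e
      exact (mul_left_cancel (e.symm.trans (mul_one _).symm))
  obtain ⟨ω, hω⟩ := c.sp.exists_omega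
  have e := k1 (1 + ω) fun e => by
    rw [(CharTwo.add_eq_zero.1 e).symm, map_one, CharTwo.add_self_eq_zero] at hω
    exact zero_ne_one hω
  rw [mul_add, h.xadd v w hv hwv hw, map_mul, ← mul_assoc, k1 1 one_ne_zero, one_mul] at e
  have e' := k1 ω (by rintro rfl; simp at hω)
  rw [e, mul_one] at e'
  exact (QuotientGroup.eq_one_iff _).1 e'

variable (s)

theorem loc (ht : c.Tight) {e : V} (he : Iso B e) {y : G} (hy : y ∈ 𝐂[c.I (Qv B e)]) {a : F} (ha : σ a = a)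
    (e1 : c.t * y * c.t = y * c.z e a) :
    ∃ b, σ b = b ∧ (y = s.zs e a * c.z e b ∨ y = s.zs e a * c.z e b * c.t) := by
  have c1 : Commute (s.zs e a) (c.z e a) := s.zs_z he.iso he.iso he.iso ha ha
  have e2 := s.tz e he.iso a ha
  have e3 : c.t * (y * s.zs e a) * c.t = y * s.zs e a := by
    calc _ = c.t * y * c.t * (c.t * s.zs e a * c.t) := by
          simp only [mul_assoc, ← mul_assoc c.t c.t, c.t2, one_mul]
      _ = _ := by rw [e1, e2, c1.symm.mul_mul_mul_comm, c.z_sq he.iso, mul_one]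
  obtain ⟨b, hb, e4⟩ := ht.cenQ he (y := y * s.zs e a)
    (mem_C1.2 (by rw [← mul_right_inj c.t, ← mul_assoc, e3, ← mul_assoc, c.t2, one_mul]))
    (mul_mem hy (cent_anti (im_mono (Qv_le_M1 e)) (s.zs_cent he.iso ha)))
  have e5 : y = y * s.zs e a * s.zs e a := by rw [mul_assoc, s.zs_sq he.iso ha, mul_one]
  have c2 := s.zs_z he.iso he.iso he.iso ha hb
  rcases e4 with e4 | e4
  · exact ⟨b, hb, .inl (by rw [e5, e4, c2])⟩
  · refine ⟨b + a, by rw [map_add, ha, hb], .inr ?_⟩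
    rw [e5, e4, c.z_add he.iso hb ha, ← mul_assoc, c2, mul_assoc (c.z e b), ← e2, c.t_z]
    simp only [mul_assoc, c.t2, mul_one]

end Cfg.Pt

end Cfsg.Agent.U4t
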