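import Mathlib
import Cfsg.Agent.U4t.Cfg3
import Cfsg.Agent.U4t.PtB

/-! Canonicity of the section and the shifted section. -/

set_option autoImplicit false
set_option linter.unusedSectionVars false

namespace Cfsg.Agent.U4t

open Cfsg Cfsg.Agent.Cl Cfsg.Agent.Loc.Mss Subgroup Module
open Cfsg.Agent.StdB (C1 mem_C1 El)
open scoped commutatorElement

variable {F : Type*} [Field F] [Finite F] [CharP F 2] {σ : F →+* F} {V : Type*} [AddCommGroup V] [Module F V]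
  [Finite V] {B : V →ₗ[F] V →ₛₗ[σ] F} {q : ℕ} {G : Type*} [Group G] [Finite G]

namespace Can

theorem ti2 (h : Sp B q) {e v : V} (he : B e e = 0) (hve : B v e = 0) (hv : B v v = 0) :
    TI B (Submodule.span F {e, v}) := fun x hx y hy => by
  obtain ⟨a, b, rfl⟩ := Submodule.mem_span_pair.1 hx
  obtain ⟨a', b', rfl⟩ := Submodule.mem_span_pair.1 hy
  simp [he, hve, hv, h.zero_symm hve]

theorem m1 (e v : V) : e ∈ Submodule.span F {e, v} := Submodule.subset_span (by simp)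
theorem m2 (e v : V) : v ∈ Submodule.span F {e, v} := Submodule.subset_span (by simp)
theorem m3 (e v : V) (a : F) : a • v ∈ Submodule.span F {e, v} := Submodule.smul_mem _ a (m2 e v)

theorem odd_one {o : G} (h : Odd (orderOf o)) (e : o * o * (o * o) = 1) : o = 1 := by
  have h4 : orderOf o ∣ 2 ^ 2 := orderOf_dvd_of_pow_eq_one (by rw [← e]; simp [pow_succ, mul_assoc])
  exact orderOf_eq_one_iff.1 (Nat.Coprime.eq_one_of_dvd ((Nat.coprime_two_right.2 h).pow_right 2) h4)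

theorem cjm {P : G} (h : P * P = 1) (a b : G) : P * (a * b) * P = P * a * P * (P * b * P) := by
  calc _ = P * a * (P * P) * b * P := by rw [h]; group
    _ = _ := by group

section

variable {H : Subgroup G} (hH : H ≤ 𝐂[H])
include hH

theorem mc : IsMulCommutative H := ⟨⟨fun a b => Subtype.ext (mem_cent.1 (hH b.2) a a.2)⟩⟩

theorem ac1 {a b d p r x : G} (ha : a ∈ H) (hb : b ∈ H) (hd : d ∈ H) (hp : p ∈ H) (hr : r ∈ H) (hx : x ∈ H)
    (p2 : p * p = 1) (r2 : r * r = 1) : a * (p * r * x) * (b * p) * (d * r) = a * b * d * x := by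
  have := mc hH
  rw [← mul_one (a * b * d * x), ← p2, ← mul_one (p * p), ← r2]
  exact congrArg Subtype.val (show (⟨a, ha⟩ * (⟨p, hp⟩ * ⟨r, hr⟩ * ⟨x, hx⟩) * (⟨b, hb⟩ * ⟨p, hp⟩) *
    (⟨d, hd⟩ * ⟨r, hr⟩) : H) = ⟨a, ha⟩ * ⟨b, hb⟩ * ⟨d, hd⟩ * ⟨x, hx⟩ * (⟨p, hp⟩ * ⟨p, hp⟩ * (⟨r, hr⟩ * ⟨r, hr⟩)) by
      ac_rfl)

theorem ac2 {a b d p r x : G} (ha : a ∈ H) (hb : b ∈ H) (hd : d ∈ H) (hp : p ∈ H) (hr : r ∈ H) (hx : x ∈ H) :
    a * b * d * (p * r * x) = a * p * (b * r) * (d * x) := by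
  have := mc hH
  exact congrArg Subtype.val (show (⟨a, ha⟩ * ⟨b, hb⟩ * ⟨d, hd⟩ * (⟨p, hp⟩ * ⟨r, hr⟩ * ⟨x, hx⟩) : H) =
    ⟨a, ha⟩ * ⟨p, hp⟩ * (⟨b, hb⟩ * ⟨r, hr⟩) * (⟨d, hd⟩ * ⟨x, hx⟩) by ac_rfl)

theorem ac3 {a b d p r x : G} (ha : a ∈ H) (hb : b ∈ H) (hd : d ∈ H) (hp : p ∈ H) (hr : r ∈ H) (hx : x ∈ H) :
    a * b * d * p * x * r = a * (b * x) * d * (p * r) := by
  have := mc hH
  exact congrArg Subtype.val (show (⟨a, ha⟩ * ⟨b, hb⟩ * ⟨d, hd⟩ * ⟨p, hp⟩ * ⟨x, hx⟩ * ⟨r, hr⟩ : H) =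
    ⟨a, ha⟩ * (⟨b, hb⟩ * ⟨x, hx⟩) * ⟨d, hd⟩ * (⟨p, hp⟩ * ⟨r, hr⟩) by ac_rfl)

theorem ac4 {A X x E e Y E' a E'' e' x' e'' : G} (h1 : A ∈ H) (h2 : X ∈ H) (h3 : x ∈ H) (h4 : E ∈ H) (h5 : e ∈ H)
    (h6 : Y ∈ H) (h7 : E' ∈ H) (h8 : a ∈ H) (h9 : E'' ∈ H) (h10 : e' ∈ H) (h11 : x' ∈ H) (h12 : e'' ∈ H)
    (y2 : Y * Y = 1) : A * X * x * E * e * Y * E' * (a * Y * E'' * e' * x' * e'') =
      A * a * X * (x * x') * (E * E' * E'') * (e * e' * e'') := by
  have := mc hH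
  rw [← mul_one (_ * (e * e' * e'')), ← y2]
  exact congrArg Subtype.val (show (⟨A, h1⟩ * ⟨X, h2⟩ * ⟨x, h3⟩ * ⟨E, h4⟩ * ⟨e, h5⟩ * ⟨Y, h6⟩ * ⟨E', h7⟩ *
    (⟨a, h8⟩ * ⟨Y, h6⟩ * ⟨E'', h9⟩ * ⟨e', h10⟩ * ⟨x', h11⟩ * ⟨e'', h12⟩) : H) =
    ⟨A, h1⟩ * ⟨a, h8⟩ * ⟨X, h2⟩ * (⟨x, h3⟩ * ⟨x', h11⟩) * (⟨E, h4⟩ * ⟨E', h7⟩ * ⟨E'', h9⟩) *
      (⟨e, h5⟩ * ⟨e', h10⟩ * ⟨e'', h12⟩) * (⟨Y, h6⟩ * ⟨Y, h6⟩) by ac_rfl)

theorem ac5 {P P' p p' D d E e f g : G} (hp : p ∈ 𝐂[H]) (hp' : p' ∈ 𝐂[H]) (hD : D ∈ H) (hd : d ∈ H) (hE : E ∈ H)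
    (he : e ∈ H) (h1 : P * P' = P' * P * D * d) (h2 : p * P' = P' * p * E) (h3 : p' * P = P * p' * E)
    (h4 : p * p' = p' * p * e) (h5 : d * e = f * g) : P * p * (P' * p') = P' * p' * (P * p) * (D * f) * g := by
  have c : ∀ {x y}, y ∈ 𝐂[H] → x ∈ H → Commute x y := fun hy hx => mem_cent.1 hy _ hx
  calc _ = P * (p * P') * p' := by group
    _ = P * P' * p * (E * p') := by rw [h2]; group
    _ = P' * P * (D * d * (p * p')) * E := by rw [h1, (c hp' hE).eq]; group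
    _ = P' * P * (p * p') * (D * d * E) := by rw [(c (mul_mem hp hp') (mul_mem hD hd)).eq]; group
    _ = P' * P * p' * p * (e * (D * d * E)) := by rw [h4]; group
    _ = P' * P * p' * p * (E * (D * (d * e))) := by
      rw [(c (hH (mul_mem (mul_mem hD hd) hE)) he).eq, ← (c (hH (mul_mem hD hd)) hE).eq]; group
    _ = P' * (P * p' * E) * p * (D * (f * g)) := by
      rw [h5, mul_assoc _ p, ← mul_assoc p, ← (c hp hE).eq]; group
    _ = _ := by rw [← h3]; group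

end

end Can

open Can

namespace Cfg.Pt

variable {c : Cfg B q G} {s : c.Pt}

theorem can1 (h2 : c.Two) {v : V} (hv : Iso B v) {y : G} (hy : y ∈ 𝐂[c.I (M1 B v)]) (y2 : y * y = 1) {a : F}
    (ha : σ a = a) (a0 : a ≠ 0) (e : y * c.t * y⁻¹ = c.t * c.z v a) : ∃ b, σ b = b ∧ y = s.zs v a * c.z v b := by
  have Z2 := s.zs_sq hv.iso ha
  have zz : Commute (s.zs v a) (c.z v a) := s.zs_z hv.iso hv.iso hv.iso ha ha
  have hC : s.zs v a * y ∈ c.C := mem_C1.2 (by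
    rw [← mul_inv_eq_iff_eq_mul]
    calc _ = s.zs v a * (y * c.t * y⁻¹) * (s.zs v a)⁻¹ := by group
      _ = s.zs v a * c.t * (s.zs v a)⁻¹ * c.z v a := by
        rw [e, ← mul_assoc, mul_assoc, ← zz.inv_left.eq, ← mul_assoc]
      _ = _ := by rw [s.zs_t hv.iso ha, mul_assoc, c.z_sq hv.iso, mul_one])
  obtain ⟨k, hk, a', ha', e1⟩ := c.cenRW (TI_span hv.iso) (by simpa using hv.ne) hC
    (cent_anti (im_mono (Qv_le_M1 v)) (mul_mem (s.zs_cent hv.iso ha) hy))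
  obtain ⟨b, hb, rfl⟩ := (c.sp.mem_Zv hv).1 ha'
  change _ = k * c.z v b at e1
  have e2 : y = s.zs v a * (k * c.z v b) := by rw [← e1, ← mul_assoc, Z2, one_mul]
  obtain ⟨o, ho, oo, e3⟩ := c.K0_dec h2 hk
  have oZ : Commute o (s.zs v a) := s.odd o ho oo v hv.iso a ha
  have oz : Commute (c.z v b) o := mem_cent.1 ho.2 _ (c.z_mem v b)
  have ot : Commute o c.t := mem_C1.1 ho.1
  have Zz : Commute (s.zs v a) (c.z v b) := s.zs_z hv.iso hv.iso hv.iso ha hb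
  have tz : Commute c.t (c.z v b) := c.t_z v b
  have z2 := c.z_sq hv.iso b
  refine ⟨b, hb, ?_⟩
  rcases e3 with rfl | rfl
  · have : y * y = k * k := by
      rw [e2, (oZ.symm.mul_right Zz).symm.mul_mul_mul_comm, Z2, oz.mul_mul_mul_comm, z2, one_mul, mul_one]
    rw [e2, odd_one oo (by rw [← this, y2, mul_one]), one_mul]
  · have : y * y = o * o * c.z v a := by
      rw [e2, ← mul_assoc (s.zs v a), ← mul_assoc (s.zs v a), ← oZ.eq,
        ((oz.mul_right Zz.symm).mul_right tz.symm).mul_mul_mul_comm, z2, mul_one, mul_assoc o,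
        (oZ.mul_right ot).symm.mul_mul_mul_comm, mul_assoc (s.zs v a), ← mul_assoc c.t, s.tz v hv.iso a ha,
        ← mul_assoc (s.zs v a), Z2, one_mul]
    rw [y2, eq_comm] at this
    have e4 := eq_inv_of_mul_eq_one_left this
    rw [odd_one oo (by rw [e4, ← mul_inv_rev, c.z_sq hv.iso, inv_one]), one_mul, one_mul] at this
    exact (a0 ((c.z_eq_one hv ha).1 this)).elim

variable (s) in
/-- The abelian group attached to a totally isotropic subspace. -/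
def Ab (X : Submodule F V) : Subgroup G := closure {g | ∃ u ∈ X, ∃ a, σ a = a ∧ (g = s.zs u a ∨ g = c.z u a)}

theorem Ab_mono {X Y : Submodule F V} (h : X ≤ Y) : s.Ab X ≤ s.Ab Y :=
  Subgroup.closure_mono fun _ ⟨u, hu, r⟩ => ⟨u, h hu, r⟩

theorem cent_Ab {X : Submodule F V} {g : G}
    (h : ∀ u ∈ X, ∀ a, σ a = a → s.zs u a * g = g * s.zs u a ∧ c.z u a * g = g * c.z u a) : g ∈ 𝐂[s.Ab X] := by
  rw [Ab, centralizer_closure, mem_centralizer_iff]
  rintro _ ⟨u, hu, a, ha, rfl | rfl⟩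
  exacts [(h u hu a ha).1, (h u hu a ha).2]

theorem Ab_comm {X : Submodule F V} (hX : TI B X) : s.Ab X ≤ 𝐂[s.Ab X] := by
  refine (closure_le _).2 ?_
  rintro _ ⟨w, hw, b, hb, rfl | rfl⟩ <;> refine cent_Ab fun u hu a ha => ⟨?_, ?_⟩
  · exact s.perp u w (hX u hu u hu) (hX w hw u hu) (hX w hw w hw) a b ha hb
  · exact (s.zs_z (hX w hw w hw) (hX w hw u hu) (hX u hu u hu) hb ha).symm
  · exact s.zs_z (hX u hu u hu) (hX u hu w hw) (hX w hw w hw) ha hb
  · exact c.z_perp (hX u hu u hu) (hX w hw u hu) (hX w hw w hw) ha hb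

theorem mZ {X : Submodule F V} {u : V} (hu : u ∈ X) {a : F} (ha : σ a = a) : s.zs u a ∈ s.Ab X :=
  subset_closure ⟨u, hu, a, ha, Or.inl rfl⟩

theorem mz {X : Submodule F V} {u : V} (hu : u ∈ X) {a : F} (ha : σ a = a) : c.z u a ∈ s.Ab X :=
  subset_closure ⟨u, hu, a, ha, Or.inr rfl⟩

theorem mX {X : Submodule F V} {u w : V} (hu : u ∈ X) (hw : w ∈ X) : s.xs u w ∈ s.Ab X :=
  mul_mem (mul_mem (mZ (add_mem hu hw) (map_one σ)) (mZ hu (map_one σ))) (mZ hw (map_one σ))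

theorem mx {X : Submodule F V} (hX : TI B X) {u w : V} (hu : u ∈ X) (hw : w ∈ X) : c.x u w ∈ s.Ab X := by
  have := mz (s := s) (add_mem hu hw) (map_one σ)
  rwa [c.z_plane (hX u hu u hu) (hX w hw u hu) (hX w hw w hw) (map_one σ), one_smul,
    mul_mem_cancel_left (mul_mem (mz hu (map_one σ)) (mz hw (map_one σ)))] at this

theorem can_x_z {e w v : V} (he : B e e = 0) (hw : B w e = 0) (hww : B w w = 0) (hv : B v e = 0)
    (hvv : B v v = 0) {a : F} (ha : σ a = a) : c.x e w * c.z v a * c.x e w =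
      c.z v a * c.x e ((a * B w v) • v) * c.z e (a * (B w v * B v w)) := by
  have h := c.sp
  have hev := h.zero_symm hv
  have := c.z_eqv (h.xx_mem he hw hww) hvv ha
  change c.x e w * _ * (c.x e w)⁻¹ = _ at this
  rw [inv_eq_of_mul_eq_one_right (c.x_sq he hw hww)] at this
  rw [this, h.xx_smul he hw, hv, zero_smul, add_zero, c.z_plane hvv (by simp [hev]) (by simp [he]) ha, c.z_sm,
    c.x_symm (by simp [hvv]) (by simp [hev]) (by simp [he]), c.x_sm he (by simp [hv]), h.symm, smul_smul,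
    mul_comm (B w v) a, mul_comm (B v w), mul_assoc,
    c.z_x he he (by simp [hv]) (by simp [hvv]) he (by simp [hv]) (by simp [ha, h.symm, mul_comm]), mul_assoc]

variable {ξ δ : F}

variable (s) in
/-- The shifted section. -/
noncomputable def sh (hξ : σ ξ = ξ) : c.Pt where
  zs v a := s.zs v a * c.z v (ξ * a)
  add v hv a b ha hb := by
    have ka : σ (ξ * a) = ξ * a := by rw [map_mul, hξ, ha]
    rw [s.add v hv a b ha hb, mul_add, c.z_add hv ka (by rw [map_mul, hξ, hb])]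
    exact Commute.mul_mul_mul_comm (s.zs_z hv hv hv hb ka) _ _
  tz v hv a ha := by
    rw [mul_assoc c.t, mul_assoc (s.zs v a), ← c.t_z, ← mul_assoc, ← mul_assoc, s.tz v hv a ha, mul_assoc,
      c.z_perp hv hv hv ha (by rw [map_mul, hξ, ha]), mul_assoc]
  eqv g hg v hv a ha := by
    rw [← s.eqv g hg v hv a ha, ← c.z_eqv hg hv (by rw [map_mul, hξ, ha])]; group
  sm v hv l a ha := by rw [s.sm v hv l a ha, c.z_sm, mul_assoc ξ]
  perp v w hv hwv hw a b ha hb := mem_cent.1 (Ab_comm (ti2 c.sp hv hwv hw)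
    (mul_mem (mZ (m2 v w) hb) (mz (m2 v w) (by rw [map_mul, hξ, hb])))) _
    (mul_mem (mZ (m1 v w) ha) (mz (m1 v w) (by rw [map_mul, hξ, ha])))
  odd o ho h v hv a ha := by
    rw [← mul_assoc, s.odd o ho h v hv a ha, mul_assoc, ← mem_cent.1 ho.2 _ (c.z_mem v _), mul_assoc]

variable (hξ : σ ξ = ξ)

theorem sh_zs (v : V) (a : F) : (s.sh hξ).zs v a = s.zs v a * c.z v (ξ * a) := rfl

theorem sh_xs {v w : V} (hv : B v v = 0) (hwv : B w v = 0) (hw : B w w = 0) :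
    (s.sh hξ).xs v w = s.xs v w * c.x v (ξ • w) := by
  have hX := ti2 c.sp hv hwv hw
  have o := map_one σ
  rw [xs, xs, sh_zs, sh_zs, sh_zs, mul_one, c.z_plane hv hwv hw hξ, c.x_sm hv hwv, hξ]
  exact ac1 (Ab_comm hX) (mZ (add_mem (m1 v w) (m2 v w)) o) (mZ (m1 v w) o) (mZ (m2 v w) o) (mz (m1 v w) hξ)
    (mz (m2 v w) hξ) (mx hX (m1 v w) (m3 v w _)) (c.z_sq hv _) (c.z_sq hw _)

theorem can_x_add {v w : V} (hv : B v v = 0) (hwv : B w v = 0) (hw : B w w = 0) (a b : F) :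
    c.x v (a • w) * c.x v (b • w) = c.x v ((a + b) • w) := by
  rw [add_smul, c.x_add hv] <;> simp [hwv, hw]

theorem Pl.sh (h : s.Pl) : (s.sh hξ).Pl where
  plane v w hv hwv hw a ha := by
    have hX := ti2 c.sp hv hwv hw
    have ka : σ (ξ * a) = ξ * a := by rw [map_mul, hξ, ha]
    rw [sh_xs hξ (by simp [hv]) (by simp [hwv]) hw, sh_zs, sh_zs, sh_zs, h.plane v w hv hwv hw a ha,
      c.z_plane hv hwv hw ka, c.x_sm hv hwv, c.x_sm hv (by simp [hwv]), ka, ha, smul_smul, mul_comm a]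
    exact ac2 (Ab_comm hX) (mZ (m1 v w) ha) (mZ (m2 v w) ha) (mX (Submodule.smul_mem _ _ (m1 v w)) (m2 v w))
      (mz (m1 v w) ka) (mz (m2 v w) ka) (mx hX (m1 v w) (m3 v w _))
  xadd v w hv hwv hw a b := by
    have hX := ti2 c.sp hv hwv hw
    have k : ∀ a : F, (s.sh hξ).xs (a • v) w = s.xs (a • v) w * c.x v ((σ a * ξ) • w) := fun a => by
      rw [sh_xs hξ (by simp [hv]) (by simp [hwv]) hw, c.x_sm hv (by simp [hwv]), smul_smul]
    rw [k, k, k, h.xadd v w hv hwv hw, map_add, add_mul, ← can_x_add hv hwv hw]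
    exact Commute.mul_mul_mul_comm (s.xs_x hX (Submodule.smul_mem _ _ (m1 v w)) (m2 v w) (m1 v w) (m3 v w _)) _ _

theorem R2.can_comm (h : s.R2 δ) {e w v : V} (he : B e e = 0) (hw : B w e = 0) (hww : B w w = 0) (hv : B v e = 0)
    (hvv : B v v = 0) {a : F} (ha : σ a = a) :
    s.xs e w * s.xs e ((a * B w v) • v) * s.xs e w = s.xs e ((a * B w v) • v) ∧
      s.xs e w * c.x e ((a * B w v) • v) * s.xs e w = c.x e ((a * B w v) • v) := by
  have t : B w ((a * B w v) • v) + B ((a * B w v) • v) w = 0 := by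
    simp only [map_smulₛₗ, LinearMap.smul_apply, smul_eq_mul, map_mul, ha, c.sp.symm, RingHom.id_apply]
    linear_combination (a * B w v * B v w) * (CharTwo.two_eq_zero : (2 : F) = 0)
  have u1 : B ((a * B w v) • v) e = 0 := by simp [hv]
  have u2 : B ((a * B w v) • v) ((a * B w v) • v) = 0 := by simp [hvv]
  have h1 := h.r2 e w _ he hw hww u1 u2
  have h2 := h.toPl.x_xs he hw hww u1 u2
  rw [t, s.zs_zero he, mul_one] at h1 h2
  rw [mul_zero, c.z_zero, mul_one] at h1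
  rw [h1, ← h2, mul_assoc, mul_assoc, s.xs_sq he hw hww, mul_one, mul_one]
  exact ⟨rfl, rfl⟩

theorem sh_conj {e w : V} (he : B e e = 0) (hw : B w e = 0) (hww : B w w = 0) (g : G) :
    (s.sh hξ).xs e w * g * (s.sh hξ).xs e w = s.xs e w * (c.x e (ξ • w) * g * c.x e (ξ • w)) * s.xs e w := by
  rw [sh_xs hξ he hw hww]
  nth_rewrite 2 [s.xs_x (ti2 c.sp he hw hww) (m1 e w) (m2 e w) (m1 e w) (m3 e w ξ)]
  group

theorem can_cZ {e w : V} (he : B e e = 0) (hw : B w e = 0) (hww : B w w = 0) {a : F} (ha : σ a = a) :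
    s.xs e w * s.zs e a * s.xs e w = s.zs e a := by
  rw [← s.zs_xs he he hw hww he hw ha, mul_assoc, s.xs_sq he hw hww, mul_one]

theorem can_cz {e w : V} (he : B e e = 0) (hw : B w e = 0) (hww : B w w = 0) {a : F} (ha : σ a = a) :
    s.xs e w * c.z e a * s.xs e w = c.z e a := by
  rw [← s.z_xs he he hw hww he hw ha, mul_assoc, s.xs_sq he hw hww, mul_one]

theorem R2.sh (h : s.R2 δ) : (s.sh hξ).R2 (δ + ξ + ξ * ξ) where
  toPl := h.toPl.sh hξ
  hδ := by simp [h.hδ, hξ]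
  r2 e w w' he hw hww hw' hww' := by
    have hδ := h.hδ
    have u : ∀ {w}, B w e = 0 → B (ξ • w) e = 0 := fun h => by simp [h]
    have u' : ∀ {w}, B w w = 0 → B (ξ • w) (ξ • w) = 0 := fun h => by simp [h]
    have m : ∀ {w}, B w e = 0 → B w w = 0 → c.x e w ∈ 𝐂[s.Ab (F ∙ e)] := fun {w} hw hww =>
      cent_anti (Ab_mono (Submodule.span_mono (by simp))) (Ab_comm (ti2 c.sp he hw hww) (mx (ti2 c.sp he hw hww) (m1 e w) (m2 e w)))
    have h1 := h.r2 e w w' he hw hww hw' hww'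
    have h2 := h.toPl.x_xs he hw' hww' (u hw) (u' hww)
    have h3 := h.toPl.x_xs he hw hww (u hw') (u' hww')
    have h4 := c.x_comm he (u hw) (u' hww) (u hw') (u' hww')
    have kτ : σ (B w w' + B w' w) = B w w' + B w' w := by rw [map_add, c.sp.symm, c.sp.symm, add_comm]
    rw [show B w' (ξ • w) + B (ξ • w) w' = ξ * (B w w' + B w' w) by simp [hξ]; ring] at h2
    rw [show B w (ξ • w') + B (ξ • w') w = ξ * (B w w' + B w' w) by simp [hξ]; ring] at h3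
    rw [show B (ξ • w) (ξ • w') + B (ξ • w') (ξ • w) = ξ * ξ * (B w w' + B w' w) by simp [hξ]; ring] at h4
    rw [sh_xs hξ he hw hww, sh_xs hξ he hw' hww', sh_zs]
    generalize B w w' + B w' w = τ at *
    have me := Submodule.mem_span_singleton_self (R := F) e
    refine ac5 (Ab_comm (TI_span he)) (m (u hw) (u' hww)) (m (u hw') (u' hww')) (mZ me kτ) (mz me (by simp [*]))
      (mZ me (by simp [*])) (mz me (by simp [*])) h1 h2 h3 h4 ?_
    rw [← c.z_add he (by simp [*]) (by simp [*]), ← c.z_add he (by simp [*]) (by simp [*])]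
    congr 1
    linear_combination (-ξ * τ) * (CharTwo.two_eq_zero : (2 : F) = 0)
  r3z e w v he hw hww hv hvv a ha := by
    have hδ := h.hδ
    have hX := ti2 c.sp he hv hvv
    have kn : σ (a * (B w v * B v w)) = a * (B w v * B v w) := by simp [ha, c.sp.symm, mul_comm]
    have ka : σ (ξ * a) = ξ * a := by rw [map_mul, hξ, ha]
    have P2 := s.xs_sq he hw hww
    rw [sh_conj hξ he hw hww, can_x_z he (by simp [hw]) (by simp [hww]) hv hvv ha,
      show a * B (ξ • w) v = ξ * a * B w v by simp; ring,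
      show a * (B (ξ • w) v * B v (ξ • w)) = ξ * ξ * (a * (B w v * B v w)) by simp [hξ]; ring,
      cjm P2, cjm P2, h.r3z e w v he hw hww hv hvv a ha, (h.can_comm he hw hww hv hvv ka).2,
      can_cz he hw hww (by rw [map_mul, kn, map_mul, hξ]), sh_xs hξ he (by simp [hv]) (by simp [hvv]), sh_zs,
      smul_smul, mul_assoc ξ]
    generalize a * (B w v * B v w) = n at *
    rw [ac3 (Ab_comm hX) (mz (m2 e v) ha) (mX (m1 e v) (m3 e v _)) (mZ (m1 e v) kn) (mz (m1 e v) (by simp [*]))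
      (mz (m1 e v) (by simp [*])) (mx hX (m1 e v) (m3 e v _)), ← c.z_add he (by simp [*]) (by simp [*]),
      show δ * n + ξ * ξ * n = ξ * n + (δ + ξ + ξ * ξ) * n by
        linear_combination (-ξ * n) * (CharTwo.two_eq_zero : (2 : F) = 0), c.z_add he (by simp [*]) (by simp [*])]
    simp only [mul_assoc]

theorem Rel.sh (h : s.Rel δ) : (s.sh hξ).Rel (δ + ξ + ξ * ξ) where
  toR2 := h.toR2.sh hξ
  r3s e w v he hw hww hv hvv a ha := by
    have hδ := h.hδ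
    have hX := ti2 c.sp he hv hvv
    have kn : σ (a * (B w v * B v w)) = a * (B w v * B v w) := by simp [ha, c.sp.symm, mul_comm]
    have ka : σ (ξ * a) = ξ * a := by rw [map_mul, hξ, ha]
    have kb : σ (ξ * ξ * a) = ξ * ξ * a := by rw [map_mul, map_mul, hξ, ha]
    have P2 := s.xs_sq he hw hww
    have u1 : B (ξ • w) e = 0 := by simp [hw]
    have u2 : B (ξ • w) (ξ • w) = 0 := by simp [hww]
    rw [sh_conj hξ he hw hww, sh_zs, cjm (c.x_sq he u1 u2), can_x_z he u1 u2 hv hvv ka,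
      h.toPl.x_zs he u1 u2 hv hvv ha,
      show a * B (ξ • w) v = ξ * a * B w v by simp; ring,
      show a * (B (ξ • w) v * B v (ξ • w)) = ξ * ξ * (a * (B w v * B v w)) by simp [hξ]; ring,
      show ξ * a * B (ξ • w) v = ξ * ξ * a * B w v by simp; ring,
      show ξ * a * (B (ξ • w) v * B v (ξ • w)) = ξ * ξ * ξ * (a * (B w v * B v w)) by simp [hξ]; ring,
      cjm P2, cjm P2, cjm P2, cjm P2, cjm P2, h.r3s e w v he hw hww hv hvv a ha, h.r3z e w v he hw hww hv hvv _ ka,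
      (h.toR2.can_comm he hw hww hv hvv ka).1, (h.toR2.can_comm he hw hww hv hvv kb).2,
      can_cZ he hw hww (by rw [map_mul, kn, map_mul, hξ]),
      can_cz he hw hww (by rw [map_mul, kn, map_mul, map_mul, hξ]), sh_xs hξ he (by simp [hv]) (by simp [hvv]), sh_zs,
      smul_smul, mul_assoc ξ a, mul_assoc ξ a, mul_assoc _ a]
    generalize a * (B w v * B v w) = n at *
    generalize a * B w v = m at *
    have Z : ∀ {a}, σ a = a → s.zs e a ∈ s.Ab _ := mZ (m1 e v)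
    have z : ∀ {a}, σ a = a → c.z e a ∈ s.Ab _ := mz (m1 e v)
    have x : ∀ a : F, c.x e (a • v) ∈ s.Ab _ := fun a => mx hX (m1 e v) (m3 e v a)
    have X : ∀ a : F, s.xs e (a • v) ∈ s.Ab _ := fun a => mX (m1 e v) (m3 e v a)
    rw [ac4 (Ab_comm hX) (mZ (m2 e v) ha) (X _) (x _) (Z (by simp [*])) (z (by simp [*])) (X _) (Z (by simp [*]))
      (mz (m2 e v) ka) (Z (by simp [*])) (z (by simp [*])) (x _) (z (by simp [*]))
      (s.xs_sq he (by simp [hv]) (by simp [hvv])), can_x_add he hv hvv,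
      ← s.add e he _ _ (by simp [*]) (by simp [*]), ← s.add e he _ _ (by simp [*]) (by simp [*]),
      ← c.z_add he (by simp [*]) (by simp [*]), ← c.z_add he (by simp [*]) (by simp [*]),
      show δ * m + ξ * ξ * m = ξ * m + (δ + ξ + ξ * ξ) * m by
        linear_combination (-ξ * m) * (CharTwo.two_eq_zero : (2 : F) = 0), ← can_x_add he hv hvv,
      show (1 + δ) * n + ξ * ξ * n + ξ * n = (1 + (δ + ξ + ξ * ξ)) * n by ring,
      show δ * n + δ * (ξ * n) + ξ * ξ * ξ * n = ξ * ((1 + (δ + ξ + ξ * ξ)) * n) + (δ + ξ + ξ * ξ) * n by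
        linear_combination (-ξ * n - ξ * ξ * n) * (CharTwo.two_eq_zero : (2 : F) = 0),
      c.z_add he (by simp [*]) (by simp [*])]
    simp only [mul_assoc]

theorem Rel.can2 {δ : F} (h : s.Rel δ) (h2 : c.Two) {g : G} (hg : g ∈ c.C) {γ : SG F V} (hγ : γ ∈ Gam B)
    (ha : Act c.ψ g γ) : ∃ ξ, σ ξ = ξ ∧ fld γ δ = δ + ξ + ξ * ξ ∧ ∀ v, B v v = 0 → ∀ a, σ a = a →
      g * s.zs v a * g⁻¹ = s.zs (γ • v) (fld γ a) * c.z (γ • v) (ξ * fld γ a) := by
  have hs := c.sp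
  have o := map_one σ
  obtain ⟨e, he⟩ := hs.exists_iso
  obtain ⟨ξ, hξ, e1⟩ := can1 (s := s) h2 (he.smul hγ) (y := g * s.zs e 1 * g⁻¹)
    (by rw [Cfg.I, ← hs.act_M1 c.ker hγ ha, ← cj_cent]; exact conj_mem_cj (s.zs_cent he.iso o))
    (by rw [conj_mul, s.zs_sq he.iso o, mul_one, mul_inv_cancel]) o one_ne_zero (by
      have t : g * c.t * g⁻¹ = c.t := by rw [mem_C1.1 hg, mul_inv_cancel_right]
      have := c.z_act hγ ha he.iso o
      rw [map_one] at this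
      rw [← this]
      nth_rewrite 2 [← t]
      rw [conj_mul, ← s.zs_t he.iso o]
      nth_rewrite 1 [← t]
      group)
  have key : ∀ v, B v v = 0 → ∀ a, σ a = a →
      g * s.zs v a * g⁻¹ = s.zs (γ • v) (fld γ a) * c.z (γ • v) (ξ * fld γ a) := fun v hv a ka => by
    obtain ⟨l, rfl⟩ := hs.uf.exists_norm_eq ka
    have hv' : B (γ • v) (γ • v) = 0 := (Gam_zero hγ).2 hv
    rw [map_mul, hs.aut_σ, ← c.z_sm, ← one_mul (l * σ l), ← s.sm v hv l 1 o, ← one_mul (fld γ l * _),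
      ← s.sm _ hv' _ 1 o, ← smul_sm]
    by_cases u0 : l • v = 0
    · rw [u0, smul_zero, s.zs_zero_left o, c.z_zero_left, mul_one, mul_one, mul_inv_cancel]
    obtain ⟨u, hu, e2⟩ := hs.exists_SU_iso he ⟨u0, by simp [hv]⟩
    have hu' := conj_mem_SU hγ hu
    have he' := (he.smul hγ).iso
    rw [← e2, show γ • u • e = (γ * u * γ⁻¹) • γ • e by simp [mul_smul], ← s.eqv u hu e he.iso 1 o,
      ← s.eqv _ hu' _ he' 1 o, ← c.z_eqv hu' he' hξ, conj_mul, ← e1, Cfg.Ψ, Cfg.Ψ, ← ha u hu]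
    group
  refine ⟨ξ, hξ, ?_, key⟩
  have kx : ∀ {w}, B w e = 0 → B w w = 0 → g * s.xs e w * g⁻¹ = (s.sh hξ).xs (γ • e) (γ • w) := fun hw hww => by
    rw [xs, ← conj_mul, ← conj_mul, key _ (PtB_iso hs he.iso hw hww) 1 o, key _ he.iso 1 o, key _ hww 1 o, map_one,
      smul_add]
    rfl
  obtain ⟨f, p⟩ := hs.exists_pair he
  obtain ⟨w, w', fr⟩ := hs.exists_frame'' p
  obtain ⟨ω, hω⟩ := hs.exists_omega
  have a1 := hs.zero_symm fr.ee
  have a2 : B (ω • w') e = 0 := by simp [hs.zero_symm fr.ef]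
  have a3 : B (ω • w') (ω • w') = 0 := by simp [fr.p2.right]
  have τ : B w (ω • w') + B (ω • w') w = 1 := by simp [fr.p2.pair, fr.p2.pair', hω, add_comm (σ ω)]
  have r1 := congrArg (fun x => g * x * g⁻¹) (h.r2 e w _ he.iso a1 fr.p2.left a2 a3)
  have r2 := (h.toR2.sh hξ).r2 (γ • e) (γ • w) (γ • ω • w') (he.smul hγ).iso ((Gam_zero hγ).2 a1)
    ((Gam_zero hγ).2 fr.p2.left) ((Gam_zero hγ).2 a2) ((Gam_zero hγ).2 a3)
  rw [mem_Gam.1 hγ, mem_Gam.1 hγ, ← map_add, τ, map_one, mul_one] at r2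
  simp only [τ, mul_one, ← conj_mul] at r1
  rw [kx a1 fr.p2.left, kx a2 a3, key _ he.iso 1 o, c.z_act hγ ha he.iso h.hδ, map_one, r2] at r1
  exact (c.z_inj (he.smul hγ) (h.toR2.sh hξ).hδ (hs.aut_fix _ h.hδ) (mul_left_cancel r1)).symm

theorem Rel.shift {ξ : F} (hξ : σ ξ = ξ) (h : s.Rel (ξ * ξ + ξ)) : ∃ s' : c.Pt, s'.Rel 0 :=
  ⟨s.sh hξ, by
    have := h.sh hξ
    rwa [show ξ * ξ + ξ + ξ + ξ * ξ = 0 by
      linear_combination (ξ * ξ + ξ) * (CharTwo.two_eq_zero : (2 : F) = 0)] at this⟩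

end Cfg.Pt

end Cfsg.Agent.U4t
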