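import Mathlib
import Cfsg.Agent.U4t.Cfg3
import Cfsg.Agent.U4t.Rho4

set_option autoImplicit false
set_option linter.unusedSectionVars false

namespace Cfsg.Agent.U4t

open Cfsg Cfsg.Agent.Cl Cfsg.Agent.Loc.Mss Subgroup Module
open Cfsg.Agent.StdB (C1 mem_C1 El)
open scoped commutatorElement

variable {F : Type*} [Field F] [Finite F] [CharP F 2] {σ : F →+* F} {V : Type*} [AddCommGroup V] [Module F V]
  [Finite V] {B : V →ₗ[F] V →ₛₗ[σ] F} {q : ℕ} {G : Type*} [Group G] [Finite G]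

namespace Glue

theorem trv_mem (h : Sp B q) {Y : Submodule F V} {w v : V} (hw : w ∈ Y) (hv : v ∈ Y) (e : B w v = 0) (a : F) :
    trv B w v a ∈ SLY B Y :=
  ⟨⟨trv_mem_SL _ _ _, fun _ => Iff.rfl, fun x _ => by
      rw [trv_smul e, add_sub_cancel_left]; exact Y.smul_mem _ hw⟩,
    fun x hx => by rw [trv_smul e, h.zero_symm (hx v hv), mul_zero, zero_smul, add_zero]⟩

theorem tv_mem (h : Sp B q) {Y : Submodule F V} {v : V} (hv : v ∈ Y) (e : B v v = 0) (a : F) :
    tv B v a ∈ SLY B Y := trv_self e a ▸ trv_mem h hv hv e a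

theorem exists_tau {n : ℕ} (hn : 4 ≤ n) (T : Finset (Fin n)) (hT : T.card ≤ 4) :
    ∃ τ : Fin 4 → Fin n, Function.Injective τ ∧ ∀ i ∈ T, i ∈ Set.range τ := by
  obtain ⟨T', h1, -, h2⟩ := Finset.exists_subsuperset_card_eq T.subset_univ hT (by simpa using hn)
  exact ⟨T'.orderEmbOfFin h2, (T'.orderEmbOfFin h2).injective, fun i hi => by
    rw [Finset.range_orderEmbOfFin]; exact h1 hi⟩

theorem nd (h : Sp B q) {n : ℕ} (b : Fin n → V) (hb : ∀ i j, B (b i) (b j) = if i = j then 1 else 0) :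
    Disjoint (Submodule.span F (Set.range b)) (uPerp B (Submodule.span F (Set.range b))) ∧
      finrank F (Submodule.span F (Set.range b)) = n := by
  have sm : ∀ (c : Fin n → F) j, B (∑ i, c i • b i) (b j) = c j := fun c j => by simp [hb]
  have li : LinearIndependent F b := Fintype.linearIndependent_iff.2 fun c e j => by
    rw [← sm c j, e, map_zero, LinearMap.zero_apply]
  refine ⟨h.herm.disjoint_of_forall fun u hu e => ?_, by rw [finrank_span_eq_card li, Fintype.card_fin]⟩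
  obtain ⟨c, rfl⟩ := (Submodule.mem_span_range_iff_exists_fun F).1 hu
  exact Finset.sum_eq_zero fun j _ => by
    rw [← sm c j, e _ (Submodule.subset_span ⟨j, rfl⟩), zero_smul]

theorem step (h : Sp B q) {n : ℕ} (b : Fin n → V) (hb : ∀ i j, B (b i) (b j) = if i = j then 1 else 0) {v : V}
    {i j k l : Fin n} (ij : i ≠ j) (ik : i ≠ k) (il : i ≠ l) (jk : j ≠ k) (jl : j ≠ l) (kl : k ≠ l)
    (hi : B v (b i) ≠ 0) (hj : B v (b j) ≠ 0) (hk : B v (b k) ≠ 0) (hl : B v (b l) ≠ 0) :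
    ∃ T : Finset (Fin n), T.card ≤ 4 ∧ ∃ u ∈ Submodule.span F (b '' T), B u u = 0 ∧ σ (B v u) = B v u ∧ B v u ≠ 0 ∧
      (∀ m, B v (b m) = 0 → B u (b m) = 0) ∧ B u (b i) = B v (b i) := by
  have h2 := CharTwo.two_eq_zero (R := F)
  have A : ∀ j, B v (b j) ≠ 0 → B v (b i) * σ (B v (b i)) ≠ B v (b j) * σ (B v (b j)) →
      ∃ T : Finset (Fin n), T.card ≤ 4 ∧ ∃ u ∈ Submodule.span F (b '' T), B u u = 0 ∧ σ (B v u) = B v u ∧
        B v u ≠ 0 ∧ (∀ m, B v (b m) = 0 → B u (b m) = 0) ∧ B u (b i) = B v (b i) := by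
    intro j hj hne
    have ij : i ≠ j := fun e => hne (by rw [e])
    have n0 : B v (b j) * σ (B v (b j)) ≠ 0 := mul_ne_zero hj (by simpa using hj)
    have n1 : B v (b i) * σ (B v (b i)) ≠ 0 := mul_ne_zero hi (by simpa using hi)
    obtain ⟨r, hr, hr', -⟩ := h.exists_sqrt (B v (b i) * σ (B v (b i)) / (B v (b j) * σ (B v (b j))))
    have sr : σ r = r := hr' (by rw [map_div₀, map_mul, map_mul, h.ss, h.ss, mul_comm, mul_comm (σ _)])
    rw [eq_div_iff n0] at hr
    have e1 : B v (B v (b i) • b i + (r * B v (b j)) • b j) =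
        B v (b i) * σ (B v (b i)) + r * (B v (b j) * σ (B v (b j))) := by
      simp only [map_add, map_smulₛₗ, smul_eq_mul, map_mul, sr]; ring
    refine ⟨{i, j}, Finset.card_le_two.trans (by norm_num), B v (b i) • b i + (r * B v (b j)) • b j,
      add_mem (Submodule.smul_mem _ _ (Submodule.subset_span ⟨i, by simp, rfl⟩))
        (Submodule.smul_mem _ _ (Submodule.subset_span ⟨j, by simp, rfl⟩)), ?_, ?_, ?_, fun m hm => ?_, ?_⟩
    · simp [hb, ij, ij.symm, sr]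
      linear_combination hr + (B v (b i) * σ (B v (b i))) * h2
    · rw [e1]; simp only [map_add, map_mul, h.ss, sr]; ring
    · rw [e1]
      intro e
      have e2 : r * (r + 1) * (B v (b j) * σ (B v (b j))) = 0 := by linear_combination hr + e
      rcases mul_eq_zero.1 ((mul_eq_zero.1 e2).resolve_right n0) with e3 | e3
      · exact n1 (by rw [← hr, e3]; ring)
      · exact hne (by rw [← hr, CharTwo.add_eq_zero.1 e3]; ring)
    · have m1 : i ≠ m := fun e => hi (e ▸ hm)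
      have m2 : j ≠ m := fun e => hj (e ▸ hm)
      simp [hb, m1, m2]
    · simp [hb, ij.symm]
  by_cases e1 : B v (b i) * σ (B v (b i)) = B v (b j) * σ (B v (b j))
  swap
  · exact A j hj e1
  by_cases e2 : B v (b i) * σ (B v (b i)) = B v (b k) * σ (B v (b k))
  swap
  · exact A k hk e2
  by_cases e3 : B v (b i) * σ (B v (b i)) = B v (b l) * σ (B v (b l))
  swap
  · exact A l hl e3
  obtain ⟨ω, hω⟩ := h.exists_omega
  have e4 : B v (B v (b i) • b i + B v (b j) • b j + (ω * B v (b k)) • b k + (σ ω * B v (b l)) • b l) =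
      B v (b i) * σ (B v (b i)) := by
    simp only [map_add, map_smulₛₗ, smul_eq_mul, map_mul, h.ss]
    linear_combination -e1 - σ ω * e2 - ω * e3 + (B v (b i) * σ (B v (b i))) * (hω + h2)
  refine ⟨{i, j, k, l}, Finset.card_le_four,
    B v (b i) • b i + B v (b j) • b j + (ω * B v (b k)) • b k + (σ ω * B v (b l)) • b l,
    add_mem (add_mem (add_mem (Submodule.smul_mem _ _ (Submodule.subset_span ⟨i, by simp, rfl⟩))
      (Submodule.smul_mem _ _ (Submodule.subset_span ⟨j, by simp, rfl⟩)))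
      (Submodule.smul_mem _ _ (Submodule.subset_span ⟨k, by simp, rfl⟩)))
      (Submodule.smul_mem _ _ (Submodule.subset_span ⟨l, by simp, rfl⟩)), ?_, ?_, ?_, fun m hm => ?_, ?_⟩
  · simp [hb, ij, ik, il, jk, jl, kl, ij.symm, ik.symm, il.symm, jk.symm, jl.symm, kl.symm, h.ss]
    linear_combination -e1 - ω * σ ω * e2 - ω * σ ω * e3 + (B v (b i) * σ (B v (b i))) * (1 + ω * σ ω) * h2
  · rw [e4, map_mul, h.ss, mul_comm]
  · rw [e4]; exact mul_ne_zero hi (by simpa using hi)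
  · have m1 : i ≠ m := fun e => hi (e ▸ hm)
    have m2 : j ≠ m := fun e => hj (e ▸ hm)
    have m3 : k ≠ m := fun e => hk (e ▸ hm)
    have m4 : l ≠ m := fun e => hl (e ▸ hm)
    simp [hb, m1, m2, m3, m4]
  · simp [hb, ij.symm, ik.symm, il.symm]

theorem ind (h : Sp B q) {n : ℕ} (b : Basis (Fin n) F V) (hb : ∀ i j, B (b i) (b j) = if i = j then 1 else 0)
    {P : V → Prop} (h0 : ∀ T : Finset (Fin n), T.card ≤ 4 → ∀ v ∈ Submodule.span F (b '' T), B v v = 0 → P v)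
    (h1 : ∀ u v a, B u u = 0 → B v v = 0 → σ a = a → P u → P v → P (tv B u a • v)) {v : V} (hv : B v v = 0) : P v := by
  classical
  generalize hm : (Finset.univ.filter fun i => B v (b i) ≠ 0).card = m
  induction m using Nat.strong_induction_on generalizing v with
  | _ m ih =>
  by_cases h4 : m ≤ 4
  · refine h0 _ (hm.le.trans h4) v ?_ hv
    have co : ∀ j, B v (b j) = b.repr v j := fun j => by
      have sm : ∀ (c : Fin n → F) j, B (∑ i, c i • b i) (b j) = c j := fun c j => by simp [hb]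
      rw [← sm (b.repr v) j, b.sum_repr v]
    rw [← b.sum_repr v]
    refine Submodule.sum_mem _ fun j _ => ?_
    by_cases e : b.repr v j = 0
    · rw [e, zero_smul]; exact zero_mem _
    · refine Submodule.smul_mem _ _ (Submodule.subset_span ⟨j, ?_, rfl⟩)
      rw [b.sum_repr v]
      simpa [co] using e
  obtain ⟨i, hi, j, hj, k, hk, l, hl, ij, ik, il, jk, jl, kl⟩ :=
    Finset.three_lt_card.1 (show 3 < (Finset.univ.filter fun i => B v (b i) ≠ 0).card by omega)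
  simp only [Finset.mem_filter, Finset.mem_univ, true_and] at hi hj hk hl
  obtain ⟨T, hT, u, hu, u0, u1, u2, u3, u4⟩ := step h b hb ij ik il jk jl kl hi hj hk hl
  have ha : σ (B v u)⁻¹ = (B v u)⁻¹ := by rw [map_inv₀, u1]
  have e : tv B u (B v u)⁻¹ • v = v + u := by rw [tv_smul u0, inv_mul_cancel₀ u2, one_smul]
  have hv' : B (v + u) (v + u) = 0 := by rw [← e, SU_map (h.tv_mem u0 ha), hv]
  have := h1 u (v + u) _ u0 hv' ha (h0 T hT u hu u0) (ih _ ?_ hv' rfl)
  · rwa [← e, ← mul_smul, h.tv_sq u0, one_smul] at this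
  rw [← hm]
  refine Finset.card_lt_card ⟨fun x hx => ?_, fun hs => ?_⟩
  · simp only [Finset.mem_filter, Finset.mem_univ, true_and] at hx ⊢
    exact fun e => hx (by rw [map_add, LinearMap.add_apply, e, u3 x e, add_zero])
  · have := hs (show i ∈ _ by simpa using hi)
    simp only [Finset.mem_filter, Finset.mem_univ, true_and] at this
    exact this (by rw [map_add, LinearMap.add_apply, u4, CharTwo.add_self_eq_zero])

end Glue

open Glue

theorem Cfg.Pt.RF.glue {c : Cfg B q G} {s : c.Pt} {θ : F} (h : s.RF θ) :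
    ∃ ρ : SL F V →* G, ∀ v, B v v = 0 → ∀ a, ev ρ (tv B v a) = s.zh θ v a := by
  have hs := c.sp
  obtain ⟨b, hb⟩ := hs.herm.exists_orthonormal_basis rfl
  have hn := hs.four_le
  generalize finrank F V = n at b hb hn
  have pl := fun (r : Ch.RtA n) (a : F) => hs.trv_plane (p := b r.1.1) (r := b r.1.2) (by simp [hb]) (by simp [hb])
    (by simp [hb, r.2]) a
  choose e he f hf e0 f0 x x' hx using pl
  have bb : ∀ r : Ch.RtA n, B (b r.1.1) (b r.1.2) = 0 := fun r => by simp [hb, r.2]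
  have loc : ∀ T : Finset (Fin n), T.card ≤ 4 → ∃ Y : Submodule F V, (∀ i ∈ T, b i ∈ Y) ∧
      SLY B Y ≤ closure {g | ∃ r : Ch.RtA n, ∃ a, b r.1.1 ∈ Y ∧ b r.1.2 ∈ Y ∧ g = trv B (b r.1.1) (b r.1.2) a} ∧
      ∃ ρ : SLY B Y →* G, (∀ v ∈ Y, B v v = 0 → ∀ a, ev ρ (tv B v a) = s.zh θ v a) ∧
        ∀ r : Ch.RtA n, b r.1.1 ∈ Y → b r.1.2 ∈ Y → ∀ a, ev ρ (trv B (b r.1.1) (b r.1.2) a) =
          s.zh θ (f r a) (x r a) * s.zh θ (e r a) (x' r a) * s.zh θ (f r a) (x r a) := by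
    intro T hT
    obtain ⟨τ, hτ, hT'⟩ := exists_tau hn T hT
    have hb' : ∀ i j, B ((b ∘ τ) i) ((b ∘ τ) j) = if i = j then 1 else 0 := fun i j => by simp [hb, hτ.eq_iff]
    have m : ∀ i, b (τ i) ∈ Submodule.span F (Set.range (b ∘ τ)) := fun i => Submodule.subset_span ⟨i, rfl⟩
    obtain ⟨ρ, hρ⟩ := h.rho4 (nd hs _ hb').1 (nd hs _ hb').2
    refine ⟨_, fun i hi => ?_, ?_, ρ, hρ.tv, fun r h1 h2 a => ?_⟩
    · obtain ⟨j, rfl⟩ := hT' i hi
      exact m j
    · rw [hs.SLY_gen _ _ hb' m]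
      refine closure_mono ?_
      rintro _ ⟨i, j, a, hij, rfl⟩
      exact ⟨⟨(τ i, τ j), hτ.ne hij⟩, a, m i, m j, rfl⟩
    · have le : Submodule.span F {b r.1.1, b r.1.2} ≤ Submodule.span F (Set.range (b ∘ τ)) :=
        Submodule.span_le.2 (Set.pair_subset h1 h2)
      have t1 := tv_mem hs (le (hf r a)) (f0 r a) (x r a)
      have t2 := tv_mem hs (le (he r a)) (e0 r a) (x' r a)
      rw [hx, ev_mul (mul_mem t1 t2) t1, ev_mul t1 t2, hρ.tv _ (le (hf r a)) (f0 r a), hρ.tv _ (le (he r a)) (e0 r a)]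
  obtain ⟨μ, -, -, hμ⟩ := SLa.exists_mu hs b b hb fun j => Submodule.subset_span ⟨j, rfl⟩
  replace hμ : ∀ (r : Ch.RtA n) a, trv B (b r.1.1) (b r.1.2) a = μ (Ch.xA F r a) := fun r a => (hμ _ _ r.2 a).symm
  have R := Ch.slRel_xA (n := n) (K := F)
  generalize hy : (fun (r : Ch.RtA n) a => s.zh θ (f r a) (x r a) * s.zh θ (e r a) (x' r a) * s.zh θ (f r a) (x r a))
    = y
  have hy' : ∀ r a, s.zh θ (f r a) (x r a) * s.zh θ (e r a) (x' r a) * s.zh θ (f r a) (x r a) = y r a :=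
    fun r a => by rw [← hy]
  simp only [hy'] at loc
  have rel : Ch.SLRel y := by
    refine ⟨fun r t u => ?_, fun r r' t u h1 h2 => ?_, fun r r' h1 t u h2 => ?_⟩
    · obtain ⟨Y, m, -, ρ, -, k⟩ := loc {r.1.1, r.1.2} (Finset.card_le_two.trans (by norm_num))
      have m1 := m r.1.1 (by simp)
      have m2 := m r.1.2 (by simp)
      rw [← k r m1 m2, ← k r m1 m2, ← k r m1 m2, ← ev_mul (trv_mem hs m1 m2 (bb r) _) (trv_mem hs m1 m2 (bb r) _),
        hμ, hμ, hμ, ← map_mul, R.add]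
    · obtain ⟨Y, m, -, ρ, -, k⟩ := loc {r.1.1, r.1.2, r'.1.1, r'.1.2} Finset.card_le_four
      have m1 := m r.1.1 (by simp)
      have m2 := m r.1.2 (by simp)
      have m3 := m r'.1.1 (by simp)
      have m4 := m r'.1.2 (by simp)
      rw [← k r m1 m2, ← k r' m3 m4]
      refine ev_comm (trv_mem hs m1 m2 (bb r) _) (trv_mem hs m3 m4 (bb r') _) ?_
      rw [hμ, hμ]
      exact ((R.comm r r' t u h1 h2).map μ).eq
    · obtain ⟨Y, m, -, ρ, -, k⟩ := loc {r.1.1, r.1.2, r'.1.1, r'.1.2} Finset.card_le_four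
      have m1 := m r.1.1 (by simp)
      have m2 := m r.1.2 (by simp)
      have m3 := m r'.1.1 (by simp)
      have m4 := m r'.1.2 (by simp)
      have t1 := trv_mem hs m1 m2 (bb r) t
      have t2 := trv_mem hs m3 m4 (bb r') u
      rw [← k r m1 m2, ← k r' m3 m4, ← k ⟨(r.1.1, r'.1.2), h1⟩ m1 m4, ← ev_conj t1 t2, ← ev_inv t2,
        ← ev_mul (mul_mem (mul_mem t1 t2) (inv_mem t1)) (inv_mem t2), hμ, hμ, hμ ⟨(r.1.1, r'.1.2), h1⟩,
        ← R.rel r r' h1 t u h2]
      simp only [map_mul, map_inv]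
  obtain ⟨ρ, hρ⟩ : ∃ ρ : SL F V →* G, ∀ (r : Ch.RtA n) a, ev ρ (trv B (b r.1.1) (b r.1.2) a) = y r a := by
    rw [← hs.SLY_top, ← b.span_eq]
    exact hs.exists_slHom (by omega) b b hb (fun j => Submodule.subset_span ⟨j, rfl⟩) rel
  refine ⟨ρ, fun v hv => ind hs b hb (P := fun v => ∀ a, ev ρ (tv B v a) = s.zh θ v a) (fun T hT v hv v0 a => ?_)
    (fun u v a u0 v0 ha hu hv a' => ?_) hv⟩
  · obtain ⟨Y, m, g, ρ', k1, k⟩ := loc T hT
    have hv' : v ∈ Y := Submodule.span_le.2 (by rintro _ ⟨i, hi, rfl⟩; exact m i hi) hv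
    rw [← k1 v hv' v0]
    refine ev_ext ?_ ?_ ?_ (g (tv_mem hs hv' v0 a)) <;> rintro _ ⟨r, a, m1, m2, rfl⟩
    · exact trv_mem_SL _ _ _
    · exact trv_mem hs m1 m2 (bb r) _
    · rw [hρ, k r m1 m2]
  · have t := hs.tv_mem u0 ha
    have e1 := tv_conj (SU_le_Gam t) v0 a'
    rw [fld_SU t, RingAut.one_apply] at e1
    rw [← e1, ev_conj (tv_mem_SL u0 a) (tv_mem_SL v0 a'), hu, hv, Cfg.Pt.zh_K u0 ha, ← h.zh_eqv t v0]
    rfl

end Cfsg.Agent.U4t
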