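import Mathlib
import Cfsg.Agent.U4t.Cfg3
import Cfsg.Agent.U4t.Can

/-! The data of the product case. -/

set_option autoImplicit false
set_option linter.unusedSectionVars false

namespace Cfsg.Agent.U4t

open Cfsg Cfsg.Agent.Cl Cfsg.Agent.Loc.Mss Subgroup Module
open Cfsg.Agent.StdB (C1 mem_C1 El)
open scoped commutatorElement

variable {F : Type*} [Field F] [Finite F] [CharP F 2] {σ : F →+* F} {V : Type*} [AddCommGroup V] [Module F V]
  [Finite V] {B : V →ₗ[F] V →ₛₗ[σ] F} {q : ℕ} {G : Type*} [Group G] [Finite G]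

namespace PdMk

theorem exists_uu (h : Sp B q) {v w : V} (hv : B v v = 0) (hw : B w w = 0) (n : B v w ≠ 0) {b : F} (hb : σ b = b) :
    ∃ u u', B u u = 0 ∧ B u' u' = 0 ∧ B u w = 0 ∧ B u' w = 0 ∧ B v u = 0 ∧ B v u' = 0 ∧ B u u' + B u' u = b := by
  have n' : B w v ≠ 0 := fun e => n (h.zero_symm e)
  obtain ⟨e, f, p⟩ := h.exists_frame'' (h.herm.uHypPair (e := v) (f := (B w v)⁻¹ • w) hv (by simp [hw])
    (by simp [h.symm, n]))
  obtain ⟨ω, hω⟩ := h.exists_omega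
  refine ⟨e, (b * ω) • f, p.p2.left, by simp [p.p2.right], h.zero_symm (by simpa [n'] using p.fe), ?_, p.ee,
    by simp [p.ef], ?_⟩
  · have : B f w = 0 := h.zero_symm (by simpa [n'] using p.ff)
    simp [this]
  · simp only [map_smulₛₗ, LinearMap.smul_apply, smul_eq_mul, p.p2.pair, p.p2.pair', RingHom.id_apply, map_mul, hb]
    linear_combination b * hω

theorem range_le (h : Sp B q) {ψ : SU B →* G} {X : Subgroup G}
    (H : ∀ v, B v v = 0 → ∀ a, σ a = a → ev ψ (tv B v a) ∈ X) : ψ.range ≤ X := by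
  rw [← im_self]
  nth_rewrite 2 [h.SU_gen]
  refine im_closure_le ?_ ?_ <;> rintro _ ⟨v, a, hv, ha, rfl⟩
  exacts [h.tv_mem hv ha, H v hv a ha]

theorem act_of (h : Sp B q) {ψ : SU B →* G} {g : G} {γ : SG F V} (hγ : γ ∈ Gam B)
    (H : ∀ v, B v v = 0 → ∀ a, σ a = a → g * ev ψ (tv B v a) * g⁻¹ = ev ψ (tv B (γ • v) (fld γ a))) :
    Act ψ g γ := fun x hx => by
  rw [h.SU_gen] at hx
  induction hx using closure_induction with
  | mem x hx =>
    obtain ⟨v, a, hv, ha, rfl⟩ := hx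
    rw [tv_conj hγ hv, H v hv a ha]
  | one => simp [ev_one]
  | mul x y hx hy a b =>
    rw [← h.SU_gen] at hx hy
    rw [ev_mul hx hy, ← conj_mul, a, b, ← conj_mul, ev_mul (conj_mem_SU hγ hx) (conj_mem_SU hγ hy)]
  | inv x hx a =>
    rw [← h.SU_gen] at hx
    rw [ev_inv hx, ← conj_inv, a, ← conj_inv, ev_inv (conj_mem_SU hγ hx)]

theorem tt {t : G} (t2 : t * t = 1) {a b : G} (h : Commute a (t * b * t)) : Commute (t * a * t) b := by
  have := congrArg (fun x => t * x * t) h.eq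
  simp only [mul_assoc, t2, mul_one] at this
  simp only [← mul_assoc, t2, one_mul] at this
  exact this.trans (by group)

end PdMk

open PdMk Can

namespace Cfg.Pt

variable {c : Cfg B q G} {s : c.Pt}

theorem Rel.pd_xs (h : s.Rel 0) {e w v : V} (he : B e e = 0) (hw : B w e = 0) (hww : B w w = 0) (hv : B v e = 0)
    (hvv : B v v = 0) {a : F} (ha : σ a = a) : Commute (s.xs e w) (c.t * s.zs v a * c.t) := by
  have hX := ti2 c.sp he hv hvv
  have kn : σ (a * (B w v * B v w)) = a * (B w v * B v w) := by simp [ha, c.sp.symm, mul_comm]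
  have P2 := s.xs_sq he hw hww
  have : s.xs e w * (s.zs v a * c.z v a) * s.xs e w = s.zs v a * c.z v a := by
    rw [cjm P2, h.r3s e w v he hw hww hv hvv a ha, h.r3z e w v he hw hww hv hvv a ha, zero_mul, zero_mul, zero_smul,
      c.x_zero he, c.z_zero, add_zero, one_mul, mul_one, mul_one, mul_one,
      ac2 (Ab_comm hX) (mZ (m2 e v) ha) (mX (m1 e v) (m3 e v _)) (mZ (m1 e v) kn) (mz (m2 e v) ha)
        (mX (m1 e v) (m3 e v _)) (mZ (m1 e v) kn), s.xs_sq he (by simp [hv]) (by simp [hvv]), s.zs_sq he kn,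
      mul_one, mul_one]
  rw [s.tz v hvv a ha, Commute, SemiconjBy]
  nth_rewrite 2 [← this]
  rw [mul_assoc _ (s.xs e w), P2, mul_one]

theorem Rel.pd_eq (h : s.Rel 0) {w u u' : V} (hw : B w w = 0) (hu : B u u = 0) (hu' : B u' u' = 0) (a1 : B u w = 0)
    (a2 : B u' w = 0) : s.zs w (B u u' + B u' u) = ⁅(s.xs w u)⁻¹, (s.xs w u')⁻¹⁆ := by
  have := h.r2 w u u' hw a1 hu a2 hu'
  rw [zero_mul, c.z_zero, mul_one] at this
  rw [commutatorElement_def, inv_inv, inv_inv, mul_assoc, this]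
  group

theorem Rel.comm12 (h : s.Rel 0) {v w : V} (hv : B v v = 0) (hw : B w w = 0) {a b : F} (ha : σ a = a) (hb : σ b = b) :
    Commute (s.zs v a) (s.zs w b * c.z w b) := by
  by_cases n : B v w = 0
  · exact Commute.mul_right (s.perp v w hv (c.sp.zero_symm n) hw a b ha hb) (s.zs_z hv n hw ha hb)
  obtain ⟨u, u', h1, h2, h3, h4, h5, h6, e⟩ := exists_uu c.sp hv hw n hb
  have k : ∀ {u}, B u u = 0 → B u w = 0 → B v u = 0 → Commute (c.t * s.zs v a * c.t) (s.xs w u)⁻¹ :=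
    fun h1 h3 h5 => by
      rw [s.xs_symm hw h3 h1]
      exact (h.pd_xs h1 (c.sp.zero_symm h3) hw h5 hv ha).symm.inv_right
  rw [← s.tz w hw b hb]
  refine (tt c.t2 (Commute.symm ?_)).symm
  rw [← e, h.pd_eq hw h1 h2 h3 h4, commutatorElement_def]
  exact (((k h1 h3 h5).mul_right (k h2 h4 h6)).mul_right (k h1 h3 h5).inv_right).mul_right (k h2 h4 h6).inv_right

theorem Rel.zeta (h : s.Rel 0) : ∃ ζ : G, ζ * ζ = 1 ∧ ζ * (c.t * ζ * c.t) ∈ c.L ∧ ζ * (c.t * ζ * c.t) ≠ 1 ∧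
    (∀ l ∈ c.L, Commute ζ (c.t * (l * ζ * l⁻¹) * c.t)) ∧ ∀ o ∈ c.K0, Odd (orderOf o) → o * ζ = ζ * o := by
  obtain ⟨e, he⟩ := c.sp.exists_iso
  have o := map_one σ
  have e1 : s.zs e 1 * (c.t * s.zs e 1 * c.t) = c.z e 1 := by
    rw [s.tz e he.iso 1 o, ← mul_assoc, s.zs_sq he.iso o, one_mul]
  refine ⟨s.zs e 1, s.zs_sq he.iso o, e1 ▸ c.z_mem e 1, fun k => one_ne_zero ((c.z_eq_one he o).1 (e1 ▸ k)),
    fun l hl => ?_, fun k hk ko => s.odd k hk ko e he.iso 1 o⟩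
  obtain ⟨g, hg, rfl⟩ := mem_range_iff.1 hl
  have hw := (he.smul (SU_le_Gam hg)).iso
  rw [s.eqv g hg e he.iso 1 o, s.tz _ hw 1 o]
  exact h.comm12 he.iso hw o o

end Cfg.Pt

end Cfsg.Agent.U4t
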