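import Mathlib
import Cfsg.Agent.U4t.Cfg3
import Cfsg.Agent.U4t.PtB
import Cfsg.Agent.U4t.Ph

set_option autoImplicit false
set_option linter.unusedSectionVars false

namespace Cfsg.Agent.U4t

open Cfsg Cfsg.Agent.Cl Cfsg.Agent.Loc.Mss Subgroup Module
open Cfsg.Agent.StdB (C1 mem_C1 El)
open scoped commutatorElement

variable {F : Type*} [Field F] [Finite F] [CharP F 2] {σ : F →+* F} {V : Type*} [AddCommGroup V] [Module F V]
  [Finite V] {B : V →ₗ[F] V →ₛₗ[σ] F} {q : ℕ} {G : Type*} [Group G] [Finite G]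

namespace PlQ

/-- An abelian subgroup as a commutative group. -/
@[reducible] def cg {P : Subgroup G} (hP : P ≤ 𝐂[P]) : CommGroup P :=
  { (inferInstance : Group P) with mul_comm := fun a b => Subtype.ext (mem_cent.1 (hP b.2) a a.2) }

theorem uniq {P A1 A2 A3 : Subgroup G} (hP : P ≤ 𝐂[P]) (h1 : A1 ≤ P) (h2 : A2 ≤ P) (h3 : A3 ≤ P)
    (hi : ∀ y1 ∈ A1, ∀ y2 ∈ A2, ∀ b ∈ A3, y1 * y2 * b = 1 → y1 = 1 ∧ y2 = 1 ∧ b = 1)
    {x1 x2 x3 y1 y2 y3 : G} (a1 : x1 ∈ A1) (a2 : x2 ∈ A2) (a3 : x3 ∈ A3) (b1 : y1 ∈ A1) (b2 : y2 ∈ A2)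
    (b3 : y3 ∈ A3) (e : x1 * x2 * x3 = y1 * y2 * y3) : x1 = y1 ∧ x2 = y2 ∧ x3 = y3 := by
  have := hi _ (mul_mem (inv_mem b1) a1) _ (mul_mem (inv_mem b2) a2) _ (mul_mem (inv_mem b3) a3) (by
    let _ := cg hP
    lift x1 to P using h1 a1
    lift x2 to P using h2 a2
    lift x3 to P using h3 a3
    lift y1 to P using h1 b1
    lift y2 to P using h2 b2
    lift y3 to P using h3 b3
    have e' : x1 * x2 * x3 = y1 * y2 * y3 := Subtype.ext e
    have : y1⁻¹ * x1 * (y2⁻¹ * x2) * (y3⁻¹ * x3) = (y1 * y2 * y3)⁻¹ * (x1 * x2 * x3) := by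
      rw [mul_inv, mul_inv]; ac_rfl
    rw [e', inv_mul_cancel] at this
    exact congrArg Subtype.val this)
  exact ⟨(inv_mul_eq_one.1 this.1).symm, (inv_mul_eq_one.1 this.2.1).symm, (inv_mul_eq_one.1 this.2.2).symm⟩

theorem ti2 (h : Sp B q) {v w : V} (hv : B v v = 0) (hwv : B w v = 0) (hw : B w w = 0) :
    TI B (Submodule.span F {v, w}) := fun x hx y hy => by
  obtain ⟨a, b, rfl⟩ := Submodule.mem_span_pair.1 hx
  obtain ⟨a', b', rfl⟩ := Submodule.mem_span_pair.1 hy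
  simp [hv, hwv, hw, h.zero_symm hwv]

theorem iso2 (h : Sp B q) {v w : V} (hv : B v v = 0) (hwv : B w v = 0) (hw : B w w = 0) (α : F) :
    B (α • v + w) (α • v + w) = 0 := by
  simp [hv, hwv, hw, h.zero_symm hwv]

theorem fixN (h : Sp B q) {a : F} (ha : σ a = a) (l : F) : σ (a * (l * σ l)) = a * (l * σ l) := by
  rw [map_mul, map_mul, ha, h.ss, mul_comm (σ l)]

theorem zs_mem {c : Cfg B q G} (d : c.Zd) {s : c.Pt} (hs : ∀ v, Iso B v → ∀ a, σ a = a → s.zs v a ∈ d.Zh v)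
    {X : Submodule F V} (hX : TI B X) {x : V} (hx : x ∈ X) {a : F} (ha : σ a = a) : s.zs x a ∈ d.Ph X := by
  by_cases h0 : x = 0
  · rw [h0, s.zs_zero_left ha]; exact one_mem _
  · exact d.le_Ph hx h0 (hs x ⟨h0, hX x hx x hx⟩ a ha)

theorem pl_of {c : Cfg B q G} {s : c.Pt}
    (H : ∀ v w, LinearIndependent F ![v, w] → B v v = 0 → B w v = 0 → B w w = 0 → ∃ S : F → G,
      (∀ α β, S (α + β) = S α * S β) ∧
      ∀ α a, σ a = a → s.zs (α • v + w) a = s.zs v (a * (α * σ α)) * s.zs w a * S (a * α)) : s.Pl := by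
  have h := c.sp
  have H' : ∀ v w, B v v = 0 → B w v = 0 → B w w = 0 → ∃ S : F → G,
      (∀ α β, S (α + β) = S α * S β) ∧
      ∀ α a, σ a = a → s.zs (α • v + w) a = s.zs v (a * (α * σ α)) * s.zs w a * S (a * α) := by
    intro v w hv hwv hw
    by_cases hi : LinearIndependent F ![v, w]
    · exact H v w hi hv hwv hw
    by_cases h0 : v = 0
    · subst h0
      exact ⟨fun _ => 1, fun _ _ => (mul_one 1).symm, fun α a ha => by
        rw [smul_zero, zero_add, s.zs_zero_left (fixN h ha α), one_mul, mul_one]⟩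
    rw [LinearIndependent.pair_iff' h0] at hi
    push Not at hi
    obtain ⟨k, rfl⟩ := hi
    have f : ∀ x : F, σ (x * σ k + σ x * k) = x * σ k + σ x * k := fun x => by
      rw [map_add, map_mul, map_mul, h.ss, h.ss, add_comm]
    refine ⟨fun x => s.zs v (x * σ k + σ x * k), fun α β => ?_, fun α a ha => ?_⟩
    · dsimp only
      rw [← s.add v hv _ _ (f α) (f β)]
      congr 1
      rw [map_add]; ring
    · have f2 : σ (a * (α * σ α) + a * (k * σ k)) = a * (α * σ α) + a * (k * σ k) := by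
        rw [map_add, fixN h ha, fixN h ha]
      rw [← add_smul, s.sm v hv _ _ ha, s.sm v hv _ _ ha, ← s.add v hv _ _ (fixN h ha α) (fixN h ha k),
        ← s.add v hv _ _ f2 (f _)]
      congr 1
      rw [map_add, map_mul, ha]; ring
  have key : ∀ v w, B v v = 0 → B w v = 0 → B w w = 0 → ∀ S : F → G,
      (∀ α a, σ a = a → s.zs (α • v + w) a = s.zs v (a * (α * σ α)) * s.zs w a * S (a * α)) →
      ∀ α, s.xs (α • v) w = S α := by
    intro v w hv hwv hw S hS α
    have e := hS α 1 (map_one σ)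
    rw [← s.sm v hv α 1 (map_one σ), one_mul] at e
    have hv' : B (α • v) (α • v) = 0 := by simp [hv]
    have hwv' : B w (α • v) = 0 := by simp [hwv]
    have c1 := s.perp (α • v) (α • v + w) hv' (by simp [hv, hwv]) (iso2 h hv hwv hw α) 1 1 (map_one σ) (map_one σ)
    have c2 := s.perp w (α • v + w) hw (by simp [hw, h.zero_symm hwv]) (iso2 h hv hwv hw α) 1 1 (map_one σ)
      (map_one σ)
    have c3 := s.perp (α • v) w hv' hwv' hw 1 1 (map_one σ) (map_one σ)
    have s1 := s.zs_sq hv' (map_one σ)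
    have s2 := s.zs_sq hw (map_one σ)
    unfold Cfg.Pt.xs
    generalize s.zs (α • v + w) 1 = p at *
    generalize s.zs (α • v) 1 = x at *
    generalize s.zs w 1 = y at *
    calc p * x * y = y * x * p := by rw [← c1, mul_assoc, ← c2, ← mul_assoc, c3]
      _ = y * (x * x) * y * S α := by rw [e]; simp only [mul_assoc]
      _ = S α := by rw [s1, mul_one, s2, one_mul]
  refine ⟨fun v w hv hwv hw a ha => ?_, fun v w hv hwv hw a b => ?_⟩
  · obtain ⟨S, -, h2⟩ := H' v w hv hwv hw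
    have := h2 1 a ha
    rwa [one_smul, map_one, mul_one, mul_one, ← key v w hv hwv hw S h2] at this
  · obtain ⟨S, h1, h2⟩ := H' v w hv hwv hw
    rw [key v w hv hwv hw S h2, key v w hv hwv hw S h2, key v w hv hwv hw S h2, h1]

theorem symmF (h : Sp B q) {e1 f1 e2 f2 : V} (p : Frame B e1 f1 e2 f2) : Frame B e2 f2 e1 f1 :=
  ⟨p.p2, p.p1, h.zero_symm p.ee, h.zero_symm p.fe, h.zero_symm p.ef, h.zero_symm p.ff⟩

theorem u_conj {c : Cfg B q G} (s : c.Pt) {v f1 w f2 : V} (p : Frame B v f1 w f2) (β : F) {x : V}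
    (hx : B x x = 0) {a : F} (ha : σ a = a) (hxv : B x v = 0) :
    c.x v (σ β • f2) * s.zs x a * c.x v (σ β • f2) = s.zs (x + (β * B x f2) • v) a := by
  have h := c.sp
  have h1 : B (σ β • f2) v = 0 := by simp [h.zero_symm p.ef]
  have h2 : B (σ β • f2) (σ β • f2) = 0 := by simp [p.p2.right]
  have := s.eqv _ (h.xx_mem p.p1.left h1 h2) x hx a ha
  rw [h.xx_smul p.p1.left h1, hxv, zero_smul, add_zero, map_smulₛₗ, h.ss, smul_eq_mul] at this
  rw [← this]
  exact congrArg _ (eq_inv_of_mul_eq_one_right (c.x_sq p.p1.left h1 h2))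

theorem fix1 {c : Cfg B q G} (d : c.Zd) (ht : c.Tight) {X : Submodule F V} (hX : TI B X) (h2 : 2 ≤ finrank F X)
    {y : G} (hy : y ∈ d.Ph X) (hf : ∀ g ∈ PW B X, c.Ψ g * y * (c.Ψ g)⁻¹ = y) : y = 1 := by
  have h := c.sp
  obtain ⟨b, h1, -, -, h4⟩ := d.exists_b hX
  have e1 : b y = 1 := h.AW_cen hX h2 (h1 y hy).1 fun g hg => by
    have := h4 y hy g hg
    rw [hf g hg] at this
    exact (eq_mul_inv_iff_mul_eq.1 this).symm
  have e2 := (h1 y hy).2
  rw [e1, Cfg.Ψ, ev_one, mul_one, mul_inv_eq_iff_eq_mul] at e2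
  obtain ⟨a, ha, rfl⟩ := (mem_im' (AW_le X)).1 (d.Ph_ker ht hX hy e2)
  obtain ⟨u, hu, u0⟩ := h.AWb_ne h2
  have e3 : a = 1 := h.AW_cen hX h2 ha fun g hg => by
    have ha' := h.conj_mem_AW' (SU_le_Gam hg.1) hg.2 ha
    have := c.ker.inj_fix u0 ha'.1 ha.1 (h.AW_fix ha' (hX.le hu)) (h.AW_fix ha (hX.le hu))
      ((ev_conj hg.1 ha.1).trans (hf g hg))
    exact mul_inv_eq_iff_eq_mul.1 this
  rw [e3, ev_one]

theorem prod4 {A : Type*} [CommGroup A] [Fintype F] (h4 : Fintype.card F = 4) {α β : F} (a0 : α ≠ 0) (b0 : β ≠ 0)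
    (ab : α ≠ β) (f : F → A) : ∏ x, f x = f 0 * f α * f β * f (α + β) := by
  classical
  have n1 : α + β ≠ 0 := fun e => ab (CharTwo.add_eq_zero.1 e)
  have n2 : α ≠ α + β := fun e => b0 (by simpa using e)
  have n3 : β ≠ α + β := fun e => a0 (by simpa using e)
  have : (Finset.univ : Finset F) = {0, α, β, α + β} := by
    refine (Finset.eq_univ_of_card _ ?_).symm
    rw [h4, Finset.card_eq_four]
    exact ⟨0, α, β, α + β, a0.symm, b0.symm, n1.symm, ab, n2, n3, rfl⟩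
  rw [this, Finset.prod_insert (by simp [a0.symm, b0.symm, n1.symm]), Finset.prod_insert (by simp [ab, n2]),
    Finset.prod_pair n3]
  simp only [mul_assoc]

theorem five {A : Type*} [CommGroup A] [Fintype F] (h4 : Fintype.card F = 4) {α β : F} (a0 : α ≠ 0) (b0 : β ≠ 0)
    (ab : α ≠ β) (f : F → F → A) (sq : ∀ x y, f x y * f x y = 1) (z : f 0 0 = 1)
    (sm : ∀ l x y, l ≠ 0 → f (l * x) (l * y) = f x y) (e : ∏ p : F × F, f p.1 p.2 = 1) :
    (f 1 0 * f 0 1)⁻¹ * f (α + β) 1 = (f 1 0 * f 0 1)⁻¹ * f α 1 * ((f 1 0 * f 0 1)⁻¹ * f β 1) := by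
  have n1 : α + β ≠ 0 := fun e => ab (CharTwo.add_eq_zero.1 e)
  have t : ∀ l, l ≠ 0 → ∏ x, f x l = ∏ x, f x 1 := fun l hl =>
    (Fintype.prod_equiv (Equiv.mulLeft₀ l hl) _ _ fun x => by
      rw [← sm l x 1 hl, mul_one]; rfl).symm
  have t0 : ∀ l, l ≠ 0 → f l 0 = f 1 0 := fun l hl => by rw [← sm l 1 0 hl, mul_one, mul_zero]
  rw [Fintype.prod_prod_type_right, prod4 h4 a0 b0 ab] at e
  dsimp only at e
  rw [t α a0, t β b0, t _ n1, prod4 h4 a0 b0 ab, prod4 h4 a0 b0 ab, z, t0 α a0, t0 β b0, t0 _ n1] at e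
  have s1 := sq 1 0
  have s2 := sq 0 1
  have s3 := sq α 1
  have s4 := sq β 1
  have s5 := sq (α + β) 1
  generalize f 1 0 = x1 at *
  generalize f 0 1 = x2 at *
  generalize f α 1 = x3 at *
  generalize f β 1 = x4 at *
  generalize f (α + β) 1 = x5 at *
  have e2 : x1 * x1 * (x2 * x2) * (x3 * x3) * (x4 * x4) * (x5 * x5) * (x1 * x2 * x3 * x4 * x5) = 1 := by
    rw [← e, one_mul]; ac_rfl
  rw [s1, s2, s3, s4, s5] at e2
  simp only [one_mul] at e2
  have e3 : x5 = (x1 * x2 * x3 * x4)⁻¹ := eq_inv_of_mul_eq_one_right e2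
  rw [e3, mul_inv _ x4, mul_inv _ x3, ← eq_inv_of_mul_eq_one_right s3, ← eq_inv_of_mul_eq_one_right s4]
  generalize (x1 * x2)⁻¹ = y
  ac_rfl

end PlQ

open PlQ

theorem Cfg.Zd.pl2 {c : Cfg B q G} (d : c.Zd) (hq : q = 2) (ht : c.Tight) {s : c.Pt}
    (hs : ∀ v, Iso B v → ∀ a, σ a = a → s.zs v a ∈ d.Zh v) : s.Pl := by
  classical
  have h := c.sp
  let _ := Fintype.ofFinite F
  let _ := Fintype.ofFinite V
  have h4 : Fintype.card F = 4 := by rw [← Nat.card_eq_fintype_card, h.uf.card, hq]; rfl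
  have K : ∀ a : F, σ a = a → a = 0 ∨ a = 1 := fun a ha => by
    rw [h.uf.pow, hq] at ha
    rw [← sub_eq_zero (a := a) (b := 1), ← mul_eq_zero]
    linear_combination ha
  have N : ∀ l : F, l ≠ 0 → l * σ l = 1 := fun l hl => by
    have := FiniteField.pow_card_sub_one_eq_one l hl
    rw [h4] at this
    rw [h.uf.pow, hq, ← this]; ring
  have one := map_one σ
  refine pl_of fun v w hi hv hwv hw => ?_
  have hX := ti2 h hv hwv hw
  have hP := d.Ph_ab hX
  have mX : ∀ a b : F, a • v + b • w ∈ Submodule.span F {v, w} := fun a b => Submodule.mem_span_pair.2 ⟨a, b, rfl⟩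
  have S0 : (s.zs v (0 * σ 0) * s.zs w 1)⁻¹ * s.zs ((0 : F) • v + w) 1 = 1 := by
    rw [zero_mul, s.zs_zero hv, zero_smul, zero_add, one_mul, inv_mul_cancel]
  refine ⟨fun α => (s.zs v (α * σ α) * s.zs w 1)⁻¹ * s.zs (α • v + w) 1, fun α β => ?_, fun α a ha => ?_⟩
  swap
  · rcases K a ha with rfl | rfl
    · simp only [zero_mul]
      rw [zero_smul, zero_add, s.zs_zero hv, s.zs_zero hw, s.zs_zero (iso2 h hv hwv hw α), one_mul, one_mul,
        one_mul, inv_mul_cancel]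
    · simp only [one_mul]
      rw [mul_inv_cancel_left]
  dsimp only
  by_cases a0 : α = 0
  · rw [a0, S0, zero_add, one_mul]
  by_cases b0 : β = 0
  · rw [b0, S0, add_zero, mul_one]
  let _ := cg hP
  let f : F → F → d.Ph (Submodule.span F {v, w}) := fun a b => ⟨s.zs (a • v + b • w) 1, zs_mem d hs hX (mX a b) one⟩
  have sq : ∀ x y, f x y * f x y = 1 := fun x y => Subtype.ext (s.zs_sq (hX _ (mX x y) _ (mX x y)) one)
  have c1 : (f 1 0 : G) = s.zs v 1 := by simp [f]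
  have c2 : (f 0 1 : G) = s.zs w 1 := by simp [f]
  have c3 : ∀ x, (f x 1 : G) = s.zs (x • v + w) 1 := fun x => by simp [f]
  by_cases ab : α = β
  · subst ab
    rw [CharTwo.add_self_eq_zero, S0, N α a0, ← c1, ← c2, ← c3]
    have : (f 1 0 * f 0 1)⁻¹ * f α 1 * ((f 1 0 * f 0 1)⁻¹ * f α 1) =
        (f 1 0 * f 1 0 * (f 0 1 * f 0 1))⁻¹ * (f α 1 * f α 1) := by
      simp only [mul_inv]; ac_rfl
    rw [sq, sq, sq, mul_one, mul_one, inv_one] at this
    exact (congrArg Subtype.val this).symm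
  have n1 : α + β ≠ 0 := fun e => ab (CharTwo.add_eq_zero.1 e)
  rw [N α a0, N β b0, N _ n1, ← c1, ← c2, ← c3, ← c3, ← c3]
  refine congrArg Subtype.val (five h4 a0 b0 ab f sq (Subtype.ext ?_) (fun l x y hl => Subtype.ext ?_) ?_)
  · simpa [f] using s.zs_zero_left one
  · change s.zs ((l * x) • v + (l * y) • w) 1 = s.zs (x • v + y • w) 1
    rw [mul_smul, mul_smul, ← smul_add, s.sm _ (hX _ (mX x y) _ (mX x y)) _ _ one, N l hl, mul_one]
  let g : V → d.Ph (Submodule.span F {v, w}) := fun x =>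
    if hx : x ∈ Submodule.span F {v, w} then ⟨s.zs x 1, zs_mem d hs hX hx one⟩ else 1
  rw [Fintype.prod_of_injective (fun p : F × F => p.1 • v + p.2 • w) ?_ _ g ?_ ?_]
  · have h2 : 2 ≤ finrank F (Submodule.span F {v, w}) := by
      have := finrank_span_eq_card hi
      rw [show Set.range ![v, w] = {v, w} by ext x; simp [eq_comm]; tauto] at this
      exact this.ge
    refine Subtype.ext (fix1 d ht hX h2 (∏ x, g x).2 fun k hk => ?_)
    let φ : d.Ph (Submodule.span F {v, w}) →* d.Ph (Submodule.span F {v, w}) :=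
      ((MulAut.conj (c.Ψ k)).toMonoidHom.comp (Subgroup.subtype _)).codRestrict _ fun y =>
        conj_mem_of_norm (d.Ph_norm hX hk) y.2
    change ((φ (∏ x, g x) : d.Ph _) : G) = _
    rw [map_prod φ]
    refine congrArg Subtype.val (Fintype.prod_equiv (MulAction.toPerm k) _ _ fun x => ?_)
    by_cases hx : x ∈ Submodule.span F {v, w}
    · have hx' : MulAction.toPerm k x ∈ Submodule.span F {v, w} := St.mem hk.2 hx
      simp only [g, dif_pos hx, dif_pos hx']
      exact Subtype.ext (s.eqv k hk.1 x (hX x hx x hx) 1 one)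
    · have hx' : MulAction.toPerm k x ∉ Submodule.span F {v, w} := fun e => hx ((hk.2 x).2 e)
      simp only [g, dif_neg hx, dif_neg hx', map_one]
  · rintro ⟨x, y⟩ ⟨x', y'⟩ e
    dsimp only at e
    have := LinearIndependent.pair_iff.1 hi (x - x') (y - y') (by
      rw [sub_smul, sub_smul, sub_add_sub_comm, e, sub_self])
    rw [sub_eq_zero.1 this.1, sub_eq_zero.1 this.2]
  · intro x hx
    refine dif_neg fun e => hx ?_
    obtain ⟨a, b, rfl⟩ := Submodule.mem_span_pair.1 e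
    exact ⟨(a, b), rfl⟩
  · intro p
    simp only [g, dif_pos (mX p.1 p.2)]
    rfl

end Cfsg.Agent.U4t
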