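import Mathlib
import Cfsg.Agent.U4t.Cfg3
import Cfsg.Agent.U4t.PtB
import Cfsg.Agent.U4t.R2k

/-! The commutator relation `r2`. -/

set_option autoImplicit false
set_option linter.unusedSectionVars false

namespace Cfsg.Agent.U4t

open Cfsg Cfsg.Agent.Cl Cfsg.Agent.Loc.Mss Subgroup Module
open Cfsg.Agent.StdB (C1 mem_C1 El)
open scoped commutatorElement

variable {F : Type*} [Field F] [Finite F] [CharP F 2] {σ : F →+* F} {V : Type*} [AddCommGroup V] [Module F V]
  [Finite V] {B : V →ₗ[F] V →ₛₗ[σ] F} {q : ℕ} {G : Type*} [Group G] [Finite G]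

namespace R2a

open R2k

theorem tyt {a a' x x' ζ z : G} (h1 : x * a' = a' * x * ζ) (h2 : x' * a = a * x' * ζ) (h3 : Commute x a)
    (h4 : Commute x' a') (c1 : Commute ζ a) (c2 : Commute ζ a') (c3 : Commute ζ x) (c4 : Commute ζ x')
    (ζ2 : ζ * ζ = 1) (x2 : x * x = 1) (x2' : x' * x' = 1) (h5 : x * x' = x' * x * z) :
    a * x * (a' * x') * (a * x * (a' * x')) = a * a' * (a * a') * z := by
  have e1 : a * x * (a' * x') = a * a' * (x * x') * ζ :=
    calc _ = a * (x * a') * x' := by group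
      _ = a * a' * x * (ζ * x') := by rw [h1]; group
      _ = _ := by rw [c4.eq]; group
  have e2 : Commute (x * x') (a * a') :=
    calc _ = x * (x' * a) * a' := by group
      _ = x * a * x' * (ζ * a') := by rw [h2]; group
      _ = a * x * (x' * a') * ζ := by rw [h3.eq, c2.eq]; group
      _ = a * (x * a') * x' * ζ := by rw [h4.eq]; group
      _ = a * a' * x * (ζ * x') * ζ := by rw [h1]; group
      _ = a * a' * (x * x') * (ζ * ζ) := by rw [c4.eq]; group
      _ = _ := by rw [ζ2, mul_one]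
  rw [e1, sq_cen ((c1.mul_right c2).mul_right (c3.mul_right c4)) ζ2, e2.mul_mul_mul_comm]
  congr 1
  calc _ = x * x' * (x' * x * z) := by rw [← h5]
    _ = x * (x' * x') * x * z := by group
    _ = _ := by rw [x2', mul_one, x2, one_mul]

variable {c : Cfg B q G} {s : c.Pt} {e w w' w'' e' v v' : V} {μ ν : F}

variable (s) in
/-- The relation with parameter `μ`. -/
structure Rl (e w w' : V) (μ : F) : Prop where
  fix : σ μ = μ
  eq : s.xs e w * s.xs e w' = s.xs e w' * s.xs e w * s.zs e (B w w' + B w' w) * c.z e μ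

theorem Rl.uniq (r : Rl s e w w' μ) (r' : Rl s e w w' ν) (he : e ≠ 0) (ee : B e e = 0) : μ = ν :=
  c.z_inj ⟨he, ee⟩ r.fix r'.fix (mul_left_cancel (r.eq.symm.trans r'.eq))

theorem rl_zero (o : Ok B e w) (o' : Ok B e w') (h0 : B w w' = 0) : Rl s e w w' 0 := by
  have h1 := c.sp.zero_symm h0
  refine ⟨map_zero _, ?_⟩
  rw [h0, h1, add_zero, s.zs_zero o.ee, c.z_zero, mul_one, mul_one]
  refine s.xs_xs (ti_span (S := {e, w, w'}) ?_) (Submodule.subset_span (by simp)) (Submodule.subset_span (by simp))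
    (Submodule.subset_span (by simp)) (Submodule.subset_span (by simp))
  simp [o.ee, o.we, o.ww, o'.we, o'.ww, h0, h1, c.sp.zero_symm o.we, c.sp.zero_symm o'.we]

theorem rl_ex (h : s.Pl) (ht : c.Tight) (he : e ≠ 0) (o : Ok B e w) (o' : Ok B e w') :
    ∃ μ, Rl s e w w' μ := by
  by_cases ne : B w w' = 0
  · exact ⟨0, rl_zero o o' ne⟩
  have hτ := tr_fix c.sp w w'
  have a2 := s.xs_sq o.ee o.we o.ww
  have a2' := s.xs_sq o.ee o'.we o'.ww
  obtain ⟨b, hb, e1⟩ := s.loc ht ⟨he, o.ee⟩ (y := s.xs e w * s.xs e w' * (s.xs e w * s.xs e w'))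
    (cenQ ⟨he, o.ee⟩ fun u r hu hr => by
      have p := tr_fix c.sp w u
      have p' := tr_fix c.sp w' u
      rw [← conj_mul, ← conj_mul, h.Q_xs o.ee o.we o.ww hu hr, h.Q_xs o.ee o'.we o'.ww hu hr,
        (ζα s o' p).mul_mul_mul_comm, ← s.add e o.ee _ _ p p']
      have p'' := (map_add σ _ _).trans (congrArg₂ (· + ·) p p')
      exact sq_cen ((ζα s o p'').mul_right (ζα s o' p'')) (s.zs_sq o.ee p'')) hτ (by
      rw [tt, tt, s.t_xs o.ee o.we o.ww, s.t_xs o.ee o'.we o'.ww]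
      exact tyt (by rw [h.x_xs o.ee o'.we o'.ww o.we o.ww, add_comm]) (h.x_xs o.ee o.we o.ww o'.we o'.ww)
        (xα h o o (by rw [o.ww, add_zero])) (xα h o' o' (by rw [o'.ww, add_zero])) (ζα s o hτ) (ζα s o' hτ)
        (ζx s o hτ) (ζx s o' hτ) (s.zs_sq o.ee hτ) (c.x_sq o.ee o.we o.ww) (c.x_sq o.ee o'.we o'.ww)
        (c.x_comm o.ee o.we o.ww o'.we o'.ww))
  have e2 : ∀ y, s.xs e w * s.xs e w' * (s.xs e w * s.xs e w') = y →
      s.xs e w * s.xs e w' = s.xs e w' * s.xs e w * y := fun y ey => by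
    rw [← ey]
    calc _ = s.xs e w' * (s.xs e w * s.xs e w) * s.xs e w' * (s.xs e w * s.xs e w') := by
          rw [a2, mul_one, a2', one_mul]
      _ = _ := by group
  rcases e1 with e1 | e1
  · exact ⟨b, hb, by rw [mul_assoc (_ * _)]; exact e2 _ e1⟩
  exfalso
  refine x_ne (c := c) he o o' ne hτ ?_
  have t1 := s.t_xs o.ee o.we o.ww
  have t2 := s.tz e o.ee _ hτ
  have c1 := ζα s o hτ
  have c2 := zα s o hb
  have c3 := ζz s o.ee hτ hb
  have c4 := c.t_z e b
  have c5 := c.t_x e w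
  have c6 := c.t_z e (B w w' + B w' w)
  have c7 := c.z_perp o.ee o.ee o.ee hb hτ
  have c8 := ζz s o.ee hτ hτ
  have z2 := s.zs_sq o.ee hτ
  have z2' := c.z_sq o.ee b
  have z3 := c.z_sq o.ee (B w w' + B w' w)
  have tt := c.t2
  generalize s.xs e w = a, s.xs e w' = a', s.zs e (B w w' + B w' w) = ζ, c.z e b = z, c.x e w = x,
    c.z e (B w w' + B w' w) = z', c.t = t at *
  have k1 : a * (ζ * z * t) * a * (ζ * z * t) = 1 := by
    rw [← e1]
    calc _ = (a * a) * a' * a * a' * (a * a) * a' * a * a' := by group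
      _ = a' * a * (a' * a') * a * a' := by rw [a2]; group
      _ = _ := by rw [a2', mul_one, mul_assoc a', a2, mul_one, a2']
  have k2 : a * (ζ * z * t) * a = ζ * z * t * x :=
    calc _ = (ζ * z) * a * t * a := by rw [(c1.mul_left c2).eq]; group
      _ = ζ * z * (a * (t * a * t)) * t := by
        rw [show ζ * z * (a * (t * a * t)) * t = ζ * z * a * t * a * (t * t) by group, tt, mul_one]
      _ = ζ * z * (a * a) * (x * t) := by rw [t1]; group
      _ = _ := by rw [a2, ← c5]; group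
  have k3 : ζ * z * t * z' * (ζ * z * t) = 1 :=
    calc _ = ζ * z * (t * z') * (t * t) * ζ * (z * t) := by rw [tt]; group
      _ = ζ * z * z' * (t * t) * (t * ζ * t) * z := by rw [c6, ← c4]; group
      _ = ζ * z * (z' * ζ) * z' * z := by rw [t2, tt]; group
      _ = ζ * (z * ζ) * (z' * z') * z := by rw [← c8.eq]; group
      _ = (ζ * ζ) * (z * z) := by rw [← c3.eq, z3]; group
      _ = 1 := by rw [z2, z2', mul_one]
  rw [k2, ← k3] at k1
  exact mul_left_cancel (mul_right_cancel k1)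

theorem Rl.eqv (r : Rl s e w w' μ) (o : Ok B e w) (o' : Ok B e w') {g : SG F V} (hg : g ∈ SU B) :
    Rl s (g • e) (g • w) (g • w') μ := by
  refine ⟨r.fix, ?_⟩
  rw [← s.xs_eqv hg o.ee o.we o.ww, ← s.xs_eqv hg o.ee o'.we o'.ww, SU_map hg, SU_map hg,
    ← s.eqv g hg e o.ee _ (tr_fix c.sp w w'), ← c.z_eqv hg o.ee r.fix, conj_mul, conj_mul, conj_mul, conj_mul,
    r.eq]

theorem Rl.sm (h : s.Pl) {a : F} (r : Rl s (a • e) w w' μ) (o : Ok B e w) (o' : Ok B e w') :
    Rl s e (σ a • w) (σ a • w') (μ * (a * σ a)) := by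
  refine ⟨by rw [map_mul, r.fix, n_fix c.sp], ?_⟩
  have := r.eq
  rw [h.xs_sm o.ee o.we o.ww, h.xs_sm o.ee o'.we o'.ww, s.sm e o.ee _ _ (tr_fix c.sp w w'), c.z_sm] at this
  rw [this]
  congr 3
  simp only [map_smul, LinearMap.smul_apply, LinearMap.map_smulₛₗ, c.sp.ss, smul_eq_mul]
  ring

theorem Rl.tr (h : s.Pl) (r : Rl s e w w' μ) (he : e ≠ 0) (o : Ok B e w) (o' : Ok B e w') (he' : e' ≠ 0)
    (p : Ok B e' v) (p' : Ok B e' v') (eq : B w w' = B v v') : Rl s e' v v' μ := by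
  by_cases ne : B w w' = 0
  · rw [r.uniq (rl_zero o o' ne) he o.ee]
    exact rl_zero p p' (eq ▸ ne)
  obtain ⟨g, hg, ξ, hξ, g1, g2, g3⟩ := geo c.sp he o o' he' p p' ne eq
  have := r.eqv o o' hg
  rw [g1, g2, g3] at this
  have := this.sm h (p.sm ξ) (p'.sm ξ)
  rwa [smul_smul, smul_smul, hξ, mul_comm (σ ξ), hξ, one_smul, one_smul, mul_one] at this

theorem Rl.symm (r : Rl s e w w' μ) (o : Ok B e w) : Rl s e w' w μ := by
  refine ⟨r.fix, ?_⟩
  have hτ := tr_fix c.sp w w'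
  rw [r.eq, add_comm (B w' w), mul_assoc (_ * _), mul_assoc (_ * _), mul_assoc (_ * _),
    ← mul_assoc (s.zs _ _) (c.z _ _), sq_cen (ζz s o.ee hτ r.fix).symm (c.z_sq o.ee _), s.zs_sq o.ee hτ, mul_one]

theorem Rl.add (h : s.Pl) {a b : F} (r : Rl s e w (a • w') μ) (r' : Rl s e w (b • w') ν) (o : Ok B e w)
    (o' : Ok B e w') : Rl s e w ((a + b) • w') (μ + ν) := by
  refine ⟨by rw [map_add, r.fix, r'.fix], ?_⟩
  have p := tr_fix c.sp w (a • w')
  have p' := tr_fix c.sp w (b • w')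
  rw [h.xs_add o.ee o'.we o'.ww, c.z_add o.ee r.fix r'.fix, show B w ((a + b) • w') + B ((a + b) • w') w =
    B w (b • w') + B (b • w') w + (B w (a • w') + B (a • w') w) by simp [add_smul]; ring, s.add e o.ee _ _ p' p,
    ← mul_assoc, r.eq]
  have c1 := (ζα s (o'.sm b) p).mul_left (zα s (o'.sm b) r.fix)
  have c2 := ζz s o.ee p r'.fix
  have c3 := c.z_perp o.ee o.ee o.ee r.fix r'.fix
  have e1 := r'.eq
  generalize s.xs e w = α, s.xs e (a • w') = β, s.xs e (b • w') = γ, s.zs e (B w (a • w') + B (a • w') w) = ζ,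
    s.zs e (B w (b • w') + B (b • w') w) = ζ', c.z e μ = z, c.z e ν = z' at *
  calc _ = β * α * (ζ * z * γ) := by group
    _ = β * (α * γ) * ζ * z := by rw [c1.eq]; group
    _ = β * γ * α * ζ' * (z' * ζ) * z := by rw [e1]; group
    _ = β * γ * α * ζ' * ζ * (z' * z) := by rw [← c2.eq]; group
    _ = _ := by rw [← c3]; group

end R2a

open R2k R2a in
theorem Cfg.Pt.Pl.r2a {c : Cfg B q G} {s : c.Pt} (h : s.Pl) (ht : c.Tight) : ∃ δ, σ δ = δ ∧
    ∀ e w w', B e e = 0 → B w e = 0 → B w w = 0 → B w' e = 0 → B w' w' = 0 →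
      s.xs e w * s.xs e w' = s.xs e w' * s.xs e w * s.zs e (B w w' + B w' w) * c.z e (δ * (B w w' + B w' w)) := by
  obtain ⟨e, w, w', he, o, o', p, p'⟩ := base c.sp
  choose ψ hψ using fun a : F => rl_ex h ht he o (o'.sm a)
  have hB : ∀ a, B w (a • w') = σ a := fun a => by simp [p]
  have h1 : ∀ a b, ψ (a + b) = ψ a + ψ b := fun a b => (hψ _).uniq ((hψ a).add h (hψ b) o o') he o.ee
  have h2 : ∀ a, ψ (σ a) = ψ a := fun a => (hψ _).uniq (((hψ a).symm o).tr h he (o'.sm a) o he o (o'.sm _)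
    (by simp [p, p', c.sp.ss])) he o.ee
  have h3 : ∀ k, σ k = k → ∀ a, ψ (k * a) = ψ a * k := fun k hk a => by
    obtain ⟨l, rfl⟩ := c.sp.uf.exists_norm_eq hk
    by_cases l0 : l = 0
    · rw [l0, zero_mul, zero_mul, mul_zero]
      exact (hψ 0).uniq (rl_zero o (o'.sm 0) (by simp)) he o.ee
    refine (hψ _).uniq ((((hψ a).tr h he o (o'.sm a) (smul_ne_zero l0 he) (o.sml l) ((o'.sm a).sml l) rfl).sm h
      o (o'.sm a)).tr h he (o.sm _) ((o'.sm a).sm _) he o (o'.sm _) ?_) he o.ee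
    simp only [map_smul, LinearMap.smul_apply, LinearMap.map_smulₛₗ, c.sp.ss, smul_eq_mul, map_mul]
    ring
  obtain ⟨ω, hω⟩ := c.sp.exists_omega
  have h4 : ψ 1 = 0 := by rw [← hω, h1, h2, CharTwo.add_self_eq_zero]
  have h5 : ∀ a, ψ a = ψ ω * (a + σ a) := fun a => by
    have k1 : σ (a + σ a) = a + σ a := by rw [map_add, c.sp.ss, add_comm]
    have k2 : σ (a + (a + σ a) * ω) = a + (a + σ a) * ω := by
      rw [map_add, map_mul, k1]
      grind
    calc _ = ψ ((a + (a + σ a) * ω) * 1 + (a + σ a) * ω) := by congr 1; grind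
      _ = _ := by rw [h1, h3 _ k2, h3 _ k1, h4, zero_mul, zero_add]
  refine ⟨ψ ω, (hψ ω).fix, fun e' v v' a1 a2 a3 a4 a5 => ?_⟩
  by_cases e0 : e' = 0
  · subst e0
    rw [s.xs_symm a1 a2 a3, s.xs_symm a1 a4 a5, s.xs_zero a3, s.xs_zero a5, s.zs_zero_left (tr_fix c.sp _ _),
      c.z_zero_left, mul_one, mul_one, mul_one]
  have := ((hψ (B v' v)).tr h he o (o'.sm _) e0 ⟨a1, a2, a3⟩ ⟨a1, a4, a5⟩ (by rw [hB, c.sp.symm])).eq
  rwa [h5, c.sp.symm, add_comm (B v' v)] at this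

end Cfsg.Agent.U4t
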