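import Mathlib
import Cfsg.Agent.U4t.Cfg3
import Cfsg.Agent.U4t.PtB
import Cfsg.Agent.U4t.R2k

/-! The relation `r3z`. -/

set_option autoImplicit false
set_option linter.unusedSectionVars false

namespace Cfsg.Agent.U4t

open Cfsg Cfsg.Agent.Cl Cfsg.Agent.Loc.Mss Subgroup Module
open Cfsg.Agent.StdB (C1 mem_C1 El)
open scoped commutatorElement

variable {F : Type*} [Field F] [Finite F] [CharP F 2] {σ : F →+* F} {V : Type*} [AddCommGroup V] [Module F V]
  [Finite V] {B : V →ₗ[F] V →ₛₗ[σ] F} {q : ℕ} {G : Type*} [Group G] [Finite G]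

namespace R2b

open R2k

variable {c : Cfg B q G} {s : c.Pt} {e w w' e' v v' : V} {μ ν : F}

variable (s) in
/-- The relation with parameter `μ`. -/
structure Rl (e w w' : V) (μ : F) : Prop where
  fix : σ μ = μ
  eq : s.xs e (w + w') = s.xs e w * s.xs e w' * s.zs e (B w' w) * c.z e μ

theorem three {a b d x y z : G} (h1 : Commute x b) (h2 : Commute x d) (h3 : Commute y d) :
    a * x * (b * y) * (d * z) = a * b * d * (x * y * z) := by
  rw [h1.mul_mul_mul_comm, (h2.mul_left h3).mul_mul_mul_comm]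

theorem tr0 (h : Sp B q) (hs : σ (B w' w) = B w' w) : B w w' + B w' w = 0 := by
  rw [← h.symm w' w, hs, CharTwo.add_self_eq_zero]

theorem rl_ex (h : s.Pl) (ht : c.Tight)
    (h2 : ∀ w w', Ok B e w → Ok B e w' → B w w' + B w' w = 0 → Commute (s.xs e w) (s.xs e w'))
    (he : e ≠ 0) (o : Ok B e w) (o' : Ok B e w') (ne : B w w' ≠ 0) (hs : σ (B w' w) = B w' w) :
    ∃ μ, Rl s e w w' μ := by
  have t0 := tr0 c.sp hs
  have t0' : B w' w + B w w' = 0 := by rw [add_comm, t0]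
  have o'' := o.add o' t0
  have t1 : B w (w + w') + B (w + w') w = 0 := by simpa [o.ww] using t0
  have t2 : B w' (w + w') + B (w + w') w' = 0 := by simpa [o'.ww] using t0'
  have a2 := s.xs_sq o.ee o.we o.ww
  have a2' := s.xs_sq o.ee o'.we o'.ww
  obtain ⟨b, hb, e1⟩ := s.loc ht ⟨he, o.ee⟩ (y := s.xs e (w + w') * s.xs e w' * s.xs e w)
    (cenQ ⟨he, o.ee⟩ fun u r hu hr => by
      have p := tr_fix c.sp w u
      have p' := tr_fix c.sp w' u
      have p'' := tr_fix c.sp (w + w') u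
      rw [← conj_mul, ← conj_mul, h.Q_xs o.ee o.we o.ww hu hr, h.Q_xs o.ee o'.we o'.ww hu hr,
        h.Q_xs o.ee o''.we o''.ww hu hr, three (ζα s o' p'') (ζα s o p'') (ζα s o p'),
        ← s.add e o.ee _ _ p'' p', ← s.add e o.ee _ _ (by rw [map_add, p'', p']) p,
        show B (w + w') u + B u (w + w') + (B w' u + B u w') + (B w u + B u w) = 0 by
          simp only [map_add, LinearMap.add_apply]; grind, s.zs_zero o.ee, mul_one]) hs (by
      rw [tt, tt, s.t_xs o.ee o.we o.ww, s.t_xs o.ee o'.we o'.ww, s.t_xs o.ee o''.we o''.ww,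
        three (xα h o' o'' t2) (xα h o o'' t1) (xα h o o' t0)]
      congr 1
      have x1 := c.x_mul o.ee o'.we o'.ww o.we o.ww (by rw [c.sp.symm, ← c.sp.symm w' w, hs])
      rw [mul_assoc, x1, add_comm w', ← mul_assoc, c.x_sq o.ee o''.we o''.ww, one_mul, ← c.sp.symm w' w, hs])
  have c1 := (ζα s o hs).mul_left (zα s o hb)
  rcases e1 with e1 | e1
  · refine ⟨b, hb, ?_⟩
    rw [mul_assoc (_ * _), ← (c1.mul_right ((ζα s o' hs).mul_left (zα s o' hb))).eq, ← e1]
    calc _ = s.xs e (w + w') * (s.xs e w' * (s.xs e w * s.xs e w) * s.xs e w') := by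
          rw [a2, mul_one, a2', mul_one]
      _ = _ := by group
  exfalso
  refine x_ne (c := c) he o o' ne (map_zero σ) ?_
  have c2 := ((h2 _ _ o o'' t1).mul_right (h2 _ _ o o' t0)).mul_right (Commute.refl (s.xs e w))
  rw [e1] at c2
  have c3 : s.xs e w * c.t = c.t * s.xs e w := by
    have := c2.eq
    rwa [← mul_assoc, ← c1.eq, mul_assoc, mul_assoc _ c.t, mul_right_inj] at this
  have := s.t_xs o.ee o.we o.ww
  rw [← c3, mul_assoc, c.t2, mul_right_inj] at this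
  rw [← this, c.z_zero]

theorem Rl.eqv (r : Rl s e w w' μ) (o : Ok B e w) (o' : Ok B e w') (hs : σ (B w' w) = B w' w) {g : SG F V}
    (hg : g ∈ SU B) : Rl s (g • e) (g • w) (g • w') μ := by
  have o'' := o.add o' (tr0 c.sp hs)
  refine ⟨r.fix, ?_⟩
  rw [← smul_add, ← s.xs_eqv hg o.ee o.we o.ww, ← s.xs_eqv hg o.ee o'.we o'.ww, ← s.xs_eqv hg o.ee o''.we o''.ww,
    SU_map hg, ← s.eqv g hg e o.ee _ hs, ← c.z_eqv hg o.ee r.fix, conj_mul, conj_mul, conj_mul, r.eq]

theorem Rl.sm (h : s.Pl) {a : F} (r : Rl s (a • e) w w' μ) (o : Ok B e w) (o' : Ok B e w')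
    (hs : σ (B w' w) = B w' w) : Rl s e (σ a • w) (σ a • w') (μ * (a * σ a)) := by
  have o'' := o.add o' (tr0 c.sp hs)
  refine ⟨by rw [map_mul, r.fix, n_fix c.sp], ?_⟩
  have := r.eq
  rw [h.xs_sm o.ee o.we o.ww, h.xs_sm o.ee o'.we o'.ww, h.xs_sm o.ee o''.we o''.ww, s.sm e o.ee _ _ hs,
    c.z_sm, smul_add] at this
  rw [this]
  congr 3
  simp only [map_smul, LinearMap.smul_apply, LinearMap.map_smulₛₗ, c.sp.ss, smul_eq_mul]
  ring

theorem sm_fix (h : Sp B q) (hs : σ (B w' w) = B w' w) (a : F) :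
    σ (B (a • w') (a • w)) = B (a • w') (a • w) := by
  simp only [map_smul, LinearMap.smul_apply, LinearMap.map_smulₛₗ, h.ss, smul_eq_mul, map_mul, hs]
  ring

theorem Rl.tr (h : s.Pl) (r : Rl s e w w' μ) (he : e ≠ 0) (o : Ok B e w) (o' : Ok B e w') (he' : e' ≠ 0)
    (p : Ok B e' v) (p' : Ok B e' v') (ne : B w w' ≠ 0) (hs : σ (B w' w) = B w' w) (eq : B w w' = B v v') :
    Rl s e' v v' μ := by
  obtain ⟨g, hg, ξ, hξ, g1, g2, g3⟩ := geo c.sp he o o' he' p p' ne eq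
  have := r.eqv o o' hs hg
  rw [g1, g2, g3] at this
  have := this.sm h (p.sm ξ) (p'.sm ξ) (sm_fix c.sp (by rwa [← c.sp.symm v v', ← eq, c.sp.symm]) ξ)
  rwa [smul_smul, smul_smul, hξ, mul_comm (σ ξ), hξ, one_smul, one_smul, mul_one] at this

end R2b

open R2k R2b in
theorem Cfg.Pt.Pl.r2b {c : Cfg B q G} {s : c.Pt} (h : s.Pl) (ht : c.Tight) {δ : F} (hδ : σ δ = δ)
    (h2 : ∀ e w w', B e e = 0 → B w e = 0 → B w w = 0 → B w' e = 0 → B w' w' = 0 →
      s.xs e w * s.xs e w' = s.xs e w' * s.xs e w * s.zs e (B w w' + B w' w) * c.z e (δ * (B w w' + B w' w))) :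
    s.R2 δ := by
  obtain ⟨e, w, w', he, o, o', p, p'⟩ := base c.sp
  have p1 : σ (B w' w) = B w' w := by rw [p', map_one]
  obtain ⟨d, hd⟩ := rl_ex h ht (fun w w' o o' t => by
    have := h2 e w w' o.ee o.we o.ww o'.we o'.ww
    rwa [t, mul_zero, s.zs_zero o.ee, c.z_zero, mul_one, mul_one] at this) he o o' (p ▸ one_ne_zero) p1
  have key : ∀ e' v v', e' ≠ 0 → Ok B e' v → Ok B e' v' → B v' v ≠ 0 → σ (B v' v) = B v' v →
      Rl s e' v v' (d * B v' v) := fun e' v v' he' r r' ne hs => by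
    obtain ⟨l, hl⟩ := c.sp.uf.exists_norm_eq hs
    have l0 : l ≠ 0 := fun e => ne (by rw [← hl, e, zero_mul])
    have hB : B (σ l • w) (σ l • w') = B v v' := by
      rw [← c.sp.symm v' v, hs, ← hl]
      simp [p, c.sp.ss]
    rw [← hl]
    exact ((hd.tr h he o o' (smul_ne_zero l0 he) (o.sml l) (o'.sml l) (p ▸ one_ne_zero) p1 rfl).sm h
      o o' p1).tr h he (o.sm _) (o'.sm _) he' r r' (hB ▸ fun e => ne (c.sp.zero_symm e)) (sm_fix c.sp p1 _) hB
  obtain rfl : d = δ := by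
    obtain ⟨ω, hω⟩ := c.sp.exists_omega
    have ω0 : ω ≠ 0 := fun e => by simp [e] at hω
    have ω1 : 1 + ω = σ ω := by grind
    have hN : ∀ a : F, B (a • w') (a • w) = a * σ a := fun a => by simp [p', mul_comm]
    have k : ∀ a : F, a ≠ 0 → s.xs e (a • (w + w')) =
        s.xs e (a • w) * s.xs e (a • w') * s.zs e (a * σ a) * c.z e (d * (a * σ a)) := fun a a0 => by
      rw [smul_add, (key e _ _ he (o.sm a) (o'.sm a) (hN a ▸ mul_ne_zero a0 ((map_ne_zero σ).2 a0))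
        (sm_fix c.sp p1 a)).eq, hN]
    have o'' := o.add o' (tr0 c.sp p1)
    have e1 := h.xs_add o.ee o''.we o''.ww 1 ω
    rw [k 1 one_ne_zero, k ω ω0, k _ (ω1 ▸ (map_ne_zero σ).2 ω0), h.xs_add o.ee o.we o.ww,
      h.xs_add o.ee o'.we o'.ww, ω1, c.sp.ss, mul_comm (σ ω), one_smul, one_smul, map_one, mul_one, mul_one] at e1
    have e2 := h2 e (ω • w) w' o.ee (o.sm ω).we (o.sm ω).ww o'.we o'.ww
    rw [show B (ω • w) w' + B w' (ω • w) = 1 by simp [p, p', hω], mul_one] at e2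
    have c1 := (ζα s (o.sm ω) (map_one σ)).mul_left (zα s (o.sm ω) hd.fix)
    refine c.z_inj ⟨he, o.ee⟩ hd.fix hδ ?_
    generalize s.xs e w = a, s.xs e w' = b, s.xs e (ω • w) = a', s.xs e (ω • w') = b', s.zs e 1 = ζ,
      c.z e d = z, c.z e δ = z', s.zs e (ω * σ ω) = y, c.z e (d * (ω * σ ω)) = y' at *
    have e3 : a * (b * a' * ζ * z') * (b' * y * y') = a * (b * a' * ζ * z) * (b' * y * y') :=
      calc _ = a * a' * (b * b') * y * y' := by rw [← e2]; group
        _ = a * b * (ζ * z * a') * (b' * y * y') := by rw [e1]; group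
        _ = _ := by rw [c1.eq]; group
    exact (mul_left_cancel (mul_left_cancel (mul_right_cancel e3))).symm
  refine ⟨h, hδ, h2, fun e' u v a1 a2 a3 a4 a5 a ha => ?_⟩
  have hs : σ (a * (B u v * B v u)) = a * (B u v * B v u) := by
    rw [map_mul, map_mul, ha, c.sp.symm, c.sp.symm, mul_comm (B v u)]
  have r : Ok B e' u := ⟨a1, a2, a3⟩
  have r' : Ok B e' ((a * B u v) • v) := Ok.sm ⟨a1, a4, a5⟩ _
  have hB : B ((a * B u v) • v) u = a * (B u v * B v u) := by simp [mul_assoc]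
  have e1 : s.xs e' (u + (a * B u v) • v) = s.xs e' u * s.xs e' ((a * B u v) • v) *
      s.zs e' (a * (B u v * B v u)) * c.z e' (d * (a * (B u v * B v u))) := by
    by_cases e0 : e' = 0
    · subst e0
      have r'' := r.add r' (tr0 c.sp (hB ▸ hs))
      rw [s.xs_symm a1 a2 a3, s.xs_symm a1 r'.we r'.ww, s.xs_symm a1 r''.we r''.ww, s.xs_zero a3, s.xs_zero r'.ww,
        s.xs_zero r''.ww, s.zs_zero_left hs, c.z_zero_left, mul_one, mul_one, mul_one]
    by_cases c0 : a * B u v = 0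
    · rw [← mul_assoc a, c0, zero_smul, zero_mul, mul_zero, add_zero, s.xs_zero a1, s.zs_zero a1, c.z_zero,
        mul_one, mul_one, mul_one]
    rw [← hB]
    exact (key e' _ _ e0 r r' (by
      rw [hB, ← mul_assoc]
      exact mul_ne_zero c0 fun e => c0 (by rw [c.sp.zero_symm e, mul_zero])) (hB ▸ hs)).eq
  have e2 := s.xs_eqv (c.sp.tv_mem a5 ha) a1 a2 a3
  rw [tv_perp a (c.sp.zero_symm a4), tv_smul a5, e1] at e2
  change c.z v a * _ * (c.z v a)⁻¹ = _ at e2
  have c1 : Commute (c.z v a) (s.xs e' ((a * B u v) • v)) :=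
    s.z_xs a5 a1 r'.we r'.ww (c.sp.zero_symm a4) (by simp [a5]) ha
  have c2 : Commute (c.z v a) (s.zs e' (a * (B u v * B v u))) :=
    (s.zs_z a1 (c.sp.zero_symm a4) a5 hs ha).symm
  have c3 : Commute (c.z v a) (c.z e' (d * (a * (B u v * B v u)))) :=
    c.z_perp a5 (c.sp.zero_symm a4) a1 ha (by rw [map_mul, hδ, hs])
  have a2 := s.xs_sq a1 a2 a3
  rw [mul_assoc (c.z v a), mul_assoc (c.z v a), ((c1.mul_right c2).mul_right c3).eq]
  calc _ = s.xs e' u * (c.z v a * s.xs e' u * (c.z v a)⁻¹) * c.z v a := by group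
    _ = _ := by rw [e2, ← mul_assoc, ← mul_assoc, ← mul_assoc, a2, one_mul]

end Cfsg.Agent.U4t
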