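import Mathlib
import Cfsg.Agent.U4t.Cfg3
import Cfsg.Agent.U4t.CB
import Cfsg.Agent.GT.CoprimeAbelian

set_option autoImplicit false
set_option linter.unusedSectionVars false

namespace Cfsg.Agent.U4t

open Cfsg Cfsg.Agent.Cl Cfsg.Agent.Loc.Mss Subgroup Module
open Cfsg.Agent.StdB (C1 mem_C1 El)
open scoped commutatorElement

variable {F : Type*} [Field F] [Finite F] [CharP F 2] {σ : F →+* F} {V : Type*} [AddCommGroup V] [Module F V]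
  [Finite V] {B : V →ₗ[F] V →ₛₗ[σ] F} {q : ℕ} {G : Type*} [Group G] [Finite G]

namespace Sec

variable {c : Cfg B q G} (d : c.Zd)

theorem pow_sm {g : SG F V} (hg : g ∈ SU B) {e : V} {l : F} (h : g • e = l • e) (n : ℕ) : g ^ n • e = l ^ n • e := by
  induction n with
  | zero => simp
  | succ n ih => rw [pow_succ', mul_smul, ih, smul_sm_of (fld_SU hg), h, smul_smul, pow_succ]

theorem compl (h0 : d.κ = 0) {e : V} (he : Iso B e) : ∃ W ≤ d.Zh e, c.I (Zv B e) ⊓ W = ⊥ ∧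
    c.I (Zv B e) ⊔ W = d.Zh e ∧ ∀ g ∈ SU B, ∀ l : F, g • e = l • e → c.Ψ g ∈ 𝐍[W] := by
  have h := c.sp
  obtain ⟨u, hu⟩ := IsCyclic.exists_monoid_generator (α := Fˣ)
  obtain ⟨g, hg, eg⟩ := h.exists_SU_iso he (he.sm u.ne_zero)
  obtain ⟨k, m, hm, ek⟩ := Nat.exists_eq_two_pow_mul_odd (orderOf_pos g).ne'
  have g1 := pow_mem hg (2 ^ k)
  have e1 := pow_sm hg eg (2 ^ k)
  have l1 : (u : F) ^ 2 ^ k ≠ 0 := pow_ne_zero _ u.ne_zero
  have n1 : c.Ψ (g ^ 2 ^ k) ∈ 𝐍[d.Zh e] := cj_eq_iff.1 (by rw [← d.eqv _ g1 e he, e1, d.sm e he _ l1])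
  have n2 : c.Ψ (g ^ 2 ^ k) ∈ 𝐍[c.I (Zv B e)] := cj_eq_iff.1 (by
    rw [Zv, h.act_AW c.ker (SU_le_Gam g1) (act_ev g1), mapW_span, e1, Submodule.span_singleton_smul_eq l1.isUnit])
  obtain ⟨W, hW, hn, h1, h2⟩ := GT.CopAct.exists_invariant_complement_of_isElementaryAbelian (p := 2)
    (A := zpowers (c.Ψ (g ^ 2 ^ k))) (V := d.Zh e) (U := c.I (Zv B e))
    ⟨⟨⟨fun x y => Subtype.ext (mem_cent.1 (d.perp e e he he he.iso y.2) x x.2)⟩⟩, fun y hy => by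
      obtain ⟨-, a, ha, k⟩ := (c.mem_Yt he).1 (d.le e he hy)
      rw [pow_two, d.sq e he y hy a ha k, h0, zero_mul, c.z_zero]⟩ (zpowers_le.2 n1) (by
      rw [Nat.card_zpowers, Nat.coprime_two_right]
      refine hm.of_dvd_nat (orderOf_dvd_of_pow_eq_one ?_)
      rw [Cfg.Ψ, ← ev_pow g1, ← pow_mul, ← ek, pow_orderOf_eq_one, ev_one]) (d.ge e he) (zpowers_le.2 n2)
  refine ⟨W, hW, h1, h2, fun x hx l e2 => ?_⟩
  obtain ⟨r, rfl⟩ : ∃ r : F, r ^ 2 ^ k = l := (Finite.surjective_of_injective (iterateFrobenius_inj F 2 k)) l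
  have r0 : r ≠ 0 := by
    rintro rfl
    rw [zero_pow (by positivity), zero_smul] at e2
    exact (smul_ne_zero_iff_ne x).2 he.ne e2
  obtain ⟨j, hj⟩ := hu (Units.mk0 r r0)
  have e3 := pow_sm g1 e1 j
  rw [pow_right_comm (u : F), show (u : F) ^ j = r from congrArg Units.val hj, ← e2] at e3
  have gj := pow_mem g1 j
  have m1 : ((g ^ 2 ^ k) ^ j)⁻¹ * x ∈ M1 B e :=
    mem_M1.2 ⟨mul_mem (inv_mem gj) hx, by rw [mul_smul, ← e3, inv_smul_smul]⟩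
  rw [← mul_inv_cancel_left ((g ^ 2 ^ k) ^ j) x, Cfg.Ψ, ev_mul gj m1.1, ev_pow g1]
  refine mul_mem (pow_mem (hn (mem_zpowers _)) j) (cent_le_norm _ (cent_comm (fun y hy => ?_) (ev_mem_im m1)))
  exact ((c.mem_Yt he).1 (d.le e he (hW hy))).1

theorem fam (h0 : d.κ = 0) : ∃ W : V → Subgroup G, W 0 = ⊥ ∧ (∀ v, Iso B v → W v ≤ d.Zh v) ∧
    (∀ v, B v v = 0 → ∀ y ∈ W v, y * c.t = c.t * y → y = 1) ∧
    (∀ v, B v v = 0 → ∀ a, σ a = a → ∃ y ∈ W v, y * c.t * y⁻¹ = c.t * c.z v a) ∧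
    (∀ g ∈ SU B, ∀ v, cj(c.Ψ g, W v) ≤ W (g • v)) ∧ ∀ v, B v v = 0 → ∀ l : F, W (l • v) ≤ W v := by
  have h := c.sp
  obtain ⟨e, he⟩ := h.exists_iso
  obtain ⟨W, hW, h1, h2, h3⟩ := compl d h0 he
  let Wv : V → Subgroup G := fun v => ⨆ g : {g // g ∈ SU B ∧ g • e = v}, cj(c.Ψ g, W)
  have k0 : ∀ g ∈ SU B, ∀ g' ∈ SU B, ∀ l : F, g • e = l • g' • e → cj(c.Ψ g, W) = cj(c.Ψ g', W) := fun g hg g' hg' l e1 => by
    have m := mul_mem (inv_mem hg') hg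
    rw [← mul_inv_cancel_left g' g, Cfg.Ψ, ev_mul hg' m, ← cj_cj, cj_of_norm (h3 _ m l (by
      rw [mul_smul, e1, smul_sm_of (fld_SU (inv_mem hg')), inv_smul_smul]))]
  have le : ∀ g ∈ SU B, cj(c.Ψ g, W) ≤ Wv (g • e) := fun g hg =>
    le_iSup (fun g' : {g' // g' ∈ SU B ∧ g' • e = g • e} => cj(c.Ψ g', W)) ⟨g, hg, rfl⟩
  have k1 : ∀ g ∈ SU B, ∀ l : F, Wv (l • g • e) ≤ cj(c.Ψ g, W) := fun g hg l =>
    iSup_le fun g' => (k0 _ g'.2.1 g hg l g'.2.2).le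
  have k2 : ∀ g ∈ SU B, Wv (g • e) ≤ cj(c.Ψ g, W) := fun g hg => by simpa using k1 g hg 1
  have b0 : Wv 0 = ⊥ := le_bot_iff.1 (iSup_le fun g => absurd g.2.2 ((smul_ne_zero_iff_ne _).2 he.ne))
  have cs : ∀ v, B v v = 0 → v = 0 ∨ ∃ g ∈ SU B, g • e = v := fun v hv =>
    (eq_or_ne v 0).imp_right fun k => h.exists_SU_iso he ⟨k, hv⟩
  refine ⟨Wv, b0, fun v hv => ?_, fun v hv y hy k => ?_, fun v hv a ha => ?_, fun g hg v => ?_, fun v hv l => ?_⟩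
  · obtain ⟨g, hg, rfl⟩ := h.exists_SU_iso he hv
    rw [d.eqv g hg e he]
    exact (k2 g hg).trans (cj_mono _ hW)
  · rcases cs v hv with rfl | ⟨g, hg, rfl⟩
    · exact b0.le hy
    · have m := mem_cj.1 (k2 g hg hy)
      have := h1.le ⟨d.ker e he _ (hW m) (by
        rw [mul_assoc, ← c.t_Ψ, mul_assoc, ← mul_assoc y, k, ← mul_assoc, ← mul_assoc, ← mul_assoc, ← mul_assoc,
          ← ev_inv hg, ← c.t_Ψ]), m⟩
      rw [mem_bot, mul_assoc, inv_mul_eq_one, eq_comm, mul_eq_right] at this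
      exact this
  · rcases cs v hv with rfl | ⟨g, hg, rfl⟩
    · exact ⟨1, one_mem _, by simp [c.z_zero_left]⟩
    · obtain ⟨y, hy, k⟩ := d.onto e he a ha
      rw [← h2, sup_comm] at hy
      obtain ⟨w, hw, x, hx, rfl⟩ := (mem_sup_norm' (cent_le_norm _ |>.trans' (hW.trans
        ((d.perp e e he he he.iso).trans (cent_anti (d.ge e he)))))).1 hy
      refine ⟨_, le g hg (conj_mem_cj hw), ?_⟩
      have k3 := c.comm_t (im_le_range _ hx)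
      calc _ = c.Ψ g * (w * (x * x⁻¹) * ((c.Ψ g)⁻¹ * (c.t * c.Ψ g)) * w⁻¹) * (c.Ψ g)⁻¹ := by group
        _ = c.Ψ g * (w * (x * c.t) * (w * x)⁻¹) * (c.Ψ g)⁻¹ := by rw [c.t_Ψ, k3]; group
        _ = _ := by rw [← mul_assoc w, k, ← c.z_eqv hg he.iso ha, ← mul_assoc, ← c.t_Ψ]; group
  · rw [Subgroup.map_iSup]
    refine iSup_le ?_
    rintro ⟨g', hg', rfl⟩
    rw [cj_cj, Cfg.Ψ, Cfg.Ψ, ← ev_mul hg hg', ← mul_smul]
    exact le _ (mul_mem hg hg')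
  · rcases cs v hv with rfl | ⟨g, hg, rfl⟩
    · rw [smul_zero]
    · exact (k1 g hg l).trans (le g hg)

end Sec

theorem Cfg.Zd.sec {c : Cfg B q G} (d : c.Zd) (ht : c.Tight) (h0 : d.κ = 0) :
    ∃ s : c.Pt, ∀ v, Iso B v → ∀ a, σ a = a → s.zs v a ∈ d.Zh v := by
  obtain ⟨W, b0, le, ker, ex, eqv, sm⟩ := Sec.fam d h0
  have ex' : ∀ v a, ∃ y, B v v = 0 → σ a = a → y ∈ W v ∧ y * c.t * y⁻¹ = c.t * c.z v a := fun v a => by
    by_cases k : B v v = 0 ∧ σ a = a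
    · exact (ex v k.1 a k.2).imp fun y hy _ _ => hy
    · exact ⟨1, fun h1 h2 => absurd ⟨h1, h2⟩ k⟩
  choose s hs using ex'
  have uq : ∀ v, B v v = 0 → ∀ a, σ a = a → ∀ y ∈ W v, y * c.t * y⁻¹ = c.t * c.z v a → s v a = y :=
    fun v hv a ha y hy e => (inv_mul_eq_one.1 (ker v hv _ (mul_mem (inv_mem hy) (hs v a hv ha).1) (by
      calc y⁻¹ * s v a * c.t = y⁻¹ * (s v a * c.t * (s v a)⁻¹) * s v a := by group
        _ = _ := by rw [(hs v a hv ha).2, ← e]; group))).symm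
  have cm : ∀ v, B v v = 0 → ∀ y ∈ W v, ∀ a, σ a = a → c.z v a * y = y * c.z v a := fun v hv y hy a ha => by
    by_cases v0 : v = 0
    · simp [v0, c.z_zero_left]
    · have hi : Iso B v := ⟨v0, hv⟩
      exact mem_cent.1 (d.perp v v hi hi hv (le v hi hy)) _ (d.ge v hi ((c.mem_IZ hi).2 ⟨a, ha, rfl⟩))
  have s0 : ∀ a, σ a = a → s 0 a = 1 := fun a ha => b0.le (hs 0 a (by simp) ha).1
  refine ⟨⟨s, fun v hv a b ha hb => uq v hv _ (by rw [map_add, ha, hb]) _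
    (mul_mem (hs v a hv ha).1 (hs v b hv hb).1) ?_, fun v hv a ha => ?_, fun g hg v hv a ha =>
    (uq _ ((SU_map hg v v).trans hv) a ha _ (eqv g hg v (conj_mem_cj (hs v a hv ha).1)) ?_).symm,
    fun v hv l a ha => ?_, fun v w hv hwv hw a b ha hb => ?_, fun o ho h2 v hv a ha => ?_⟩,
    fun v hv a ha => le v hv (hs v a hv.iso ha).1⟩
  · calc _ = s v a * (s v b * c.t * (s v b)⁻¹) * (s v a)⁻¹ := by group
      _ = s v a * c.t * (s v a)⁻¹ * (s v a * c.z v b * (s v a)⁻¹) := by rw [(hs v b hv hb).2]; group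
      _ = _ := by rw [(hs v a hv ha).2, ← cm v hv _ (hs v a hv ha).1 b hb, c.z_add hv ha hb]; group
  · rw [← cm v hv _ (hs v a hv ha).1 a ha, mul_assoc, mul_inv_eq_iff_eq_mul.1 (hs v a hv ha).2, ← mul_assoc,
      ← mul_assoc, c.t2, one_mul]
  · calc _ = c.Ψ g * (s v a * ((c.Ψ g)⁻¹ * (c.t * c.Ψ g)) * (s v a)⁻¹) * (c.Ψ g)⁻¹ := by group
      _ = c.Ψ g * c.t * c.z v a * (c.Ψ g)⁻¹ := by rw [c.t_Ψ, inv_mul_cancel_left, (hs v a hv ha).2]; group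
      _ = _ := by rw [← c.t_Ψ, ← c.z_eqv hg hv ha]; group
  · have hl : B (l • v) (l • v) = 0 := by simp [hv]
    exact (uq v hv _ (by rw [map_mul, map_mul, c.sp.ss, ha, mul_comm l]) _ (sm v hv l (hs _ a hl ha).1)
      (by rw [(hs _ a hl ha).2, c.z_sm])).symm
  · by_cases v0 : v = 0
    · rw [v0, s0 a ha, one_mul, mul_one]
    by_cases w0 : w = 0
    · rw [w0, s0 b hb, one_mul, mul_one]
    exact (mem_cent.1 (d.perp v w ⟨v0, hv⟩ ⟨w0, hw⟩ hwv (le v ⟨v0, hv⟩ (hs v a hv ha).1)) _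
      (le w ⟨w0, hw⟩ (hs w b hw hb).1)).symm
  · rcases ht o ho with rfl | rfl
    · rw [one_mul, mul_one]
    · rw [orderOf_eq_prime (p := 2) (by rw [pow_two, c.t2]) c.t1] at h2
      exact absurd h2 (by decide)

end Cfsg.Agent.U4t
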